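import Mathlib

/-!
A transfer criterion for fixed points of an action on an abelian `p`-group, `p` odd: an element
fixed by a Sylow subgroup is fixed by everything as soon as some elementary abelian subgroup of
that Sylow subgroup acts quadratically on the elements of order `p` and controls the stabilizer.
-/

set_option autoImplicit false
set_option linter.style.haveILetI false
set_option linter.unusedSectionVars false

namespace CfsgLib.FusionExamples.FixedTransfer

variable {G D : Type*} [Group G] [CommGroup D] {p : ℕ} [Fact p.Prime] (ρ : G →* MulAut D)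

theorem dvd_sum_range (hp : p ≠ 2) : p ∣ ∑ j ∈ Finset.range p, j := by
  obtain ⟨k, hk⟩ := (Fact.out : p.Prime).odd_of_ne_two hp
  refine ⟨k, ?_⟩
  rw [Finset.sum_range_id, show p - 1 = 2 * k by omega, mul_left_comm,
    Nat.mul_div_cancel_left _ two_pos]

/-- The product over a set of free orbits of a quadratic element of order `p`. -/
theorem prod_mem_of_free (hp : p ≠ 2) {N : Subgroup D} {a : G} (ha : a ^ p = 1) {s : Finset D}
    (hmem : ∀ o ∈ s, ρ a o ∈ s) (hfree : ∀ o ∈ s, ρ a o ≠ o)
    (hd : ∀ o ∈ s, (ρ a o / o) ^ p = 1 ∧ ρ a (ρ a o / o) = ρ a o / o)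
    (hN : ∀ o ∈ s, o ^ p ∈ N) : ∏ o ∈ s, o ∈ N := by
  classical
  induction s using Finset.strongInduction with
  | H s ih =>
    rcases s.eq_empty_or_nonempty with rfl | ⟨o, ho⟩
    · simp
    obtain ⟨hdp, hda⟩ := hd o ho
    set d := ρ a o / o with hdd
    have hao : ρ a o = o * d := by rw [hdd, mul_div_cancel]
    have hd1 : d ≠ 1 := fun h => hfree o ho (by rw [hao, h, mul_one])
    have hstep : ∀ j : ℕ, ρ a (o * d ^ j) = o * d ^ (j + 1) := fun j => by
      rw [map_mul, map_pow, hda, hao, mul_assoc, ← pow_succ']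
    have horb : ∀ j : ℕ, o * d ^ j ∈ s := by
      intro j
      induction j with
      | zero => simpa using ho
      | succ j ihj => rw [← hstep]; exact hmem _ ihj
    set O := (Finset.range p).image fun j => o * d ^ j with hO
    have hOs : O ⊆ s := by
      intro x hx
      obtain ⟨j, -, rfl⟩ := Finset.mem_image.mp hx
      exact horb j
    have hord : orderOf d = p := orderOf_eq_prime hdp hd1
    have hinj : Set.InjOn (fun j => o * d ^ j) (Finset.range p : Set ℕ) := by
      intro i hi j hj hij
      have hi' : i < p := Finset.mem_range.mp hi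
      have hj' : j < p := Finset.mem_range.mp hj
      rw [← hord] at hi' hj'
      exact pow_injOn_Iio_orderOf hi' hj' (mul_left_cancel hij)
    have hprod : ∏ x ∈ O, x = o ^ p * d ^ (∑ j ∈ Finset.range p, j) := by
      rw [hO, Finset.prod_image hinj, Finset.prod_mul_distrib, Finset.prod_const,
        Finset.card_range, Finset.prod_pow_eq_pow_sum]
    have hOmem : ∏ x ∈ O, x ∈ N := by
      obtain ⟨k, hk⟩ := dvd_sum_range (p := p) hp
      rw [hprod, hk, pow_mul, hdp, one_pow, mul_one]
      exact hN o ho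
    have hlt : s \ O ⊂ s := by
      refine Finset.sdiff_ssubset hOs ⟨o, Finset.mem_image.mpr ⟨0, ?_, by simp⟩⟩
      exact Finset.mem_range.mpr (Fact.out : p.Prime).pos
    have hfwd : ∀ x ∈ O, ρ a x ∈ O := by
      intro x hx
      obtain ⟨j, -, rfl⟩ := Finset.mem_image.mp hx
      refine Finset.mem_image.mpr ⟨(j + 1) % p,
        Finset.mem_range.mpr (Nat.mod_lt _ (Fact.out : p.Prime).pos), ?_⟩
      rw [hstep, ← hord, pow_mod_orderOf]
    have hback : ∀ x : D, ρ a x ∈ O → x ∈ O := by
      intro x hx
      have hit : ∀ (k : ℕ), ρ (a ^ k) (ρ a x) ∈ O := by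
        intro k
        induction k with
        | zero => simpa using hx
        | succ k ihk => rw [pow_succ', map_mul, MulAut.mul_apply]; exact hfwd _ ihk
      have := hit (p - 1)
      rwa [← MulAut.mul_apply, ← map_mul, ← pow_succ,
        Nat.sub_add_cancel (Fact.out : p.Prime).one_lt.le, ha, map_one, MulAut.one_apply] at this
    rw [← Finset.prod_sdiff hOs]
    refine N.mul_mem (ih _ hlt (fun x hx => ?_) (fun x hx => hfree x (Finset.mem_sdiff.mp hx).1)
      (fun x hx => hd x (Finset.mem_sdiff.mp hx).1) (fun x hx => hN x (Finset.mem_sdiff.mp hx).1)) hOmem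
    obtain ⟨hxs, hxO⟩ := Finset.mem_sdiff.mp hx
    exact Finset.mem_sdiff.mpr ⟨hmem x hxs, fun h => hxO (hback x h)⟩

variable [Finite G]

/-- The criterion. -/
theorem fixed_of_control (hp : p ≠ 2) (R : Sylow p G) (A : Subgroup G) (hAR : A ≤ (R : Subgroup G))
    (hAc : ∀ a ∈ A, ∀ b ∈ A, a * b = b * a) (hAp : ∀ a ∈ A, a ^ p = 1)
    (hquad : ∀ a ∈ A, ∀ v : D, v ^ p = 1 → ρ a (ρ a v / v) = ρ a v / v) :
    ∀ (n : ℕ) (z : D), z ^ p ^ n = 1 → (∀ r ∈ (R : Subgroup G), ρ r z = z) →
      (∀ g : G, (∀ a ∈ A, g * a * g⁻¹ ∈ (R : Subgroup G)) → ρ g z = z) →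
      ∀ g : G, ρ g z = z := by
  classical
  haveI := Fintype.ofFinite G
  intro n
  induction n with
  | zero =>
    intro z hz _ _ g
    rw [pow_zero, pow_one] at hz
    rw [hz, map_one]
  | succ n ih =>
    intro z hz hR hctrl g
    set w := z ^ p with hw
    have hwfix : ∀ g : G, ρ g w = w :=
      ih w (by rw [hw, ← pow_mul, ← pow_succ']; exact hz)
        (fun r hr => by rw [map_pow, hR r hr]) (fun g hg => by rw [map_pow, hctrl g hg])
    set N : Subgroup D := Subgroup.zpowers w
    have hNfix : ∀ (g : G), ∀ x ∈ N, ρ g x = x := by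
      intro g x hx
      obtain ⟨k, rfl⟩ := Subgroup.mem_zpowers_iff.mp hx
      rw [map_zpow, hwfix]
    have hδp : ∀ g : G, (ρ g z / z) ^ p = 1 := fun g => by
      rw [div_pow, ← map_pow, ← hw, hwfix, div_self']
    -- the product over the orbit
    set O : Finset D := Finset.univ.image fun g => ρ g z with hO
    have hOz : z ∈ O := Finset.mem_image.mpr ⟨1, Finset.mem_univ _, by simp⟩
    have hOinv : ∀ (g : G), ∀ o ∈ O, ρ g o ∈ O := by
      intro g o ho
      obtain ⟨h, -, rfl⟩ := Finset.mem_image.mp ho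
      exact Finset.mem_image.mpr ⟨g * h, Finset.mem_univ _, by simp⟩
    have hAz : ∀ a ∈ A, ρ a z = z := fun a ha => hR a (hAR ha)
    -- the only point fixed by `A`
    have hfixed : ∀ o ∈ O, (∀ a ∈ A, ρ a o = o) → o = z := by
      intro o ho hoA
      obtain ⟨g, -, rfl⟩ := Finset.mem_image.mp ho
      let H : Subgroup G :=
        { carrier := {h | ρ h z = z}
          one_mem' := by simp
          mul_mem' := fun {x y} hx hy => by
            show ρ (x * y) z = z
            rw [map_mul, MulAut.mul_apply, show ρ y z = z from hy, show ρ x z = z from hx]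
          inv_mem' := fun {x} hx => by
            show ρ x⁻¹ z = z
            conv_lhs => rw [← show ρ x z = z from hx]
            rw [map_inv]
            exact (ρ x).symm_apply_apply z }
      have hRH : (R : Subgroup G) ≤ H := fun r hr => hR r hr
      have hgA : A.map (MulAut.conj g⁻¹).toMonoidHom ≤ H := by
        rintro _ ⟨a, ha, rfl⟩
        show ρ (g⁻¹ * a * g⁻¹⁻¹) z = z
        rw [inv_inv, map_mul, map_mul, MulAut.mul_apply, MulAut.mul_apply, hoA a ha, map_inv]
        exact (ρ g).symm_apply_apply z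
      have hpA : IsPGroup p (A.map (MulAut.conj g⁻¹).toMonoidHom) := (R.2.to_le hAR).map _
      obtain ⟨U, hU⟩ := (hpA.comap_of_injective H.subtype H.subtype_injective).exists_le_sylow
      obtain ⟨k, hk⟩ := MulAction.exists_smul_eq H U (R.subtype hRH)
      have hkg : ρ ((k : G) * g⁻¹) z = z := hctrl _ fun a ha => by
        have h1 : k * ⟨_, hgA ⟨a, ha, rfl⟩⟩ * k⁻¹ ∈ (R.subtype hRH : Subgroup H) := by
          rw [← hk, Sylow.coe_subgroup_smul]
          exact ⟨_, hU (show (⟨_, hgA ⟨a, ha, rfl⟩⟩ : H) ∈
            (A.map (MulAut.conj g⁻¹).toMonoidHom).comap H.subtype from ⟨a, ha, rfl⟩), rfl⟩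
        have h2 : (k : G) * (g⁻¹ * a * g⁻¹⁻¹) * (k : G)⁻¹ ∈ (R : Subgroup G) := h1
        convert h2 using 1
        group
      rw [map_mul, MulAut.mul_apply] at hkg
      have h3 : ρ g⁻¹ z = z := (ρ (k : G)).injective (hkg.trans (show ρ (k : G) z = z from k.2).symm)
      conv_lhs => rw [← h3]
      rw [map_inv]
      exact (ρ g).apply_symm_apply z
    -- subsets without fixed points have product in `N`
    have key : ∀ s : Finset D, s ⊆ O → (∀ a ∈ A, ∀ o ∈ s, ρ a o ∈ s) → z ∉ s → ∏ o ∈ s, o ∈ N := by
      intro s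
      induction s using Finset.strongInduction with
      | H s ihs =>
        intro hsO hsA hzs
        rcases s.eq_empty_or_nonempty with rfl | ⟨o, ho⟩
        · simp
        obtain ⟨a, haA, hao⟩ : ∃ a ∈ A, ρ a o ≠ o := by
          by_contra! hcon
          exact hzs (hfixed o (hsO ho) hcon ▸ ho)
        rw [← Finset.prod_filter_mul_prod_filter_not s (fun x => ρ a x ≠ x)]
        refine N.mul_mem (prod_mem_of_free ρ hp (hAp a haA) ?_ ?_ ?_ ?_) ?_
        · intro x hx
          obtain ⟨hxs, hxm⟩ := Finset.mem_filter.mp hx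
          exact Finset.mem_filter.mpr ⟨hsA a haA x hxs, fun h => hxm ((ρ a).injective h)⟩
        · exact fun x hx => (Finset.mem_filter.mp hx).2
        · intro x hx
          obtain ⟨g, -, rfl⟩ := Finset.mem_image.mp (hsO (Finset.mem_filter.mp hx).1)
          have e : ρ a (ρ g z) / ρ g z = ρ a (ρ g z / z) / (ρ g z / z) := by
            rw [map_div, hAz a haA, div_div_div_cancel_right]
          rw [e]
          refine ⟨?_, hquad a haA _ (hδp g)⟩
          rw [div_pow, ← map_pow, hδp g, map_one, div_self']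
        · intro x hx
          obtain ⟨g, -, rfl⟩ := Finset.mem_image.mp (hsO (Finset.mem_filter.mp hx).1)
          rw [← map_pow, ← hw, hwfix]
          exact Subgroup.mem_zpowers w
        · refine ihs _ (Finset.filter_ssubset.mpr ⟨o, ho, fun h => h hao⟩)
            ((Finset.filter_subset _ _).trans hsO) (fun b hb x hx => ?_)
            (fun h => hzs (Finset.mem_filter.mp h).1)
          obtain ⟨hxs, hxm⟩ := Finset.mem_filter.mp hx
          refine Finset.mem_filter.mpr ⟨hsA b hb x hxs, fun h => h ?_⟩
          rw [← MulAut.mul_apply, ← map_mul, hAc a haA b hb, map_mul, MulAut.mul_apply,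
            not_not.mp hxm]
    have hrest := key (O.erase z) (Finset.erase_subset _ _) (fun a ha o ho => ?_)
      (Finset.notMem_erase _ _)
    swap
    · obtain ⟨hne, hoO⟩ := Finset.mem_erase.mp ho
      exact Finset.mem_erase.mpr ⟨fun h => hne ((ρ a).injective (h.trans (hAz a ha).symm)),
        hOinv a o hoO⟩
    have hprod : ∀ g : G, ρ g (∏ o ∈ O, o) = ∏ o ∈ O, o := by
      intro g
      rw [map_prod]
      refine Finset.prod_bij (fun o _ => ρ g o) (fun o ho => hOinv g o ho)
        (fun x _ y _ h => (ρ g).injective h)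
        (fun o ho => ⟨ρ g⁻¹ o, hOinv _ o ho, by rw [map_inv]; exact (ρ g).apply_symm_apply o⟩)
        (fun o _ => rfl)
    -- the displacement lies in `N`
    have hδN : ∀ g : G, ρ g z / z ∈ N := by
      intro g
      have h1 := hprod g
      rw [← Finset.mul_prod_erase O _ hOz, map_mul, hNfix g _ hrest, mul_right_cancel_iff] at h1
      rw [h1, div_self']
      exact N.one_mem
    let δ : G →* N :=
      { toFun := fun g => ⟨ρ g z / z, hδN g⟩
        map_one' := Subtype.ext (by simp)
        map_mul' := fun x y => Subtype.ext (by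
          show ρ (x * y) z / z = (ρ x z / z) * (ρ y z / z)
          have h1 := hNfix x _ (hδN y)
          rw [map_div, div_eq_iff_eq_mul] at h1
          rw [map_mul, MulAut.mul_apply, h1, mul_div_assoc, mul_comm]) }
    have hRk : (R : Subgroup G) ≤ δ.ker := fun r hr =>
      MonoidHom.mem_ker.mpr (Subtype.ext (show ρ r z / z = 1 by rw [hR r hr, div_self']))
    have hrange : IsPGroup p δ.range := by
      rintro ⟨_, g, rfl⟩
      exact ⟨1, Subtype.ext (Subtype.ext (show (ρ g z / z) ^ p ^ 1 = 1 by rw [pow_one, hδp]))⟩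
    obtain ⟨k, hk⟩ := IsPGroup.iff_card.mp hrange
    have hndvd : ¬ p ∣ δ.ker.index :=
      fun h => R.not_dvd_index (h.trans (Subgroup.index_dvd_of_le hRk))
    rw [Subgroup.index_ker, hk] at hndvd
    rcases k.eq_zero_or_pos with rfl | hk0
    · rw [pow_zero, ← Subgroup.eq_bot_iff_card] at hk
      have : δ g = 1 := Subgroup.mem_bot.mp (hk ▸ ⟨g, rfl⟩)
      exact div_eq_one.mp (congrArg Subtype.val this)
    · exact absurd (dvd_pow_self p hk0.ne') hndvd

end CfsgLib.FusionExamples.FixedTransfer
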