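import Cfsg.Agent.Lib.FusionExamples.SmallElements
import Cfsg.Agent.Lib.FusionExamples.FixedTransfer
import Cfsg.Agent.Lib.Alperin.Theorem
import Cfsg.Prelude.Def_FusionComponents
import Cfsg.Agent.Lib.ThompsonJ.Replacement
import Cfsg.Agent.Lib.FusionExamples.Basic
import Cfsg.Agent.Lib.FusionBasics.Normal
import Cfsg.Agent.Lib.FusionSub.LocalTools

/-!
Control of fixed points for odd `p` (Glauberman–Lynd), elementary abelian version: an element of
`Z(S)` fixed by the automizer of `J(S) C_S(J(S))` is fixed by every map of a saturated system.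
-/

set_option autoImplicit false
set_option linter.style.haveILetI false
set_option linter.unusedSectionVars false

open scoped commutatorElement

namespace CfsgLib.FusionExamples.ControlFixed

open Cfsg Cfsg.FusionSystem CfsgLib.Alperin CfsgLib.ThompsonJ

variable {Ω : Type*} [Group Ω] {p : ℕ}

/-- The Thompson subgroup and its centralizer in `P`. -/
def red (p : ℕ) (P : Subgroup Ω) : Subgroup Ω :=
  thompsonSubgroupOf p P ⊔ (P ⊓ Subgroup.centralizer (thompsonSubgroupOf p P : Set Ω))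

theorem red_le (P : Subgroup Ω) : red p P ≤ P :=
  sup_le (thompsonSubgroupOf_le p P) inf_le_left

open Classical in
/-- The largest order of an elementary abelian subgroup. -/
noncomputable def ecard (p : ℕ) (P : Subgroup Ω) : ℕ :=
  if h : ∃ A, IsMaxEA p P A then Nat.card h.choose else 0

theorem ecard_eq {P A : Subgroup Ω} (hA : IsMaxEA p P A) : ecard p P = Nat.card A := by
  rw [ecard, dif_pos ⟨A, hA⟩]
  have h := Exists.choose_spec (⟨A, hA⟩ : ∃ A, IsMaxEA p P A)
  exact le_antisymm (hA.card_le _ h.le h.elem) (h.card_le _ hA.le hA.elem)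

theorem thompson_map_injective {H : Type*} [Group H] (f : H →* Ω) (hf : Function.Injective f) :
    thompsonSubgroupOf p f.range = (thompsonSubgroup p H).map f := by
  rw [← thompsonSubgroupOf_top, map_thompsonSubgroupOf hf, ← MonoidHom.range_eq_map]

theorem ecard_range {H : Type*} [Group H] [Finite H] (f : H →* Ω) (hf : Function.Injective f) :
    ecard p f.range = ecard p (⊤ : Subgroup H) := by
  obtain ⟨A, hA⟩ := exists_isMaxEA p (⊤ : Subgroup H)
  have h := hA.map hf
  rw [← MonoidHom.range_eq_map] at h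
  rw [ecard_eq h, ecard_eq hA, Subgroup.card_map_of_injective hf]

theorem red_range {H : Type*} [Group H] (f : H →* Ω) (hf : Function.Injective f) :
    red p f.range =
      (thompsonSubgroup p H ⊔ Subgroup.centralizer (thompsonSubgroup p H : Set H)).map f := by
  rw [red, thompson_map_injective f hf, Subgroup.map_sup]
  congr 1
  ext y
  constructor
  · rintro ⟨⟨x, rfl⟩, hy⟩
    refine ⟨x, fun j hj => hf ?_, rfl⟩
    rw [map_mul, map_mul]
    exact hy _ ⟨j, hj, rfl⟩
  · rintro ⟨x, hx, rfl⟩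
    refine ⟨⟨x, rfl⟩, ?_⟩
    rintro _ ⟨j, hj, rfl⟩
    rw [← map_mul, ← map_mul, hx j hj]

variable {S : Subgroup Ω} [Finite S]

/-- The size of a reduced subgroup, ordered lexicographically. -/
noncomputable def key (p : ℕ) (S P : Subgroup Ω) : ℕ :=
  (ecard p P * (Nat.card S + 1) + Nat.card (thompsonSubgroupOf p P)) * (Nat.card S + 1) +
    Nat.card (red p P)

theorem exists_max {P : Subgroup Ω} (hP : P ≤ S) : ∃ A, IsMaxEA p P A := by
  obtain ⟨A, hA⟩ := exists_isMaxEA p (P.subgroupOf S)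
  have h := hA.map S.subtype_injective
  rw [Subgroup.map_subgroupOf_eq_of_le hP] at h
  exact ⟨_, h⟩

theorem key_range {P : Subgroup Ω} (hP : P ≤ S) (φ : P →* Ω) (hφ : Function.Injective φ) :
    key p S φ.range = key p S P ∧ (red p P = P → red p φ.range = φ.range) := by
  haveI := finite_of_le hP
  have hr := P.range_subtype
  have h1 := red_range (p := p) φ hφ
  have h2 := red_range (p := p) P.subtype P.subtype_injective
  have h3 := thompson_map_injective (p := p) φ hφ
  have h4 := thompson_map_injective (p := p) P.subtype P.subtype_injective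
  have h5 := ecard_range (p := p) φ hφ
  have h6 := ecard_range (p := p) P.subtype P.subtype_injective
  rw [hr] at h2 h4 h6
  refine ⟨?_, fun h => ?_⟩
  · rw [key, key, h1, h2, h3, h4, h5, h6, Subgroup.card_map_of_injective hφ,
      Subgroup.card_map_of_injective hφ, Subgroup.card_map_of_injective P.subtype_injective,
      Subgroup.card_map_of_injective P.subtype_injective]
  · rw [h] at h2
    rw [h1, MonoidHom.range_eq_map]
    congr 1
    refine Subgroup.map_injective P.subtype_injective ?_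
    rw [← h2, ← MonoidHom.range_eq_map, hr]

/-- The key is monotone, and equality forces the Thompson subgroup and the reduction to agree. -/
theorem key_mono {P X : Subgroup Ω} (hPX : P ≤ X) (hX : X ≤ S) :
    key p S P ≤ key p S X ∧
      (key p S P = key p S X →
        thompsonSubgroupOf p P = thompsonSubgroupOf p X ∧ red p P = red p X ∧
          ecard p P = ecard p X) := by
  have hP := hPX.trans hX
  obtain ⟨A, hA⟩ := exists_max (p := p) hP
  obtain ⟨B, hB⟩ := exists_max (p := p) hX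
  haveI := finite_of_le hX
  haveI := finite_of_le hP
  have hb : ∀ Y : Subgroup Ω, Y ≤ S → Nat.card Y < Nat.card S + 1 := fun Y hY =>
    Nat.lt_succ_of_le (Subgroup.card_le_of_le hY)
  have hJP := hb _ ((thompsonSubgroupOf_le p P).trans hP)
  have hJX := hb _ ((thompsonSubgroupOf_le p X).trans hX)
  have hRP := hb _ ((red_le (p := p) P).trans hP)
  have hRX := hb _ ((red_le (p := p) X).trans hX)
  have he : ecard p P ≤ ecard p X := by
    rw [ecard_eq hA, ecard_eq hB]
    exact hB.card_le A (hA.le.trans hPX) hA.elem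
  set N := Nat.card S + 1
  rcases he.lt_or_eq with hlt | heq
  · have h1 : (ecard p P * N + Nat.card (thompsonSubgroupOf p P) + 1) * N ≤
        (ecard p X * N + Nat.card (thompsonSubgroupOf p X)) * N := by
      apply Nat.mul_le_mul_right
      have : (ecard p P + 1) * N ≤ ecard p X * N := Nat.mul_le_mul_right _ hlt
      rw [add_mul, one_mul] at this
      omega
    rw [add_mul, one_mul] at h1
    have h2 : key p S P < key p S X := by
      unfold key
      rw [show Nat.card S + 1 = N from rfl]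
      omega
    exact ⟨h2.le, fun h => absurd h h2.ne⟩
  · have hJ : thompsonSubgroupOf p P ≤ thompsonSubgroupOf p X :=
      thompsonSubgroupOf_le_iff.mpr fun C hC => le_thompsonSubgroupOf ⟨hC.le.trans hPX, hC.elem,
        fun D hD hDe => (hB.card_le D hD hDe).trans (by rw [← ecard_eq hB, ← heq, ecard_eq hC])⟩
    haveI := finite_of_le ((thompsonSubgroupOf_le p X).trans hX)
    have hJc := Subgroup.card_le_of_le hJ
    rcases hJc.lt_or_eq with hlt | hJeq
    · have h1 : (ecard p P * N + Nat.card (thompsonSubgroupOf p P) + 1) * N ≤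
          (ecard p X * N + Nat.card (thompsonSubgroupOf p X)) * N :=
        Nat.mul_le_mul_right _ (by rw [heq]; omega)
      rw [add_mul, one_mul] at h1
      have h2 : key p S P < key p S X := by
        unfold key
        rw [show Nat.card S + 1 = N from rfl]
        omega
      exact ⟨h2.le, fun h => absurd h h2.ne⟩
    · have hJe := Subgroup.eq_of_le_of_card_ge hJ hJeq.ge
      have hR : red p P ≤ red p X := by
        rw [red, red, hJe]
        exact sup_le_sup le_rfl (inf_le_inf_right _ hPX)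
      haveI := finite_of_le ((red_le (p := p) X).trans hX)
      refine ⟨?_, fun h => ⟨hJe, Subgroup.eq_of_le_of_card_ge hR ?_, heq⟩⟩
      · unfold key
        rw [heq, hJeq]
        have := Subgroup.card_le_of_le hR
        omega
      · unfold key at h
        rw [heq, hJeq] at h
        omega

theorem red_idem {P : Subgroup Ω} (hP : P ≤ S) :
    key p S (red p P) = key p S P ∧ red p (red p P) = red p P := by
  haveI := finite_of_le hP
  obtain ⟨A, hA⟩ := exists_max (p := p) hP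
  have hJR : thompsonSubgroupOf p P ≤ red p P := le_sup_left
  have hmax : ∀ B, IsMaxEA p (red p P) B ↔ IsMaxEA p P B := fun B =>
    ⟨fun h => ⟨h.le.trans (red_le P), h.elem, fun D hD hDe =>
      (hA.card_le D hD hDe).trans (h.card_le A ((le_thompsonSubgroupOf hA).trans hJR) hA.elem)⟩,
    fun h => ⟨(le_thompsonSubgroupOf h).trans hJR, h.elem,
      fun D hD hDe => h.card_le D (hD.trans (red_le P)) hDe⟩⟩
  have hJ : thompsonSubgroupOf p (red p P) = thompsonSubgroupOf p P := by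
    simp only [thompsonSubgroupOf_eq_iSup, hmax]
  have he : ecard p (red p P) = ecard p P := by rw [ecard_eq ((hmax A).mpr hA), ecard_eq hA]
  have hR : red p (red p P) = red p P := by
    refine le_antisymm (red_le _) ?_
    conv_rhs => rw [red, hJ]
    exact sup_le le_sup_left (le_sup_of_le_right (le_inf (le_sup_right) inf_le_right))
  exact ⟨by rw [key, key, he, hJ, hR], hR⟩

variable [Fact p.Prime] {F : FusionSystem S}

theorem exists_normalizing_not_mem (hS : IsPGroup p S) {Q C : Subgroup Ω} (hQ : Q ≤ S) (hC : C ≤ S)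
    (hQC : Q ≤ Subgroup.normalizer (C : Set Ω)) (hnot : ¬ C ≤ Q) :
    ∃ c ∈ C, c ∈ Subgroup.normalizer (Q : Set Ω) ∧ c ∉ Q := by
  set M := Q ⊔ C
  have hMS : M ≤ S := sup_le hQ hC
  have hlt : Q < M := lt_of_le_of_ne le_sup_left fun he => hnot (he ▸ le_sup_right)
  haveI := finite_of_le hMS
  obtain ⟨x, hxN, hxQ⟩ := SetLike.exists_of_lt (lt_normalizerIn (isPGroup_of_le hS hMS) hlt)
  obtain ⟨q, hq, c, hc, hqc⟩ :=
    (Set.ext_iff.mp (Subgroup.coe_mul_of_left_le_normalizer_right Q C hQC).symm x).mpr hxN.1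
  have hcN : c ∈ Subgroup.normalizer (Q : Set Ω) := by
    have := Subgroup.mul_mem _ (Subgroup.inv_mem _ (Subgroup.le_normalizer hq)) hxN.2
    rwa [← show q * c = x from hqc, inv_mul_cancel_left] at this
  exact ⟨c, hc, hcN, fun h => hxQ ((show q * c = x from hqc) ▸ Q.mul_mem hq h)⟩

theorem normalizer_le_normalizer_centralizerIn {J : Subgroup Ω} {g : Ω} (hgS : g ∈ S)
    (hg : g ∈ Subgroup.normalizer (J : Set Ω)) :
    g ∈ Subgroup.normalizer ((centralizerIn S J : Subgroup Ω) : Set Ω) := by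
  have key : ∀ g : Ω, g ∈ S → g ∈ Subgroup.normalizer (J : Set Ω) →
      ∀ c ∈ centralizerIn S J, g * c * g⁻¹ ∈ centralizerIn S J := by
    intro g hgS hg c hc
    refine ⟨S.mul_mem (S.mul_mem hgS hc.1) (S.inv_mem hgS), fun j hj => ?_⟩
    have h1 := hc.2 _ (mem_normalizer_conj (Subgroup.inv_mem _ hg) hj)
    calc j * (g * c * g⁻¹) = g * (g⁻¹ * j * g⁻¹⁻¹ * c) * g⁻¹ := by group
      _ = g * (c * (g⁻¹ * j * g⁻¹⁻¹)) * g⁻¹ := by rw [h1]
      _ = g * c * g⁻¹ * j := by group
  refine Subgroup.mem_normalizer_iff.mpr fun c => ⟨key g hgS hg c, fun hc => ?_⟩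
  have := key g⁻¹ (S.inv_mem hgS) (Subgroup.inv_mem _ hg) _ hc
  simpa [mul_assoc] using this

/-- Going to the normalizer increases the key of a reduced subgroup below `S`. -/
theorem key_lt_normalizerIn (hS : IsPGroup p S) {P : Subgroup Ω} (hP : P ≤ S)
    (hred : red p P = P) (hlt : key p S P < key p S S) :
    key p S P < key p S (normalizerIn S P) := by
  set J := thompsonSubgroupOf p P with hJ
  set T := normalizerIn S P with hT
  refine lt_of_le_of_ne (key_mono (le_normalizerIn hP) (normalizerIn_le S P)).1 fun heq => ?_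
  obtain ⟨hJT, hRT, he⟩ := (key_mono (le_normalizerIn hP) (normalizerIn_le S P)).2 heq
  rw [hred] at hRT
  have hPJ : P ≤ Subgroup.normalizer (J : Set Ω) :=
    Subgroup.le_normalizer.trans (normalizer_le_normalizer_thompsonSubgroupOf p P)
  have hC : centralizerIn S J ≤ P := by
    by_contra hnot
    obtain ⟨c, hc, hcN, hcP⟩ := exists_normalizing_not_mem hS hP inf_le_left
      (fun x hx => normalizer_le_normalizer_centralizerIn (hP hx) (hPJ hx)) hnot
    refine hcP (hRT.ge (Subgroup.mem_sup_right ⟨⟨hc.1, hcN⟩, ?_⟩))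
    rw [← hJT]
    exact hc.2
  have hNJ : ∀ g ∈ S, g ∈ Subgroup.normalizer (J : Set Ω) →
      g ∈ Subgroup.normalizer (P : Set Ω) := by
    intro g hgS hg
    have hPe : P = J ⊔ centralizerIn S J := by
      refine le_antisymm ?_ (sup_le (thompsonSubgroupOf_le p P) hC)
      conv_lhs => rw [← hred]
      exact sup_le le_sup_left (le_sup_of_le_right (le_inf (inf_le_left.trans hP) inf_le_right))
    rw [Subgroup.mem_normalizer_iff_map_conj_eq, hPe, Subgroup.map_sup,
      Subgroup.mem_normalizer_iff_map_conj_eq.mp hg,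
      Subgroup.mem_normalizer_iff_map_conj_eq.mp (normalizer_le_normalizer_centralizerIn hgS hg)]
  have hTS : T = S := by
    by_contra hne
    have hTlt : T < S := lt_of_le_of_ne (normalizerIn_le S P) hne
    obtain ⟨g, hg, hgT⟩ := SetLike.exists_of_lt (lt_normalizerIn hS hTlt)
    refine hgT ⟨hg.1, hNJ g hg.1 ?_⟩
    have := normalizer_le_normalizer_thompsonSubgroupOf p T hg.2
    rwa [← hJT] at this
  rw [hTS] at heq
  exact hlt.ne heq

/-- An element of order prime to `p` fixing the Thompson subgroup fixes the reduced subgroup. -/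
theorem eq_one_of_fixes_thompson {H : Type*} [Group H] [Finite H] (hH : IsPGroup p H) (hp : p ≠ 2)
    (hred : thompsonSubgroup p H ⊔ Subgroup.centralizer (thompsonSubgroup p H : Set H) = ⊤)
    {b : MulAut H} {m : ℕ} (hbm : b ^ m = 1) (hm : m.Coprime p)
    (hfix : ∀ j ∈ thompsonSubgroup p H, b j = j) : b = 1 := by
  set J := thompsonSubgroup p H with hJ
  set C := Subgroup.centralizer (J : Set H) with hC
  have hinv : ∀ (a : MulAut H), (∀ j ∈ J, a j = j) → ∀ x ∈ C, a x ∈ C := by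
    intro a ha x hx j hj
    show j * a x = a x * j
    calc j * a x = a (j * x) := by rw [map_mul, ha j hj]
      _ = a (x * j) := by rw [hx j hj]
      _ = a x * j := by rw [map_mul, ha j hj]
  have hbs : ∀ j ∈ J, b.symm j = j := fun j hj => by rw [MulEquiv.symm_apply_eq, hfix j hj]
  let b' : MulAut C :=
    { toFun := fun x => ⟨b x, hinv b hfix x x.2⟩
      invFun := fun x => ⟨b.symm x, hinv b.symm hbs x x.2⟩
      left_inv := fun x => Subtype.ext (b.symm_apply_apply x)
      right_inv := fun x => Subtype.ext (b.apply_symm_apply x)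
      map_mul' := fun x y => Subtype.ext (map_mul b (x : H) y) }
  have hpow : ∀ (k : ℕ) (x : C), (((b' ^ k) x : C) : H) = (b ^ k) x := by
    intro k
    induction k with
    | zero => intro x; rfl
    | succ k ih =>
      intro x
      rw [pow_succ, pow_succ, MulAut.mul_apply, MulAut.mul_apply, ih]
      rfl
  obtain ⟨A, hA⟩ := exists_isMaxEA p (⊤ : Subgroup H)
  have hb'1 : b' = 1 := by
    refine eq_one_of_fixes_small (hH.to_subgroup C) b' m ?_ hm fun x hx => Subtype.ext ?_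
    · exact MulEquiv.ext fun x => Subtype.ext (by rw [hpow, hbm]; rfl)
    · rcases hx with hx | ⟨h, -⟩
      · refine hfix _ (le_sSup (a := A) (mem_max_iff.mpr hA) ?_)
        exact hA.mem_of_centralizes (Subgroup.mem_top _) (congrArg Subtype.val hx)
          fun a ha => x.2 a (le_sSup (a := A) (mem_max_iff.mpr hA) ha)
      · exact absurd h hp
  have hle : J ⊔ C ≤ MonoidHom.eqLocus b.toMonoidHom (MonoidHom.id H) :=
    sup_le hfix fun x hx => congrArg (fun f : MulAut C => ((f ⟨x, hx⟩ : C) : H)) hb'1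
  rw [hred] at hle
  exact MulEquiv.ext fun x => hle (Subgroup.mem_top x)

/-- A normal `p`-subgroup lies in every Sylow subgroup. -/
theorem le_sylow_of_normal {G : Type*} [Group G] [Finite G] {K : Subgroup G} [hn : K.Normal]
    (hK : IsPGroup p K) (R : Sylow p G) : K ≤ (R : Subgroup G) := by
  obtain ⟨T, hT⟩ := hK.exists_le_sylow
  obtain ⟨g, hg⟩ := MulAction.exists_smul_eq G T R
  intro k hk
  rw [← hg, Sylow.coe_subgroup_smul]
  exact ⟨g⁻¹ * k * g⁻¹⁻¹, hT (hn.conj_mem k hk g⁻¹), by simp [mul_assoc]⟩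

/-- An element-wise quadratic subgroup outside `Q` among those of largest order in `N_S(Q)`. -/
theorem exists_quadratic {Q T : Subgroup Ω} (hQT : Q ≤ T) (hTS : T ≤ S)
    (hTN : T ≤ Subgroup.normalizer (Q : Set Ω)) {A : Subgroup Ω} (hA : IsMaxEA p T A)
    (hAQ : ¬ A ≤ Q) :
    ∃ U, IsMaxEA p T U ∧ ¬ U ≤ Q ∧ ∀ u ∈ U, ∀ v ∈ Q, (∀ x ∈ Q, x * v = v * x) → v ^ p = 1 →
      u * (u * v * u⁻¹ * v⁻¹) * u⁻¹ = u * v * u⁻¹ * v⁻¹ := by
  set Q' := Q.subgroupOf S with hQ'
  set T' := T.subgroupOf S with hT'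
  set A' := A.subgroupOf S with hA'd
  have hA' : IsMaxEA p T' A' := by
    refine ⟨Subgroup.comap_mono hA.le, isElementaryAbelian_subgroupOf hA.elem, fun B hB hBe => ?_⟩
    have h := hA.card_le (B.map S.subtype)
      ((Subgroup.map_mono hB).trans (Subgroup.map_subgroupOf_eq_of_le hTS).le)
      (isElementaryAbelian_map hBe _)
    rw [Subgroup.card_map_of_injective S.subtype_injective] at h
    rwa [hA'd, Nat.card_congr (Subgroup.subgroupOfEquivOfLe (hA.le.trans hTS)).toEquiv]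
  set K := Q' ⊓ Subgroup.centralizer (Q' : Set S)
  have hK : K ≤ Subgroup.centralizer (K : Set S) := inf_centralizer_le_centralizer_self Q'
  set V := omegaOne p K with hV
  have hVe : IsElementaryAbelian p V := isElementaryAbelian_omegaOne hK
  have hmemV : ∀ x : S, x ∈ V ↔ x ∈ K ∧ x ^ p = 1 := fun x =>
    ⟨fun h => ⟨omegaOne_le p K h, hVe.2 x h⟩, fun h => mem_omegaOne h.1 h.2⟩
  have hVT : V ≤ T' := (omegaOne_le p K).trans (inf_le_left.trans (Subgroup.comap_mono hQT))
  have hconj : ∀ g ∈ T', ∀ x ∈ V, g * x * g⁻¹ ∈ V := by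
    intro g hg x hx
    rw [hmemV] at hx ⊢
    have hgN : ∀ y ∈ Q', g * y * g⁻¹ ∈ Q' := fun y hy => mem_normalizer_conj (hTN hg) hy
    have hgN' : ∀ y ∈ Q', g⁻¹ * y * g ∈ Q' := fun y hy => by
      have h := mem_normalizer_conj (Subgroup.inv_mem _ (hTN hg)) (show (y : Ω) ∈ Q from hy)
      rw [inv_inv] at h
      exact h
    refine ⟨⟨hgN x hx.1.1, fun y hy => ?_⟩, by rw [conj_pow, hx.2, mul_one, mul_inv_cancel]⟩
    have h1 := hx.1.2 _ (hgN' y hy)
    calc y * (g * x * g⁻¹) = g * (g⁻¹ * y * g * x) * g⁻¹ := by group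
      _ = g * (x * (g⁻¹ * y * g)) * g⁻¹ := by rw [h1]
      _ = g * x * g⁻¹ * y := by group
  have hTV : T' ≤ Subgroup.normalizer (V : Set S) := by
    intro g hg
    refine Subgroup.mem_normalizer_iff.mpr fun x => ⟨hconj g hg x, fun h => ?_⟩
    have := hconj g⁻¹ (inv_mem hg) _ h
    simpa [mul_assoc] using this
  obtain ⟨U', hU', hUQ, hq⟩ : ∃ U', IsMaxEA p T' U' ∧ ¬ U' ≤ Q' ∧ ⁅⁅V, U'⁆, U'⁆ = ⊥ := by
    by_cases h0 : ⁅V, A'⁆ = ⊥
    · refine ⟨A', hA', fun h => hAQ fun a ha => h (x := ⟨a, hTS (hA.le ha)⟩) ha, ?_⟩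
      rw [h0, Subgroup.commutator_bot_left]
    · obtain ⟨h1, h2, h3⟩ := thompson_replacement hVe hVT hTV hA'
      refine ⟨_, h1, fun hle => h3 h0 ?_, h2⟩
      rw [Subgroup.commutator_eq_bot_iff_le_centralizer]
      intro v hv u hu
      exact (omegaOne_le p K hv).2 u (hle hu)
  have hUmap : IsMaxEA p T (U'.map S.subtype) := by
    have h := hU'.map S.subtype_injective
    rwa [Subgroup.map_subgroupOf_eq_of_le hTS] at h
  refine ⟨_, hUmap, fun h => hUQ fun u hu => h ⟨u, hu, rfl⟩, ?_⟩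
  rintro _ ⟨u, hu, rfl⟩ v hvQ hvc hvp
  have hvV : (⟨v, hTS (hQT hvQ)⟩ : S) ∈ V :=
    (hmemV _).mpr ⟨⟨hvQ, fun y hy => Subtype.ext (hvc y hy)⟩, Subtype.ext hvp⟩
  set v' : S := ⟨v, hTS (hQT hvQ)⟩
  have h1 : ⁅v', u⁆ * u = u * ⁅v', u⁆ := by
    refine (commutatorElement_eq_one_iff_mul_comm.mp ?_)
    rw [← Subgroup.mem_bot, ← hq]
    exact Subgroup.commutator_mem_commutator (Subgroup.commutator_mem_commutator hvV hu) hu
  have huvV : u * v' * u⁻¹ ∈ V := hconj u (hU'.le hu) v' hvV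
  have h2 : u * v' * u⁻¹ * v'⁻¹ = ⁅v', u⁆⁻¹ := by
    rw [commutatorElement_def]
    group
  have h3 : u * (u * v' * u⁻¹ * v'⁻¹) * u⁻¹ = u * v' * u⁻¹ * v'⁻¹ := by
    rw [h2]
    calc u * ⁅v', u⁆⁻¹ * u⁻¹ = (u * ⁅v', u⁆ * u⁻¹)⁻¹ := conj_inv.symm
      _ = ⁅v', u⁆⁻¹ := by rw [← h1, mul_inv_cancel_right]
  exact congrArg Subtype.val h3

/-- An automorphism extending to a subgroup of larger key fixes `z`. -/
theorem fixed_of_extender (hS : IsPGroup p S) (hF : F.IsSaturated p) {Q : Subgroup Ω}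
    (hQ : F.IsFullyNormalized Q) {z : Ω} (hzQ : z ∈ Q)
    (ih : ∀ X : Subgroup Ω, key p S Q < key p S X → ∀ φ ∈ F.Hom X, ∀ h : z ∈ X, φ ⟨z, h⟩ = z)
    {δ : MulAut Q} (hδ : δ ∈ F.autGroup Q) {U : Subgroup Ω}
    (hU : U ≤ extender S Q (Q.subtype.comp δ.toMonoidHom))
    (hkey : ∀ X : Subgroup Ω, Q ≤ X → X ≤ normalizerIn S Q → U ≤ X → key p S Q < key p S X) :
    δ ⟨z, hzQ⟩ = ⟨z, hzQ⟩ := by
  have hδH := (mem_autGroup_iff F hQ.1).mp hδ
  obtain ⟨ψ, hψ, hx⟩ := (receptive_of_fullyNormalized hS hF hQ).2 Q _ hδH (by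
    rw [MonoidHom.range_comp, MonoidHom.range_eq_top.mpr δ.surjective,
      ← MonoidHom.range_eq_map, Subgroup.range_subtype])
  have hle := le_extender hδH
  have h := ih _ (hkey _ hle (extender_le_normalizerIn Q _) hU) ψ hψ (hle hzQ)
  exact Subtype.ext ((hx z hzQ (hle hzQ)).symm.trans h)

/-- The restriction of automorphisms to the centre. -/
def centreRestr (Q : Subgroup Ω) (G : Subgroup (MulAut Q)) :
    G →* MulAut (Subgroup.center ↥Q) where
  toFun a := Subgroup.centerCongr (a : MulAut Q)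
  map_one' := MulEquiv.ext fun _ => Subtype.ext rfl
  map_mul' _ _ := MulEquiv.ext fun _ => Subtype.ext rfl

theorem centreRestr_apply (Q : Subgroup Ω) (G : Subgroup (MulAut Q)) (a : G)
    (x : Subgroup.center ↥Q) :
    ((centreRestr Q G a x : Subgroup.center ↥Q) : Q) = (a : MulAut Q) x := rfl

/-- The main step: automorphisms of a reduced fully normalized subgroup fix `z`. -/
theorem aut_fixed (hp : p ≠ 2) (hS : IsPGroup p S) (hF : F.IsSaturated p) {Q : Subgroup Ω}
    (hQ : F.IsFullyNormalized Q) (hred : red p Q = Q) (hlt : key p S Q < key p S S)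
    {z : Ω} (hzc : ∀ s ∈ S, s * z = z * s) (hzQ : z ∈ Q)
    (ih : ∀ X : Subgroup Ω, key p S Q < key p S X → ∀ φ ∈ F.Hom X, ∀ h : z ∈ X, φ ⟨z, h⟩ = z) :
    ∀ α ∈ F.autGroup Q, α ⟨z, hzQ⟩ = ⟨z, hzQ⟩ := by
  intro α hα
  haveI := finite_of_le hQ.1
  haveI := finite_autGroup F hQ.1
  have hQp : IsPGroup p Q := isPGroup_of_le hS hQ.1
  set G := F.autGroup Q with hG
  obtain ⟨-, -, R, hR⟩ := centralized_automized_of_fullyNormalized hS hF hQ
  set J := thompsonSubgroupOf p Q with hJ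
  set T := normalizerIn S Q with hT
  have hQT : Q ≤ T := le_normalizerIn hQ.1
  have hredH : thompsonSubgroup p ↥Q ⊔ Subgroup.centralizer (thompsonSubgroup p ↥Q : Set ↥Q) = ⊤ := by
    refine Subgroup.map_injective Q.subtype_injective ?_
    rw [← red_range Q.subtype Q.subtype_injective, ← MonoidHom.range_eq_map, Subgroup.range_subtype,
      hred]
  have hindExt : ∀ (δ : G) (y : MulAut Q) (g : Ω), g ∈ S →
      (∀ x : Q, ((y x : Q) : Ω) = g * (x : Ω) * g⁻¹) →
      (δ : MulAut Q) * y * (δ : MulAut Q)⁻¹ ∈ autInducedBy S Q →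
      g ∈ extender S Q (Q.subtype.comp (δ : MulAut Q).toMonoidHom) := by
    intro δ y g hg hgy hmem
    obtain ⟨h, hh, hhx⟩ := mem_autInducedBy_iff.mp hmem
    refine mem_extender_iff.mpr ⟨hg, normalizer_of_induced hgy, h, hh, fun w hw => ?_⟩
    have e : (⟨g * w * g⁻¹, hw⟩ : Q) = y w := Subtype.ext (hgy w).symm
    show (((δ : MulAut Q) ⟨g * w * g⁻¹, hw⟩ : Q) : Ω) = _
    rw [e]
    refine Eq.trans ?_ (hhx ((δ : MulAut Q) w))
    simp
  by_cases hC : centralizerIn S J ≤ Q
  swap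
  · -- a centralizing element outside `Q`
    have hQJ : Q ≤ Subgroup.normalizer (J : Set Ω) :=
      Subgroup.le_normalizer.trans (normalizer_le_normalizer_thompsonSubgroupOf p Q)
    obtain ⟨c, hc, hcN, hcQ⟩ := exists_normalizing_not_mem hS hQ.1 inf_le_left
      (fun x hx => normalizer_le_normalizer_centralizerIn (hQ.1 hx) (hQJ hx)) hC
    set J' := thompsonSubgroup p ↥Q with hJ'
    haveI := thompsonSubgroup_characteristic p ↥Q
    let K : Subgroup G :=
      { carrier := {a | ∀ j ∈ J', (a : MulAut Q) j = j}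
        one_mem' := fun _ _ => rfl
        mul_mem' := fun {a b} ha hb j hj => by
          show (a : MulAut Q) ((b : MulAut Q) j) = j
          rw [hb j hj, ha j hj]
        inv_mem' := fun {a} ha j hj => by
          show (a : MulAut Q).symm j = j
          rw [MulEquiv.symm_apply_eq, ha j hj] }
    haveI hKn : K.Normal := ⟨fun a ha g j hj => by
      show (g : MulAut Q) ((a : MulAut Q) ((g : MulAut Q).symm j)) = j
      exact (congrArg (g : MulAut Q) (ha _
        ((Subgroup.characteristic_iff_le_comap.mp inferInstance (g : MulAut Q).symm) hj))).trans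
          (MulEquiv.apply_symm_apply _ _)⟩
    have hKp : IsPGroup p K := by
      rintro ⟨a, ha⟩
      obtain ⟨k, m, hkm, hm⟩ := exists_coprime_power' a
      refine ⟨k, Subtype.ext ?_⟩
      exact Subtype.ext (eq_one_of_fixes_thompson hQp hp hredH
        (b := ((a ^ p ^ k : G) : MulAut Q)) (m := m) (congrArg Subtype.val hkm) hm
        (K.pow_mem ha _))
    have hy : conjAut Q c hcN ∈ G := autInducedBy_le_autGroup F hQ.1 (conjAut_mem hc.1 hcN)
    have hyK : (⟨conjAut Q c hcN, hy⟩ : G) ∈ K := fun j hj => Subtype.ext (by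
      show c * (j : Ω) * c⁻¹ = j
      rw [← hc.2 (j : Ω) ⟨j, hj, rfl⟩, mul_inv_cancel_right])
    have hconj : ((⟨α, hα⟩ * ⟨conjAut Q c hcN, hy⟩ * ⟨α, hα⟩⁻¹ : G) : MulAut Q) ∈
        autInducedBy S Q := by
      have h := le_sylow_of_normal hKp R (hKn.conj_mem _ hyK ⟨α, hα⟩)
      rw [hR] at h
      exact Subgroup.mem_subgroupOf.mp h
    refine fixed_of_extender hS hF hQ hzQ ih hα (U := Subgroup.zpowers c)
      (Subgroup.zpowers_le.mpr (hindExt ⟨α, hα⟩ _ c hc.1 (fun _ => rfl) hconj))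
      fun X hQX hXT hcX' => ?_
    have hcX : c ∈ X := hcX' (Subgroup.mem_zpowers c)
    refine lt_of_le_of_ne (key_mono hQX (hXT.trans (normalizerIn_le S Q))).1 fun heq => hcQ ?_
    obtain ⟨hJX, hRX, -⟩ := (key_mono hQX (hXT.trans (normalizerIn_le S Q))).2 heq
    rw [hred] at hRX
    refine hRX.ge (Subgroup.mem_sup_right ⟨hcX, ?_⟩)
    rw [← hJX]
    exact hc.2
  -- the offender case
  obtain ⟨A₀, hA₀⟩ := exists_max (p := p) (normalizerIn_le S Q)
  obtain ⟨A, hA, hAQ⟩ : ∃ A, IsMaxEA p T A ∧ ¬ A ≤ Q := by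
    by_contra! hcon
    refine (key_lt_normalizerIn hS hQ.1 hred hlt).not_ge ?_
    have hJT : thompsonSubgroupOf p T ≤ Q := thompsonSubgroupOf_le_iff.mpr hcon
    have hmax : ∀ B, IsMaxEA p Q B ↔ IsMaxEA p T B := fun B =>
      ⟨fun h => ⟨h.le.trans hQT, h.elem, fun D hD hDe =>
        (hA₀.card_le D hD hDe).trans (h.card_le A₀ (hcon A₀ hA₀) hA₀.elem)⟩,
      fun h => ⟨hcon B h, h.elem, fun D hD hDe => h.card_le D (hD.trans hQT) hDe⟩⟩
    have hJeq : thompsonSubgroupOf p Q = thompsonSubgroupOf p T := by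
      simp only [thompsonSubgroupOf_eq_iSup, hmax]
    have he : ecard p Q = ecard p T := by
      rw [ecard_eq ((hmax A₀).mpr hA₀), ecard_eq hA₀]
    have hR' : red p T ≤ Q := by
      refine sup_le hJT ?_
      rw [← hJeq]
      exact (inf_le_inf_right _ (normalizerIn_le S Q)).trans hC
    haveI := finite_of_le hQ.1
    show key p S T ≤ key p S Q
    unfold key
    rw [he, ← hJeq]
    have := Subgroup.card_le_of_le hR'
    rw [hred]
    omega
  obtain ⟨U, hU, hUQ, hquad⟩ := exists_quadratic hQT (normalizerIn_le S Q) inf_le_right hA hAQ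
  obtain ⟨u₀, hu₀, hu₀Q⟩ := SetLike.not_le_iff_exists.mp hUQ
  letI : CommGroup (Subgroup.center ↥Q) :=
    { (inferInstance : Group (Subgroup.center ↥Q)) with
      mul_comm := fun a b => Subtype.ext (Subgroup.mem_center_iff.mp b.2 (a : Q)) }
  have hUS : U ≤ S := hU.le.trans (normalizerIn_le S Q)
  set AU : Subgroup G := (autInducedBy U Q).subgroupOf G with hAU
  have hAU' : ∀ a ∈ AU, ∃ u ∈ U, ∀ x : Q, (((a : MulAut Q) x : Q) : Ω) = u * (x : Ω) * u⁻¹ :=
    fun a ha => mem_autInducedBy_iff.mp (Subgroup.mem_subgroupOf.mp ha)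
  have hzp : ∃ n : ℕ, z ^ p ^ n = 1 := by
    obtain ⟨n, hn⟩ := hS ⟨z, hQ.1 hzQ⟩
    exact ⟨n, congrArg Subtype.val hn⟩
  obtain ⟨n, hn⟩ := hzp
  have hzcen : (⟨z, hzQ⟩ : Q) ∈ Subgroup.center ↥Q :=
    Subgroup.mem_center_iff.mpr fun x => Subtype.ext (hzc x (hQ.1 x.2))
  have hmain := FixedTransfer.fixed_of_control (centreRestr Q G) hp R AU ?_ ?_ ?_ ?_ n
    ⟨⟨z, hzQ⟩, hzcen⟩ (Subtype.ext (Subtype.ext hn)) ?_ ?_ ⟨α, hα⟩
  · exact congrArg Subtype.val hmain
  · intro a ha
    obtain ⟨u, hu, hua⟩ := hAU' a ha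
    rw [hR]
    exact Subgroup.mem_subgroupOf.mpr (mem_autInducedBy_iff.mpr ⟨u, hUS hu, hua⟩)
  · intro a ha b hb
    obtain ⟨u, hu, hua⟩ := hAU' a ha
    obtain ⟨w, hw, hwb⟩ := hAU' b hb
    refine Subtype.ext (MulEquiv.ext fun x => Subtype.ext ?_)
    show (((a : MulAut Q) ((b : MulAut Q) x) : Q) : Ω) = ((b : MulAut Q) ((a : MulAut Q) x) : Q)
    rw [hua, hwb, hwb, hua]
    calc u * (w * x * w⁻¹) * u⁻¹ = (u * w) * x * (u * w)⁻¹ := by group
      _ = (w * u) * x * (w * u)⁻¹ := by rw [isElementaryAbelian_comm hU.elem hu hw]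
      _ = w * (u * x * u⁻¹) * w⁻¹ := by group
  · intro a ha
    obtain ⟨u, hu, hua⟩ := hAU' a ha
    refine Subtype.ext (MulEquiv.ext fun x => Subtype.ext ?_)
    have hpow : ∀ (k : ℕ), ((((a : MulAut Q) ^ k) x : Q) : Ω) = u ^ k * (x : Ω) * (u ^ k)⁻¹ := by
      intro k
      induction k with
      | zero => simp
      | succ k ih => rw [pow_succ', MulAut.mul_apply, hua, ih, pow_succ']; group
    show ((((a ^ p : G) : MulAut Q) x : Q) : Ω) = x
    rw [SubgroupClass.coe_pow, hpow, hU.elem.2 u hu]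
    simp
  · intro a ha v hv
    obtain ⟨u, hu, hua⟩ := hAU' a ha
    refine Subtype.ext (Subtype.ext ?_)
    simp only [div_eq_mul_inv, map_mul, map_inv, Subgroup.coe_mul, Subgroup.coe_inv,
      centreRestr_apply, hua]
    have h := hquad u hu ((v : Q) : Ω) (v : Q).2
      (fun x hx => congrArg Subtype.val (Subgroup.mem_center_iff.mp v.2 ⟨x, hx⟩))
      (congrArg (fun w : Subgroup.center ↥Q => ((w : Q) : Ω)) hv)
    refine Eq.trans ?_ h
    group
  · intro r hr
    rw [hR] at hr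
    obtain ⟨g, hg, hgx⟩ := mem_autInducedBy_iff.mp (Subgroup.mem_subgroupOf.mp hr)
    refine Subtype.ext (Subtype.ext ?_)
    rw [centreRestr_apply, hgx]
    show g * z * g⁻¹ = z
    rw [hzc g hg, mul_inv_cancel_right]
  · intro g hg
    refine Subtype.ext ?_
    rw [centreRestr_apply]
    refine fixed_of_extender hS hF hQ hzQ ih g.2 (U := U) (fun u hu => ?_) fun X hQX hXT hUX => ?_
    · have huN : u ∈ Subgroup.normalizer (Q : Set Ω) := (hU.le hu).2
      have hy : conjAut Q u huN ∈ G := autInducedBy_le_autGroup F hQ.1 (conjAut_mem (hUS hu) huN)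
      have h := hg ⟨conjAut Q u huN, hy⟩ (Subgroup.mem_subgroupOf.mpr (conjAut_mem hu huN))
      rw [hR] at h
      exact hindExt g _ u (hUS hu) (fun _ => rfl) (Subgroup.mem_subgroupOf.mp h)
    · refine lt_of_le_of_ne (key_mono hQX (hXT.trans (normalizerIn_le S Q))).1 fun heq => hUQ ?_
      obtain ⟨hJX, -, -⟩ := (key_mono hQX (hXT.trans (normalizerIn_le S Q))).2 heq
      refine (le_thompsonSubgroupOf (P := X) ⟨hUX, hU.elem,
        fun D hD hDe => hU.card_le D (hD.trans hXT) hDe⟩).trans ?_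
      rw [← hJX]
      exact thompsonSubgroupOf_le p Q
where
  exists_coprime_power' {G : Type _} [Group G] [Finite G] (a : G) :
      ∃ k m : ℕ, (a ^ p ^ k) ^ m = 1 ∧ m.Coprime p := by
    obtain ⟨k, m, hm, hkm⟩ := Nat.exists_eq_pow_mul_and_not_dvd (orderOf_pos a).ne' p
      (Fact.out : p.Prime).ne_one
    exact ⟨k, m, by rw [← pow_mul, ← hkm, pow_orderOf_eq_one],
      ((Nat.Prime.coprime_iff_not_dvd Fact.out).mpr hm).symm⟩

end CfsgLib.FusionExamples.ControlFixed

namespace CfsgLib.FusionExamples.ControlFixed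

open Cfsg Cfsg.FusionSystem CfsgLib.Alperin CfsgLib.ThompsonJ

variable {Ω : Type*} [Group Ω] {p : ℕ} {S : Subgroup Ω} [Finite S] [Fact p.Prime]
  {F : FusionSystem S}

/-- Control of fixed points: an element of `Z(S)` fixed by the automizer of `J(S) C_S(J(S))` is
fixed by every map of the system. -/
theorem fixed (hp : p ≠ 2) (hS : IsPGroup p S) (hF : F.IsSaturated p) {z : Ω} (hz : z ∈ S)
    (hzc : ∀ s ∈ S, s * z = z * s)
    (hM : ∀ α ∈ F.autGroup (red p S), ∀ h : z ∈ red p S, α ⟨z, h⟩ = ⟨z, h⟩) :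
    ∀ (P : Subgroup Ω) (φ : P →* Ω), φ ∈ F.Hom P → ∀ h : z ∈ P, φ ⟨z, h⟩ = z := by
  suffices main : ∀ (n : ℕ) (P : Subgroup Ω), key p S S - key p S P = n →
      ∀ φ ∈ F.Hom P, ∀ h : z ∈ P, φ ⟨z, h⟩ = z from fun P φ hφ h => main _ P rfl φ hφ h
  intro n
  induction n using Nat.strong_induction_on with
  | _ n ih =>
  have hbig : ∀ P : Subgroup Ω, key p S S - key p S P = n → ∀ X : Subgroup Ω,
      key p S P < key p S X → ∀ ψ ∈ F.Hom X, ∀ h : z ∈ X, ψ ⟨z, h⟩ = z := by
    intro P hn X hX ψ hψ h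
    have := (key_mono (p := p) (dom_le hψ) le_rfl).1
    exact ih _ (by omega) X rfl ψ hψ h
  intro P₁ hn₁ φ₁ hφ₁ hz₁
  -- reduce
  have hP₁ := dom_le hφ₁
  obtain ⟨hkey₁, hred⟩ := red_idem (p := p) hP₁
  set P := red p P₁ with hPdef
  have hPle : P ≤ P₁ := red_le P₁
  have hzP : z ∈ P := Subgroup.mem_sup_right ⟨hz₁,
    fun j hj => hzc j (hP₁ (thompsonSubgroupOf_le p P₁ hj))⟩
  set φ : P →* Ω := φ₁.comp (Subgroup.inclusion hPle) with hφdef
  have hφ : φ ∈ F.Hom P := restrict_mem hφ₁ hPle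
  suffices hgoal : φ ⟨z, hzP⟩ = z from hgoal
  have hn : key p S S - key p S P = n := by rw [hkey₁]; exact hn₁
  have hP := dom_le hφ
  obtain ⟨hkeyR, hredR⟩ := key_range (p := p) hP φ (F.injective_of_mem hφ)
  replace hredR := hredR hred
  rcases (key_mono (p := p) hP le_rfl).1.lt_or_eq with hlt | heq
  · obtain ⟨Q, hPQ, hQ⟩ := exists_isFullyNormalized F hP
    obtain ⟨φQ, hφQ, hrQ⟩ := hPQ
    obtain ⟨hkQ, hrdQ⟩ := key_range (p := p) hP φQ (F.injective_of_mem hφQ)
    rw [hrQ] at hkQ hrdQ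
    have hredQ := hrdQ hred
    have hPQ : F.IsConj P Q := ⟨φQ, hφQ, hrQ⟩
    obtain ⟨ψ₁, hψ₁, -, hm₁⟩ := exists_hom_normalizerIn_of_fullyNormalized hS hF hQ hPQ
    obtain ⟨ψ₂, hψ₂, -, hm₂⟩ := exists_hom_normalizerIn_of_fullyNormalized hS hF hQ
      (CfsgLib.Alperin.IsConj.trans (CfsgLib.Alperin.IsConj.symm (isConj_of_hom hφ)) hPQ)
    have hzN : ∀ R : Subgroup Ω, R ≤ S → z ∈ normalizerIn S R := fun R hR =>
      ⟨hz, (centralizerIn_le_normalizerIn S R ⟨hz, fun r hr => hzc r (hR hr)⟩).2⟩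
    have h1 : ψ₁ ⟨z, hzN P hP⟩ = z :=
      hbig P hn _ (key_lt_normalizerIn hS hP hred hlt) ψ₁ hψ₁ _
    have h2 : ψ₂ ⟨z, hzN _ (range_le hφ)⟩ = z :=
      hbig P hn _ (hkeyR ▸ key_lt_normalizerIn hS (range_le hφ) hredR (hkeyR ▸ hlt)) ψ₂ hψ₂ _
    let a₁ : P →* Ω := ψ₁.comp (Subgroup.inclusion (le_normalizerIn hP))
    let a₂ : φ.range →* Ω := ψ₂.comp (Subgroup.inclusion (le_normalizerIn (range_le hφ)))
    have ha₁r : a₁.range = Q := (range_comp_inclusion _ _).trans hm₁
    have ha₂r : a₂.range = Q := (range_comp_inclusion _ _).trans hm₂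
    have hF₁ : a₁ ∈ F.Hom P := restrict_mem hψ₁ _
    have hF₂ : a₂ ∈ F.Hom φ.range := restrict_mem hψ₂ _
    set e₁ := isoOfHom a₁ (F.injective_of_mem hF₁) ha₁r
    set e₂ := isoOfHom a₂ (F.injective_of_mem hF₂) ha₂r
    set e₀ := isoOfHom φ (F.injective_of_mem hφ) rfl
    let α : MulAut Q := (e₁.symm.trans e₀).trans e₂
    have hαF : α ∈ F.autGroup Q := by
      refine (mem_autGroup_iff F hQ.1).mpr ?_
      have h1 : φ.range.subtype.comp (e₁.symm.trans e₀).toMonoidHom ∈ F.Hom Q :=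
        comp_mem_apply (isoOfHom_symm_mem hF₁ ha₁r) hφ (fun y => (e₁.symm y).2) fun y => rfl
      exact comp_mem_apply h1 hF₂ (fun y => (e₀ (e₁.symm y)).2) fun y => rfl
    have hzQ : z ∈ Q := ha₁r.le ⟨⟨z, hzP⟩, h1⟩
    have hfix := aut_fixed hp hS hF hQ hredQ (hkQ ▸ hlt) hzc hzQ
      (fun X hX => hbig P hn X (hkQ ▸ hX)) α hαF
    have he₁ : e₁ ⟨z, hzP⟩ = ⟨z, hzQ⟩ := Subtype.ext h1
    rw [← he₁] at hfix
    have h3 : (e₂ (e₀ (e₁.symm (e₁ ⟨z, hzP⟩))) : Ω) = e₁ ⟨z, hzP⟩ := congrArg Subtype.val hfix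
    rw [MulEquiv.symm_apply_apply, he₁] at h3
    have h4 : ψ₂ ⟨φ ⟨z, hzP⟩, le_normalizerIn (range_le hφ) ⟨_, rfl⟩⟩ =
        ψ₂ ⟨z, hzN _ (range_le hφ)⟩ := h3.trans h2.symm
    exact congrArg Subtype.val (F.injective_of_mem hψ₂ h4)
  · obtain ⟨-, hR, -⟩ := (key_mono (p := p) hP le_rfl).2 heq
    rw [hred] at hR
    have hrange : φ.range = P := by
      obtain ⟨-, hR2, -⟩ := (key_mono (p := p) (range_le hφ) le_rfl).2 (hkeyR.trans heq)
      rw [hredR] at hR2
      exact hR2.trans hR.symm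
    obtain ⟨α, hα, hαx⟩ := exists_aut_of_hom F hφ hrange
    rw [← hαx]
    have key : ∀ (M : Subgroup Ω), M = red p S → ∀ α ∈ F.autGroup M, ∀ h : z ∈ M,
        ((α ⟨z, h⟩ : M) : Ω) = z := by
      rintro M rfl α hα h
      exact congrArg Subtype.val (hM α hα h)
    exact key P hR α hα hzP

end CfsgLib.FusionExamples.ControlFixed

namespace CfsgLib.FusionExamples.ControlFixed

open Cfsg Cfsg.FusionSystem CfsgLib.Alperin CfsgLib.ThompsonJ

variable {Ω : Type*} [Group Ω] {p : ℕ} {S : Subgroup Ω} [Finite S] [Fact p.Prime]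
  {F : FusionSystem S}

theorem red_self_isFullyNormalized (F : FusionSystem S) :
    F.IsFullyNormalized (red p S) ∧ centralizerIn S (red p S) ≤ red p S ∧
      S ≤ Subgroup.normalizer (red p S : Set Ω) := by
  have hN : S ≤ Subgroup.normalizer (red p S : Set Ω) := by
    intro g hg
    have hJ : g ∈ Subgroup.normalizer (thompsonSubgroupOf p S : Set Ω) :=
      normalizer_le_normalizer_thompsonSubgroupOf p S (Subgroup.le_normalizer hg)
    rw [Subgroup.mem_normalizer_iff_map_conj_eq, red, Subgroup.map_sup,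
      Subgroup.mem_normalizer_iff_map_conj_eq.mp hJ]
    congr 1
    exact Subgroup.mem_normalizer_iff_map_conj_eq.mp (normalizer_le_normalizer_centralizerIn hg hJ)
  haveI := finite_of_le (normalizerIn_le S (red p S))
  refine ⟨⟨red_le S, fun R hR => Subgroup.card_le_of_le ?_⟩, ?_, hN⟩
  · exact (normalizerIn_le S _).trans (le_inf le_rfl hN)
  · intro c hc
    exact Subgroup.mem_sup_right ⟨hc.1, fun j hj => hc.2 j (Subgroup.mem_sup_left hj)⟩

/-- `Z(F)` is a direct factor of `Z(S)` for odd `p`. -/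
theorem exists_complement (hp : p ≠ 2) (hS : IsPGroup p S) (hF : F.IsSaturated p) :
    ∃ K : Subgroup Ω, K ≤ (S ⊓ Subgroup.centralizer (S : Set Ω)) ∧ F.center ⊓ K = ⊥ ∧
      F.center ⊔ K = (S ⊓ Subgroup.centralizer (S : Set Ω)) := by
  classical
  set ZS := S ⊓ Subgroup.centralizer (S : Set Ω) with hZS
  set M := red p S with hMd
  obtain ⟨hM, hCM, hNM⟩ := red_self_isFullyNormalized (p := p) F
  haveI := finite_of_le hM.1
  haveI := finite_autGroup F hM.1
  set G := F.autGroup M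
  haveI := Fintype.ofFinite G
  obtain ⟨-, -, R, hR⟩ := centralized_automized_of_fullyNormalized hS hF hM
  haveI : Fintype (G ⧸ (R : Subgroup G)) := Fintype.ofFinite _
  have hZM : ZS ≤ M := fun z hz => Subgroup.mem_sup_right ⟨hz.1,
    fun j hj => hz.2 j (thompsonSubgroupOf_le p S hj)⟩
  letI : CommGroup (Subgroup.center ↥M) :=
    { (inferInstance : Group (Subgroup.center ↥M)) with
      mul_comm := fun a b => Subtype.ext (Subgroup.mem_center_iff.mp b.2 (a : M)) }
  set ρ := centreRestr M G with hρ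
  let ι : ZS →* Subgroup.center ↥M :=
    (Subgroup.inclusion hZM).codRestrict (Subgroup.center ↥M) fun z =>
      Subgroup.mem_center_iff.mpr fun x => Subtype.ext (z.2.2 x (hM.1 x.2))
  let τ : ZS →* Subgroup.center ↥M := ∏ q : G ⧸ (R : Subgroup G), (ρ q.out).toMonoidHom.comp ι
  have hτ : ∀ z, τ z = ∏ q : G ⧸ (R : Subgroup G), ρ q.out (ι z) := fun z => by
    simp [τ]
  have hRfix : ∀ r ∈ (R : Subgroup G), ∀ z : ZS, ρ r (ι z) = ι z := by
    intro r hr z
    rw [hR] at hr
    obtain ⟨g, hg, hgx⟩ := mem_autInducedBy_iff.mp (Subgroup.mem_subgroupOf.mp hr)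
    refine Subtype.ext (Subtype.ext ?_)
    rw [centreRestr_apply, hgx]
    show g * (z : Ω) * g⁻¹ = z
    rw [z.2.2 g hg, mul_inv_cancel_right]
  have hτG : ∀ (g : G) (z : ZS), ρ g (τ z) = τ z := by
    intro g z
    rw [hτ, map_prod]
    refine Fintype.prod_equiv (MulAction.toPerm g) _ _ fun q => ?_
    obtain ⟨r, hr⟩ : ∃ r ∈ (R : Subgroup G), g * q.out = (g • q).out * r := by
      refine ⟨(g • q).out⁻¹ * (g * q.out), ?_, by group⟩
      rw [← QuotientGroup.eq, QuotientGroup.out_eq', ← smul_eq_mul, MulAction.Quotient.mk_smul_out]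
    rw [← MulAut.mul_apply, ← map_mul, hr.2, map_mul, MulAut.mul_apply, hRfix r hr.1 z]
    rfl
  -- elements fixed by `G` lie in the centre
  have hcentral : ∀ z ∈ ZS, (∀ (α : MulAut M), α ∈ G → ∀ h : z ∈ M, α ⟨z, h⟩ = ⟨z, h⟩) →
      z ∈ F.center := by
    intro z hz hfix
    have hall := fixed hp hS hF hz.1 hz.2 hfix
    refine isCentral_le_center ?_ (Subgroup.mem_zpowers z)
    refine CfsgLib.FusionBasics.isCentral_of_generators hS hF fun P hP => ?_
    have hPc : P ≤ S ∧ centralizerIn S P ≤ P := by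
      rcases hP with rfl | he
      · exact ⟨le_rfl, inf_le_left⟩
      · exact ⟨he.1.1, he.1.2 P (isConj_refl F he.1.1)⟩
    have hzP : z ∈ P := hPc.2 ⟨hz.1, fun x hx => hz.2 x (hPc.1 hx)⟩
    refine ⟨Subgroup.zpowers_le.mpr hzP, fun α hα x hx => ?_⟩
    obtain ⟨k, hk⟩ := Subgroup.mem_zpowers_iff.mp hx
    have hαz : α ⟨z, hzP⟩ = ⟨z, hzP⟩ :=
      Subtype.ext (hall P _ ((mem_autGroup_iff F hPc.1).mp hα) hzP)
    have hxe : x = ⟨z, hzP⟩ ^ k := Subtype.ext (by simp [hk])
    rw [hxe, map_zpow, hαz]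
  -- the values of the transfer are central
  have hτmem : ∀ z, (((τ z : Subgroup.center ↥M) : M) : Ω) ∈ F.center := by
    intro z
    refine hcentral _ ⟨hM.1 (τ z : M).2, fun s hs => ?_⟩ fun α hα _ => ?_
    · have hy : conjAut M s (hNM hs) ∈ G := autInducedBy_le_autGroup F hM.1 (conjAut_mem hs (hNM hs))
      have h : s * ((τ z : M) : Ω) * s⁻¹ = ((τ z : M) : Ω) :=
        congrArg (fun w : Subgroup.center ↥M => ((w : M) : Ω)) (hτG ⟨_, hy⟩ z)
      exact mul_inv_eq_iff_eq_mul.mp h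
    · exact congrArg (fun w : Subgroup.center ↥M => (w : M)) (hτG ⟨α, hα⟩ z)
  have hZFS : F.center ≤ ZS := le_inf (center_le F) (Cfsg.FusionSystem.center_le_centralizer F)
  set d := (R : Subgroup G).index
  have hτfix : ∀ (z : ZS), (z : Ω) ∈ F.center → τ z = ι z ^ d := by
    intro z hz
    have hfix : ∀ g : G, ρ g (ι z) = ι z := fun g => Subtype.ext (Subtype.ext (by
      rw [centreRestr_apply]
      exact CfsgLib.FusionSub.apply_eq_of_isCentral (isCentral_center F) ((mem_autGroup_iff F hM.1).mp g.2) hz _))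
    rw [hτ, Finset.prod_congr rfl fun q _ => hfix q.out, Finset.prod_const, Finset.card_univ,
      ← Nat.card_eq_fintype_card]
    rfl
  haveI := finite_of_le (center_le F)
  have hcop : (Nat.card F.center).Coprime d := by
    obtain ⟨k, hk⟩ := IsPGroup.iff_card.mp (isPGroup_of_le hS (center_le F))
    rw [hk]
    exact Nat.Coprime.pow_left k ((Fact.out : p.Prime).coprime_iff_not_dvd.mpr R.not_dvd_index)
  refine ⟨τ.ker.map ZS.subtype, Subgroup.map_subtype_le _, ?_, ?_⟩
  · refine (Subgroup.eq_bot_iff_forall _).mpr ?_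
    rintro _ ⟨hx, z, hz, rfl⟩
    have h1 : ι z ^ d = 1 := (hτfix z hx).symm.trans (MonoidHom.mem_ker.mp hz)
    have h2 : (⟨(z : Ω), hx⟩ : F.center) ^ d = 1 ^ d := by
      rw [one_pow]
      exact Subtype.ext (congrArg (fun w : Subgroup.center ↥M => ((w : M) : Ω)) h1)
    exact congrArg Subtype.val ((powCoprime hcop).injective h2)
  · refine le_antisymm (sup_le hZFS (Subgroup.map_subtype_le _)) fun x hx => ?_
    obtain ⟨u, hu⟩ := (powCoprime hcop).surjective ⟨_, hτmem ⟨x, hx⟩⟩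
    replace hu : u ^ d = ⟨_, hτmem ⟨x, hx⟩⟩ := hu
    have hker : (⟨(u : Ω), hZFS u.2⟩ : ZS)⁻¹ * ⟨x, hx⟩ ∈ τ.ker := by
      refine MonoidHom.mem_ker.mpr ?_
      rw [map_mul, map_inv, hτfix ⟨_, hZFS u.2⟩ u.2, inv_mul_eq_one]
      exact Subtype.ext (Subtype.ext (congrArg (fun w : F.center => (w : Ω)) hu))
    have h1 := Subgroup.mul_mem (F.center ⊔ τ.ker.map ZS.subtype) (Subgroup.mem_sup_left u.2)
      (Subgroup.mem_sup_right (Subgroup.mem_map_of_mem ZS.subtype hker))
    simpa using h1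

end CfsgLib.FusionExamples.ControlFixed
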