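import Cfsg.Agent.Lib.FusionExamples.G2J2Check
import Cfsg.Agent.Lib.SporRecognition.CosetCert.Order

/-! Checks: J2 inside G2(4), A. -/

set_option autoImplicit false
set_option linter.all false
set_option Elab.async false

namespace CfsgLib.FusionExamples.G2J2

open CfsgLib.SporRecognition.CosetCert (allBelow allBelow_of_upto Upto allPow allPow_append)

theorem elem_ok_0 : allPow 1286 elemStep 6 0 = true := by decide +kernel

theorem elem_ok_1 : allPow 1286 elemStep 6 64 = true := by decide +kernel

theorem elem_ok_2 : allPow 1286 elemStep 6 128 = true := by decide +kernel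

theorem elem_ok_3 : allPow 1286 elemStep 6 192 = true := by decide +kernel

theorem elem_ok_4 : allPow 1286 elemStep 6 256 = true := by decide +kernel

theorem elem_ok_5 : allPow 1286 elemStep 6 320 = true := by decide +kernel

theorem elem_ok_6 : allPow 1286 elemStep 6 384 = true := by decide +kernel

theorem elem_ok_7 : allPow 1286 elemStep 6 448 = true := by decide +kernel

theorem elem_ok_8 : allPow 1286 elemStep 6 512 = true := by decide +kernel

theorem elem_ok_9 : allPow 1286 elemStep 6 576 = true := by decide +kernel

theorem elem_ok_10 : allPow 1286 elemStep 6 640 = true := by decide +kernel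

theorem elem_ok_11 : allPow 1286 elemStep 6 704 = true := by decide +kernel

theorem elem_ok_12 : allPow 1286 elemStep 6 768 = true := by decide +kernel

theorem elem_ok_13 : allPow 1286 elemStep 6 832 = true := by decide +kernel

theorem elem_ok_14 : allPow 1286 elemStep 6 896 = true := by decide +kernel

theorem elem_ok_15 : allPow 1286 elemStep 6 960 = true := by decide +kernel

theorem elem_ok_16 : allPow 1286 elemStep 6 1024 = true := by decide +kernel

theorem elem_ok_17 : allPow 1286 elemStep 6 1088 = true := by decide +kernel

theorem elem_ok_18 : allPow 1286 elemStep 6 1152 = true := by decide +kernel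

theorem elem_ok_19 : allPow 1286 elemStep 6 1216 = true := by decide +kernel

theorem elem_ok_20 : allPow 1286 elemStep 6 1280 = true := by decide +kernel

theorem elem_ok_21 : allPow 1286 elemStep 6 1344 = true := by decide +kernel

theorem elem_ok_22 : allPow 1286 elemStep 6 1408 = true := by decide +kernel

theorem elem_ok_23 : allPow 1286 elemStep 6 1472 = true := by decide +kernel

theorem elem_ok_24 : allPow 1286 elemStep 6 1536 = true := by decide +kernel

theorem elem_ok_25 : allPow 1286 elemStep 6 1600 = true := by decide +kernel

theorem elem_ok_26 : allPow 1286 elemStep 6 1664 = true := by decide +kernel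

theorem elem_ok_27 : allPow 1286 elemStep 6 1728 = true := by decide +kernel

theorem elem_ok_28 : allPow 1286 elemStep 6 1792 = true := by decide +kernel

theorem elem_ok_29 : allPow 1286 elemStep 6 1856 = true := by decide +kernel

theorem elem_ok_30 : allPow 1286 elemStep 6 1920 = true := by decide +kernel

theorem elem_ok_31 : allPow 1286 elemStep 6 1984 = true := by decide +kernel

theorem elem_ok : allBelow 11 1286 elemStep = true :=
  allBelow_of_upto (hi := 2048) (Upto.of_pow (d := 11) (allPow_append (allPow_append (allPow_append (allPow_append (allPow_append elem_ok_0 elem_ok_1) (allPow_append elem_ok_2 elem_ok_3)) (allPow_append (allPow_append elem_ok_4 elem_ok_5) (allPow_append elem_ok_6 elem_ok_7))) (allPow_append (allPow_append (allPow_append elem_ok_8 elem_ok_9) (allPow_append elem_ok_10 elem_ok_11)) (allPow_append (allPow_append elem_ok_12 elem_ok_13) (allPow_append elem_ok_14 elem_ok_15)))) (allPow_append (allPow_append (allPow_append (allPow_append elem_ok_16 elem_ok_17) (allPow_append elem_ok_18 elem_ok_19)) (allPow_append (allPow_append elem_ok_20 elem_ok_21) (allPow_append elem_ok_22 elem_ok_23))) (allPow_append (allPow_append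 (allPow_append elem_ok_24 elem_ok_25) (allPow_append elem_ok_26 elem_ok_27)) (allPow_append (allPow_append elem_ok_28 elem_ok_29) (allPow_append elem_ok_30 elem_ok_31))))) (Nat.le_refl _)) (by decide) (by decide)

end CfsgLib.FusionExamples.G2J2
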