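import Cfsg.Agent.Lib.FusionExamples.Basic
import Mathlib.GroupTheory.Commutator.Basic
import Cfsg.Agent.Lib.FusionBasics.Normal
import Cfsg.Agent.Lib.FusionBasics.Focal
import Cfsg.Agent.Lib.FusionSub.LocalTools
import Cfsg.Agent.Lib.FusionSub.Solvable

/-!
An analogue of Grün's lemma: a system with hyperfocal subgroup `S` has trivial centre modulo its
centre.
-/

set_option autoImplicit false
set_option linter.style.haveILetI false
set_option linter.unusedSectionVars false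

namespace CfsgLib.FusionExamples

open Cfsg Cfsg.FusionSystem CfsgLib.Alperin CfsgLib.FusionSub
open scoped commutatorElement

variable {Ω : Type*} [Group Ω] {S : Subgroup Ω} [Finite S] {p : ℕ} [Fact p.Prime]

theorem center_factor_eq_bot (hS : IsPGroup p S) {F : FusionSystem S} (hF : F.IsSaturated p)
    (hperf : F.hyperfocalSubgroup p = S)
    {E : FusionSystem (⊤ : Subgroup (↥S ⧸ (F.center).subgroupOf S))}
    (hE : F.IsFactorSystem F.center (QuotientGroup.mk' ((F.center).subgroupOf S)) E) :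
    E.center = ⊥ := by
  have hZ : F.IsCentral F.center := isCentral_center F
  set Z := F.center with hZd
  set θ : ↥S →* ↥S ⧸ Z.subgroupOf S := QuotientGroup.mk' (Z.subgroupOf S) with hθ
  have hZsc : F.StronglyClosed Z := ⟨hZ.1, fun R hR φ hφ x => by
    have := FusionSub.apply_eq_of_isCentral hZ hφ (hR x.2) x.2
    exact (show φ x = (x : Ω) from this).symm ▸ hR x.2⟩
  have hker : ∀ s : S, θ s = 1 ↔ (s : Ω) ∈ Z := fun s => QuotientGroup.eq_one_iff s
  have hrange : θ.range = ⊤ := MonoidHom.range_eq_top.mpr (QuotientGroup.mk'_surjective _)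
  haveI : Finite (⊤ : Subgroup (↥S ⧸ Z.subgroupOf S)) := finite_of_range hrange
  have hW' : E.IsCentral E.center := isCentral_center E
  set W' := E.center with hW'd
  set W := preimageAlong θ W' with hWd
  have hWS : W ≤ S := preimageAlong_le θ W'
  have hZc : ∀ z ∈ Z, ∀ s ∈ S, z * s = s * z := fun z hz s hs =>
    ((FusionSub.le_center_of_isCentral hZ hz).2 s hs).symm
  -- every map lifts modulo `Z` to a map fixing `W` modulo `Z`
  have key : ∀ (P : Subgroup Ω) (φ : P →* Ω) (hφ : φ ∈ F.Hom P) (w : Ω) (hw : w ∈ W) (x : P),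
      ⁅w, φ x⁆ = ⁅w, (x : Ω)⁆ := by
    intro P φ hφ w hw x
    have hP := dom_le hφ
    obtain ⟨φ', hφ', hP0, hφS, hPP, hind⟩ :=
      (Cfsg.Agent.S5134.result p hS F hF Z hZsc θ E hE).1.2 P φ hφ
    obtain ⟨ψ', hψ', hψx, hψw⟩ := hW'.2 _ φ' hφ'
    obtain ⟨-, ψ, hψ, hQ, hψS, hQQ, hindψ⟩ := (hE.2.2.2 _ ψ').mp hψ'
    have hxm : (x : Ω) ∈ preimageAlong θ (imageAlong θ P ⊔ W') :=
      mem_preimageAlong.mpr ⟨hP x.2, Subgroup.mem_sup_left ⟨⟨x, hP x.2⟩, x.2, rfl⟩⟩
    have hwm : w ∈ preimageAlong θ (imageAlong θ P ⊔ W') := by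
      obtain ⟨hwS, h⟩ := mem_preimageAlong.mp hw
      exact mem_preimageAlong.mpr ⟨hwS, Subgroup.mem_sup_right h⟩
    -- `ψ` agrees with `φ` at `x` and fixes `w`, modulo `Z`
    have h1 : θ ⟨φ x, apply_mem hφ x⟩ = θ ⟨ψ ⟨x, hxm⟩, hψS _⟩ := by
      rw [← hindψ ⟨x, hxm⟩, ← hind x, ← hψx]
      rfl
    have h2 : θ ⟨w, hWS hw⟩ = θ ⟨ψ ⟨w, hwm⟩, hψS _⟩ := by
      rw [← hindψ ⟨w, hwm⟩]
      exact ((hψw ⟨θ ⟨w, hWS hw⟩, (mem_preimageAlong.mp hw).2⟩).symm.trans rfl)
    have h1' := QuotientGroup.eq.mp (show (QuotientGroup.mk _ : ↥S ⧸ Z.subgroupOf S) = QuotientGroup.mk _ from h1)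
    have h2' := QuotientGroup.eq.mp (show (QuotientGroup.mk _ : ↥S ⧸ Z.subgroupOf S) = QuotientGroup.mk _ from h2)
    obtain ⟨a, ha, hax⟩ : ∃ a ∈ Z, ψ ⟨x, hxm⟩ = φ x * a := ⟨_, h1', (mul_inv_cancel_left _ _).symm⟩
    obtain ⟨b, hb, hbw⟩ : ∃ b ∈ Z, ψ ⟨w, hwm⟩ = w * b := ⟨_, h2', (mul_inv_cancel_left _ _).symm⟩
    have hWc : ⁅w, (x : Ω)⁆ ∈ Z := by
      have h3 : θ ⁅(⟨w, hWS hw⟩ : S), (⟨x, hP x.2⟩ : S)⁆ = 1 := by
        rw [map_commutatorElement, commutatorElement_eq_one_iff_mul_comm]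
        exact ((FusionSub.le_center_of_isCentral hW' (mem_preimageAlong.mp hw).2).2 _
          (Subgroup.mem_top _)).symm
      exact (hker _).mp h3
    have hcm : ⁅w, (x : Ω)⁆ ∈ preimageAlong θ (imageAlong θ P ⊔ W') :=
      ker_le_preimageAlong hZ.1 hker _ hWc
    have h4 : ψ ⟨⁅w, (x : Ω)⁆, hcm⟩ = ⁅w, (x : Ω)⁆ := FusionSub.apply_eq_of_isCentral hZ hψ hWc _
    rw [← h4]
    have h5 : (⟨⁅w, (x : Ω)⁆, hcm⟩ : ↥(preimageAlong θ (imageAlong θ P ⊔ W'))) =
        ⁅(⟨w, hwm⟩ : ↥(preimageAlong θ (imageAlong θ P ⊔ W'))),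
          (⟨(x : Ω), hxm⟩ : ↥(preimageAlong θ (imageAlong θ P ⊔ W')))⁆ := rfl
    rw [h5, map_commutatorElement, hax, hbw, commutatorElement_def, commutatorElement_def]
    have ha' := hZc a ha
    have hb' := hZc b hb
    have hwS := hWS hw
    have hxS := apply_mem hφ x
    symm
    calc w * b * (φ x * a) * (w * b)⁻¹ * (φ x * a)⁻¹
        = w * (b * φ x) * a * b⁻¹ * w⁻¹ * a⁻¹ * (φ x)⁻¹ := by group
      _ = w * φ x * (b * a) * b⁻¹ * w⁻¹ * a⁻¹ * (φ x)⁻¹ := by rw [hb' _ hxS]; group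
      _ = w * φ x * a * w⁻¹ * a⁻¹ * (φ x)⁻¹ := by rw [hb' _ (hZ.1 ha)]; group
      _ = w * φ x * (a * w⁻¹) * a⁻¹ * (φ x)⁻¹ := by group
      _ = w * φ x * w⁻¹ * (φ x)⁻¹ := by rw [ha' _ (S.inv_mem hwS)]; group
  -- `W` is central in `S`
  have hWZ : ∀ w ∈ W, ∀ s ∈ S, Commute w s := by
    intro w hw s hs
    have hle : F.hyperfocalSubgroup p ≤ S ⊓ Subgroup.centralizer {w} := by
      refine le_trans (FusionBasics.hyperfocalSubgroup_le_focalSubgroup F p) ((Subgroup.closure_le _).mpr ?_)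
      rintro _ ⟨P, φ, x, hφ, rfl⟩
      refine ⟨S.mul_mem (S.inv_mem (dom_le hφ x.2)) (apply_mem hφ x), fun y hy => ?_⟩
      obtain rfl := Set.mem_singleton_iff.mp hy
      have h := key P φ hφ _ hw x
      have hxS := dom_le hφ x.2
      have hc : ⁅y, (x : Ω)⁆ ∈ Z := by
        have h3 : θ ⁅(⟨y, hWS hw⟩ : S), (⟨x, hxS⟩ : S)⁆ = 1 := by
          rw [map_commutatorElement, commutatorElement_eq_one_iff_mul_comm]
          exact ((FusionSub.le_center_of_isCentral hW' (mem_preimageAlong.mp hw).2).2 _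
            (Subgroup.mem_top _)).symm
        exact (hker _).mp h3
      have hcx := hZc _ hc _ (S.inv_mem hxS)
      set c := ⁅y, (x : Ω)⁆ with hcd
      have e1 : y * φ x = c * φ x * y := by rw [← h, commutatorElement_def]; group
      have e2 : y * (x : Ω)⁻¹ = c⁻¹ * (x : Ω)⁻¹ * y := by
        have h6 : y * (x : Ω) = c * x * y := by rw [hcd, commutatorElement_def]; group
        calc y * (x : Ω)⁻¹ = (x : Ω)⁻¹ * c⁻¹ * (c * x * y) * (x : Ω)⁻¹ := by group
          _ = (x : Ω)⁻¹ * c⁻¹ * y := by rw [← h6]; group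
          _ = c⁻¹ * (x : Ω)⁻¹ * y := by rw [← hZc _ (Z.inv_mem hc) _ (S.inv_mem hxS)]
      show y * ((x : Ω)⁻¹ * φ x) = (x : Ω)⁻¹ * φ x * y
      calc y * ((x : Ω)⁻¹ * φ x) = c⁻¹ * (x : Ω)⁻¹ * (y * φ x) := by rw [← mul_assoc, e2, mul_assoc]
        _ = c⁻¹ * ((x : Ω)⁻¹ * c) * (φ x * y) := by rw [e1]; group
        _ = c⁻¹ * (c * (x : Ω)⁻¹) * (φ x * y) := by rw [← hcx]
        _ = (x : Ω)⁻¹ * φ x * y := by group
    rw [hperf] at hle
    exact (hle hs).2 w (Set.mem_singleton w)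
  -- `W` is central in `F`
  have hWcen : F.IsCentral W := by
    refine FusionBasics.isCentral_of_generators hS hF fun P hP => ?_
    have hPc : F.IsCentric P ∧ F.IsFullyNormalized P := by
      rcases hP with rfl | hP
      · exact ⟨isCentric_top F, isFullyNormalized_top F⟩
      · exact ⟨hP.1, hP.2.1⟩
    have hPS := hPc.1.1
    have hWP : W ≤ P := fun w hw => hPc.1.2 P (isConj_refl F hPS)
      ⟨hWS hw, fun y hy => (hWZ w hw y (hPS hy)).symm.eq⟩
    refine ⟨hWP, ?_⟩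
    haveI := finite_autGroup F hPS
    -- modulo `Z`, all automorphisms fix `W`
    have hδ : ∀ α ∈ F.autGroup P, ∀ x : P, (x : Ω) ∈ W → (x : Ω)⁻¹ * ((α x : P) : Ω) ∈ Z := by
      intro α hα x hx
      obtain ⟨φ', hφ', hP0, hφS, hPP, hind⟩ :=
        (Cfsg.Agent.S5134.result p hS F hF Z hZsc θ E hE).1.2 P _ ((mem_autGroup_iff F hPS).mp hα)
      have h1 := FusionSub.apply_eq_of_isCentral hW' hφ' (mem_preimageAlong.mp hx).2 (hPP x)
      have h2 : θ ⟨x, hP0 x.2⟩ = θ ⟨((α x : P) : Ω), hPS (α x).2⟩ := h1.symm.trans (hind x)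
      have h3 := QuotientGroup.eq.mp
        (show (QuotientGroup.mk _ : ↥S ⧸ Z.subgroupOf S) = QuotientGroup.mk _ from h2)
      exact h3
    have hfixZ : ∀ α ∈ F.autGroup P, ∀ x : P, (x : Ω) ∈ Z → α x = x := fun α hα x hx =>
      Subtype.ext (FusionSub.apply_eq_of_isCentral hZ ((mem_autGroup_iff F hPS).mp hα) hx x.2)
    -- the automorphisms fixing `W`
    let K : Subgroup (F.autGroup P) :=
      { carrier := {α | ∀ x : P, (x : Ω) ∈ W → (α : MulAut P) x = x}
        one_mem' := fun x _ => rfl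
        mul_mem' := fun {a b} ha hb x hx => by
          show (a : MulAut P) ((b : MulAut P) x) = x
          rw [hb x hx, ha x hx]
        inv_mem' := fun {a} ha x hx => by
          show (a : MulAut P).symm x = x
          conv_lhs => rw [← ha x hx]
          exact MulEquiv.symm_apply_apply _ x }
    obtain ⟨-, R, hR⟩ := (centralized_automized_of_fullyNormalized hS hF hPc.2).2
    suffices hK : K = ⊤ by
      intro α hα x hx
      exact hK.ge (Subgroup.mem_top (⟨α, hα⟩ : F.autGroup P)) x hx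
    rw [eq_top_iff, ← FusionBasics.pResidual_sup_sylow R]
    refine sup_le ((Subgroup.closure_le _).mpr ?_) ?_
    · rintro a (hcop : Nat.Coprime (orderOf a) p) x hx
      haveI := finite_of_le hPS
      have hit : ∀ j : ℕ, ((a : MulAut P) ^ j) x = x * (x⁻¹ * (a : MulAut P) x) ^ j := by
        intro j
        induction j with
        | zero => simp
        | succ j ih =>
          rw [pow_succ', MulAut.mul_apply, ih, map_mul, map_pow]
          rw [hfixZ a a.2 (x⁻¹ * (a : MulAut P) x) (hδ a a.2 x hx)]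
          rw [pow_succ' (x⁻¹ * (a : MulAut P) x) j, ← mul_assoc, mul_inv_cancel_left]
      set c := x⁻¹ * (a : MulAut P) x with hcd
      have h1 : c ^ orderOf a = 1 := by
        have h2 := hit (orderOf a)
        rw [← SubgroupClass.coe_pow, pow_orderOf_eq_one] at h2
        exact (mul_eq_left.mp h2.symm)
      obtain ⟨k, hk⟩ := (isPGroup_of_le hS hPS) c
      have h3 := pow_gcd_eq_one.mpr ⟨h1, hk⟩
      rw [hcop.pow_right k, pow_one, hcd, inv_mul_eq_one] at h3
      exact h3.symm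
    · intro a ha x hx
      rw [hR] at ha
      obtain ⟨g, hg, hgx⟩ := mem_autInducedBy_iff.mp (Subgroup.mem_subgroupOf.mp ha)
      refine Subtype.ext ((hgx x).trans ?_)
      rw [(hWZ _ hx g hg).symm.eq, mul_inv_cancel_right]
  rw [eq_bot_iff]
  intro y hy
  obtain ⟨s, rfl⟩ := QuotientGroup.mk'_surjective _ y
  rw [Subgroup.mem_bot]
  exact (hker s).mpr (isCentral_le_center hWcen (mem_preimageAlong.mpr ⟨s.2, hy⟩))

end CfsgLib.FusionExamples
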