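import Cfsg.Agent.Lib.FusionExamples.J3OutCheck

/-! Checks: automorphisms of J3, J3OutCheckA. -/

set_option autoImplicit false
set_option linter.all false
set_option Elab.async false

namespace CfsgLib.FusionExamples.J3Out

open CfsgLib.SporRecognition.CosetCert (allBelow allBelow_of_upto Upto allPow allPow_append)
open CfsgLib.SporadicB.J3Inv (run step tw e0 e1 e2)

theorem five_ok_0 : allPow 1920 fiveStep 8 0 = true := by decide +kernel

theorem five_ok_1 : allPow 1920 fiveStep 8 256 = true := by decide +kernel

theorem five_ok_2 : allPow 1920 fiveStep 8 512 = true := by decide +kernel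

theorem five_ok_3 : allPow 1920 fiveStep 8 768 = true := by decide +kernel

theorem five_ok_4 : allPow 1920 fiveStep 8 1024 = true := by decide +kernel

theorem five_ok_5 : allPow 1920 fiveStep 8 1280 = true := by decide +kernel

theorem five_ok_6 : allPow 1920 fiveStep 8 1536 = true := by decide +kernel

theorem five_ok_7 : allPow 1920 fiveStep 8 1792 = true := by decide +kernel

theorem five_ok : allBelow 11 1920 fiveStep = true :=
  allBelow_of_upto (hi := 2048) (Upto.of_pow (d := 11) (allPow_append (allPow_append (allPow_append five_ok_0 five_ok_1) (allPow_append five_ok_2 five_ok_3)) (allPow_append (allPow_append five_ok_4 five_ok_5) (allPow_append five_ok_6 five_ok_7))) (Nat.le_refl _)) (by decide) (by decide)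

end CfsgLib.FusionExamples.J3Out
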