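import Cfsg.Agent.Lib.FusionExamples.J3OutCheck

/-! Checks: automorphisms of J3, J3OutCheckB. -/

set_option autoImplicit false
set_option linter.all false
set_option Elab.async false

namespace CfsgLib.FusionExamples.J3Out

open CfsgLib.SporRecognition.CosetCert (allBelow allBelow_of_upto Upto allPow allPow_append)
open CfsgLib.SporadicB.J3Inv (run step tw e0 e1 e2)

theorem b_ok_0_0 : allPow 1920 (bStep 0) 9 0 = true := by decide +kernel

theorem b_ok_0_1 : allPow 1920 (bStep 0) 9 512 = true := by decide +kernel

theorem b_ok_0_2 : allPow 1920 (bStep 0) 9 1024 = true := by decide +kernel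

theorem b_ok_0_3 : allPow 1920 (bStep 0) 9 1536 = true := by decide +kernel

theorem b_ok_0 : allBelow 11 1920 (bStep 0) = true :=
  allBelow_of_upto (hi := 2048) (Upto.of_pow (d := 11) (allPow_append (allPow_append b_ok_0_0 b_ok_0_1) (allPow_append b_ok_0_2 b_ok_0_3)) (Nat.le_refl _)) (by decide) (by decide)

theorem b_ok_1_0 : allPow 1920 (bStep 1) 9 0 = true := by decide +kernel

theorem b_ok_1_1 : allPow 1920 (bStep 1) 9 512 = true := by decide +kernel

theorem b_ok_1_2 : allPow 1920 (bStep 1) 9 1024 = true := by decide +kernel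

theorem b_ok_1_3 : allPow 1920 (bStep 1) 9 1536 = true := by decide +kernel

theorem b_ok_1 : allBelow 11 1920 (bStep 1) = true :=
  allBelow_of_upto (hi := 2048) (Upto.of_pow (d := 11) (allPow_append (allPow_append b_ok_1_0 b_ok_1_1) (allPow_append b_ok_1_2 b_ok_1_3)) (Nat.le_refl _)) (by decide) (by decide)

end CfsgLib.FusionExamples.J3Out
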