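import Cfsg.Agent.Lib.FusionExamples.J3OutCheck

/-! Checks: automorphisms of J3, J3OutCheckC1. -/

set_option autoImplicit false
set_option linter.all false
set_option Elab.async false

namespace CfsgLib.FusionExamples.J3Out

open CfsgLib.SporRecognition.CosetCert (allBelow allBelow_of_upto Upto allPow allPow_append)
open CfsgLib.SporadicB.J3Inv (run step tw e0 e1 e2)

theorem y_ok_1_0 : allPow 1920 (yStep 1) 8 0 = true := by decide +kernel

theorem y_ok_1_1 : allPow 1920 (yStep 1) 8 256 = true := by decide +kernel

theorem y_ok_1_2 : allPow 1920 (yStep 1) 8 512 = true := by decide +kernel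

theorem y_ok_1_3 : allPow 1920 (yStep 1) 8 768 = true := by decide +kernel

theorem y_ok_1_4 : allPow 1920 (yStep 1) 8 1024 = true := by decide +kernel

theorem y_ok_1_5 : allPow 1920 (yStep 1) 8 1280 = true := by decide +kernel

theorem y_ok_1_6 : allPow 1920 (yStep 1) 8 1536 = true := by decide +kernel

theorem y_ok_1_7 : allPow 1920 (yStep 1) 8 1792 = true := by decide +kernel

theorem y_ok_1 : allBelow 11 1920 (yStep 1) = true :=
  allBelow_of_upto (hi := 2048) (Upto.of_pow (d := 11) (allPow_append (allPow_append (allPow_append y_ok_1_0 y_ok_1_1) (allPow_append y_ok_1_2 y_ok_1_3)) (allPow_append (allPow_append y_ok_1_4 y_ok_1_5) (allPow_append y_ok_1_6 y_ok_1_7))) (Nat.le_refl _)) (by decide) (by decide)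

end CfsgLib.FusionExamples.J3Out
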