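import Cfsg.Agent.Lib.FusionExamples.J3OutCheck

/-! Checks: automorphisms of J3, J3OutCheckD. -/

set_option autoImplicit false
set_option linter.all false
set_option Elab.async false

namespace CfsgLib.FusionExamples.J3Out

open CfsgLib.SporRecognition.CosetCert (allBelow allBelow_of_upto Upto allPow allPow_append)
open CfsgLib.SporadicB.J3Inv (run step tw e0 e1 e2)

theorem base_ok : (baseStep 0 && baseStep 1) = true := by decide +kernel

theorem src_ok : (relsOK (tri (ew (rep 0)) (ew (tgt 0)) 0) centRel && relsOK (gw 0) genRel &&
    sameW (tri (ew (rep 0)) 0 0) [0, 0, 0, 0, 0] [] && !(sameW (tri (ew (rep 0)) 0 0) [0] []) &&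
    sameW (fun i => bif Nat.blt i 3 then gw 0 i else 0) (uword ++ [2]) (2 :: uword)) = true := by decide +kernel

theorem order_ok : (sameW (gw 0) (List.replicate 17 word17).flatten [] && !(sameW (gw 0) word17 []) &&
    sameW (gw 0) (List.replicate 19 word19).flatten [] && !(sameW (gw 0) word19 []) &&
    sameW (gw 0) (List.replicate 9 word9).flatten [] &&
    !(sameW (gw 0) (List.replicate 3 word9).flatten [])) = true := by decide +kernel

theorem tree_ok_0 : allPow 1920 treeStep 9 0 = true := by decide +kernel

theorem tree_ok_1 : allPow 1920 treeStep 9 512 = true := by decide +kernel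

theorem tree_ok_2 : allPow 1920 treeStep 9 1024 = true := by decide +kernel

theorem tree_ok_3 : allPow 1920 treeStep 9 1536 = true := by decide +kernel

theorem tree_ok : allBelow 11 1920 treeStep = true :=
  allBelow_of_upto (hi := 2048) (Upto.of_pow (d := 11) (allPow_append (allPow_append tree_ok_0 tree_ok_1) (allPow_append tree_ok_2 tree_ok_3)) (Nat.le_refl _)) (by decide) (by decide)

/-- Conjugation by the permutation carries the first case to the second. -/
theorem sigma_gen : ([0, 1, 2].all fun i => [0, 4, 1].all fun x =>
    Nat.beq (sigma (run (gw 0 i) (sigmaInv x))) (run (gw 1 i) x)) = true := by decide +kernel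

noncomputable def notConjStep (j : Nat) : Bool :=
  !(sameW (tri (ew j) (ew (rep 0)) (ew (rep 1))) [0, 1] [2, 0])

theorem not_conj_ok_0 : allPow 1920 notConjStep 9 0 = true := by decide +kernel

theorem not_conj_ok_1 : allPow 1920 notConjStep 9 512 = true := by decide +kernel

theorem not_conj_ok_2 : allPow 1920 notConjStep 9 1024 = true := by decide +kernel

theorem not_conj_ok_3 : allPow 1920 notConjStep 9 1536 = true := by decide +kernel

theorem not_conj_ok : allBelow 11 1920 notConjStep = true :=
  allBelow_of_upto (hi := 2048) (Upto.of_pow (d := 11) (allPow_append (allPow_append not_conj_ok_0 not_conj_ok_1) (allPow_append not_conj_ok_2 not_conj_ok_3)) (Nat.le_refl _)) (by decide) (by decide)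

end CfsgLib.FusionExamples.J3Out
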