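import Cfsg.Prelude.Def_KGroupFacts
import Cfsg.Agent.Lib.SporadicB.J3Inv.Main
import Cfsg.Agent.Lib.FusionExamples.J3OutCheckA
import Cfsg.Agent.Lib.FusionExamples.J3OutCheckB
import Cfsg.Agent.Lib.FusionExamples.J3OutCheckC0
import Cfsg.Agent.Lib.FusionExamples.J3OutCheckC1
import Cfsg.Agent.Lib.FusionExamples.J3OutCheckD
import Cfsg.Agent.Lib.FusionExamples.J3OutCheckE
import Cfsg.Agent.Lib.FusionExamples.J3OutOrbit

/-!
The outer automorphism group of J3 has order two.

After an inner automorphism an automorphism fixes the involution `t` and carries the two generators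
of its centraliser to one of two pairs; the third generator then has two possible images, exchanged
by conjugation with `t`. A permutation of the 6156 points gives the outer automorphism.
-/

set_option autoImplicit false
set_option linter.all false

namespace CfsgLib.FusionExamples.J3Out

open CfsgLib.SporRecognition.CosetCert (allBelow allBelow_spec)
open CfsgLib.SporadicB.J3Inv (Setup run step tw e0 e1 e2 elemStep elem_ok centStep)

attribute [local irreducible] opt opos ovia osrc ew fiveRep fiveConj bConj yw belt bpos bvia bsrc sigma sigmaInv step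
  e0 e1 e2

variable {G : Type*} [Group G] (S : Setup G)

/-- The product of the elements named by a word. -/
noncomputable def prodL (f : Nat → Nat) (l : List Nat) : G := (l.map fun i => S.elt (f i)).prod

theorem key_prodL (f : Nat → Nat) (l : List Nat) :
    S.key (prodL S f l) = (evL f l 0, evL f l 4, evL f l 1) := by
  induction l with
  | nil => rw [prodL, List.map_nil, List.prod_nil, S.key_one]; rfl
  | cons i l ih =>
    rw [prodL, List.map_cons, List.prod_cons, S.key_elt_mul,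
      show (List.map (fun i => S.elt (f i)) l).prod = prodL S f l from rfl, ih]
    rfl

theorem sameW_iff (f : Nat → Nat) (a b : List Nat) :
    sameW f a b = true ↔ prodL S f a = prodL S f b := by
  rw [← S.key_injective.eq_iff, key_prodL, key_prodL]
  simp [sameW, and_assoc]

theorem map_prodL (φ : G →* G) {f f' : Nat → Nat} (h : ∀ i, φ (S.elt (f i)) = S.elt (f' i)) (l : List Nat) :
    φ (prodL S f l) = prodL S f' l := by
  rw [prodL, prodL, map_list_prod, List.map_map]
  exact congrArg List.prod (List.map_congr_left fun i _ => h i)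

theorem sameW_map (φ : MulAut G) {f f' : Nat → Nat} (h : ∀ i, φ (S.elt (f i)) = S.elt (f' i))
    (a b : List Nat) : sameW f a b = sameW f' a b := by
  have e : ∀ l, φ (prodL S f l) = prodL S f' l := map_prodL S φ.toMonoidHom h
  rw [Bool.eq_iff_iff, sameW_iff S, sameW_iff S, ← e, ← e, φ.injective.eq_iff]

theorem relsOK_map (φ : MulAut G) {f f' : Nat → Nat} (h : ∀ i, φ (S.elt (f i)) = S.elt (f' i))
    (R : List (List Nat × List Nat × Bool)) : relsOK f R = relsOK f' R := by
  induction R with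
  | nil => rfl
  | cons r R ih =>
    show ((bif r.2.2 then sameW f r.1 r.2.1 else !(sameW f r.1 r.2.1)) && relsOK f R) =
      ((bif r.2.2 then sameW f' r.1 r.2.1 else !(sameW f' r.1 r.2.1)) && relsOK f' R)
    rw [ih, sameW_map S φ h]

theorem prodL_congr {f f' : Nat → Nat} {l : List Nat} (h : ∀ i ∈ l, f i = f' i) :
    prodL S f l = prodL S f' l := by
  rw [prodL, prodL]
  exact congrArg List.prod (List.map_congr_left fun i hi => by rw [h i hi])

theorem elt_zero : S.elt 0 = 1 := rfl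

theorem tri_zero (a b c : Nat) : tri a b c 0 = a := rfl
theorem tri_one (a b c : Nat) : tri a b c 1 = b := rfl
theorem tri_two (a b c : Nat) {i : Nat} (h0 : i ≠ 0) (h1 : i ≠ 1) : tri a b c i = c := by
  simp [tri, Bool.eq_false_iff.mpr (fun e => h0 (Nat.eq_of_beq_eq_true e) : ¬ Nat.beq i 0 = true),
    Bool.eq_false_iff.mpr (fun e => h1 (Nat.eq_of_beq_eq_true e) : ¬ Nat.beq i 1 = true)]

/-- An automorphism matching three elements matches their words. -/
theorem map_tri {φ : G → G} {a b c a' b' c' : Nat} (ha : φ (S.elt a) = S.elt a') (hb : φ (S.elt b) = S.elt b')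
    (hc : φ (S.elt c) = S.elt c') (i : Nat) : φ (S.elt (tri a b c i)) = S.elt (tri a' b' c' i) := by
  by_cases h0 : i = 0
  · subst h0; exact ha
  by_cases h1 : i = 1
  · subst h1; exact hb
  rw [tri_two _ _ _ h0 h1, tri_two _ _ _ h0 h1]
  exact hc

/-! ### The centraliser -/

theorem exists_elem (j : Nat) (hj : j < 1920) : ∃ x ∈ S.cent, S.key x = (e0 j, e1 j, e2 j) := by
  induction j using Nat.strongRecOn with
  | _ j ih =>
    have hel := fun i hi => allBelow_spec elem_ok i hi
    simp only [elemStep, Bool.and_eq_true] at hel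
    obtain ⟨⟨⟨⟨⟨-, hb⟩, -⟩, -⟩, -⟩, -⟩ := hel j hj
    by_cases hj0 : j = 0
    · subst hj0
      simp only [Nat.beq_refl, cond_true, Bool.and_eq_true, Nat.beq_eq] at hb
      exact ⟨1, S.cent.one_mem, by rw [hb.1.1.1.1, hb.1.1.1.2, hb.1.1.2]; exact S.key_one⟩
    rw [show Nat.beq j 0 = false from Bool.eq_false_iff.mpr fun e => hj0 (Nat.eq_of_beq_eq_true e),
      cond_false] at hb
    simp only [Bool.and_eq_true, Nat.blt_eq, Nat.beq_eq] at hb
    obtain ⟨⟨hv, hsrc⟩, htgt⟩ := hb
    obtain ⟨x, hx, hk⟩ := ih _ hsrc (hsrc.trans hj)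
    obtain ⟨⟨⟨⟨⟨⟨⟨⟨-, c0⟩, c1⟩, c2⟩, -⟩, -⟩, -⟩, -⟩, -⟩ := hel _ (hsrc.trans hj)
    have hc : centStep ⟨CfsgLib.SporadicB.J3Inv.cvia j, hv⟩ (CfsgLib.SporadicB.J3Inv.csrc j) = true := by
      obtain ⟨v, hv'⟩ : ∃ v, CfsgLib.SporadicB.J3Inv.cvia j = v := ⟨_, rfl⟩
      simp only [hv'] at hv ⊢
      interval_cases v
      exacts [c0, c1, c2]
    simp only [centStep, Bool.and_eq_true, Nat.beq_eq, Nat.blt_eq] at hc
    rw [htgt] at hc
    refine ⟨S.elt (CfsgLib.SporadicB.J3Inv.cw (CfsgLib.SporadicB.J3Inv.cvia j)) * x,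
      S.cent.mul_mem (S.elt_mem_cent hv) hx, ?_⟩
    rw [S.key_elt_mul, hk, hc.1.1.1.2, hc.1.1.2, hc.1.2]

theorem five_spec {j : Nat} (hj : j < 1920) :
    (run (ew j) 0 = e0 j ∧ run (ew j) 4 = e1 j ∧ run (ew j) 1 = e2 j) ∧ fiveRep j < 2 ∧ fiveConj j < 1920 ∧
    (bif sameW (tri (ew j) 0 0) [0, 0, 0, 0, 0] [] && !(sameW (tri (ew j) 0 0) [0] []) then
      sameW (tri (ew j) (ew (fiveConj j)) (ew (rep (fiveRep j)))) [1, 0] [2, 1]
    else true) = true := by
  have h := allBelow_spec five_ok j hj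
  simp only [fiveStep, Bool.and_eq_true, Nat.beq_eq, Nat.blt_eq] at h
  obtain ⟨⟨⟨⟨⟨a, b⟩, c⟩, d⟩, e⟩, f⟩ := h
  exact ⟨⟨a, b, c⟩, d, e, f⟩

theorem key_ew {j : Nat} (hj : j < 1920) : S.key (S.elt (ew j)) = (e0 j, e1 j, e2 j) := by
  obtain ⟨⟨a, b, c⟩, -⟩ := five_spec hj
  rw [S.key_elt, a, b, c]

theorem ew_mem {j : Nat} (hj : j < 1920) : S.elt (ew j) ∈ S.cent := by
  obtain ⟨x, hx, hk⟩ := exists_elem S j hj
  rwa [← S.key_injective (hk.trans (key_ew S hj).symm)]

theorem card_cent : Nat.card S.cent = 1920 := by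
  obtain ⟨Q, hQ, -, hc, -, -, ⟨e⟩⟩ := S.cent_structure
  rw [Subgroup.card_eq_card_quotient_mul_card_subgroup Q, Nat.card_congr e.toEquiv,
    CfsgLib.SporadicB.J3Inv.card_alt_five, hc]

theorem cent_exhaust {x : G} (hx : x ∈ S.cent) : ∃ j < 1920, x = S.elt (ew j) := by
  have := S.finite
  have hbij : Function.Bijective fun j : Fin 1920 => (⟨S.elt (ew j), ew_mem S j.2⟩ : S.cent) := by
    refine (Nat.bijective_iff_injective_and_card _).mpr ⟨fun a b e => ?_, by rw [Nat.card_fin, card_cent]⟩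
    have h := congrArg (fun y : S.cent => S.key (y : G)) e
    simp only [key_ew S a.2, key_ew S b.2, Prod.mk.injEq] at h
    exact CfsgLib.SporadicB.J3Inv.Setup.e_key_inj a b h.1 h.2.1 h.2.2
  obtain ⟨j, hj⟩ := hbij.2 ⟨x, hx⟩
  exact ⟨j, j.2, (congrArg Subtype.val hj).symm⟩

theorem mem_cent_iff {x : G} : x ∈ S.cent ↔ x * S.t = S.t * x := Subgroup.mem_centralizer_singleton_iff

/-! ### Facts about the generators of a case -/

theorem base_spec {s : Nat} (hs : s < 2) : rep s < 1920 ∧ tgt s < 1920 ∧ yidA s < 1920 ∧ yidB s < 1920 ∧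
    prodL S (tri (ew (rep s)) (ew (tgt s)) 0) tword = S.t ∧
    prodL S (tri (ew (rep s)) (ew (tgt s)) 0) uword * S.elt (hwc s) = S.elt (hwc s) * S.t ∧
    S.t * S.elt (gw s 0) = S.elt (gw s 0) * S.t ∧ S.t * S.elt (gw s 1) = S.elt (gw s 1) * S.t ∧
    S.t * S.elt (gw s 2) = S.elt (genW s (yidB s) 2) * S.t := by
  have h : baseStep s = true := by
    have := base_ok
    simp only [Bool.and_eq_true] at this
    interval_cases s
    exacts [this.1, this.2]
  simp only [baseStep, Bool.and_eq_true, Nat.blt_eq] at h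
  obtain ⟨⟨⟨⟨⟨⟨⟨⟨⟨h1, h2⟩, h3⟩, h4⟩, -⟩, ht⟩, hu⟩, hc0⟩, hc1⟩, hy⟩ := h
  rw [sameW_iff S] at ht hu hc0 hc1 hy
  refine ⟨h1, h2, h3, h4, ?_, ?_, ?_, ?_, ?_⟩
  · rw [prodL_congr S (f' := tri (ew (rep s)) (ew (tgt s)) 0)
      (fun i hi => by
        have hlt : i < 2 := (show ∀ a ∈ tword, a < 2 by decide) i hi
        interval_cases i <;> rfl)] at ht
    rw [ht, prodL, List.map_singleton, List.prod_singleton]
    rfl
  · simp only [prodL, List.map_append, List.prod_append, List.map_cons, List.map_nil, List.prod_cons,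
      List.prod_nil, mul_one] at hu
    rw [show prodL S (tri (ew (rep s)) (ew (tgt s)) 0) uword =
      prodL S (fun i => bif Nat.blt i 2 then gw s i else bif Nat.beq i 2 then tw else hwc s) uword from
      prodL_congr S fun i hi => by
        have hlt : i < 2 := (show ∀ a ∈ uword, a < 2 by decide) i hi
        interval_cases i <;> rfl]
    exact hu
  · simp [prodL] at hc0; exact hc0
  · simp [prodL] at hc1; exact hc1
  · simp [prodL] at hy; exact hy

theorem src_spec : relsOK (tri (ew (rep 0)) (ew (tgt 0)) 0) centRel = true ∧ relsOK (gw 0) genRel = true ∧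
    sameW (tri (ew (rep 0)) 0 0) [0, 0, 0, 0, 0] [] = true ∧ sameW (tri (ew (rep 0)) 0 0) [0] [] = false ∧
    Commute (prodL S (tri (ew (rep 0)) (ew (tgt 0)) 0) uword) (S.elt (gw 0 2)) := by
  have h := src_ok
  simp only [Bool.and_eq_true, Bool.not_eq_true'] at h
  obtain ⟨⟨⟨⟨a, b⟩, c⟩, d⟩, e⟩ := h
  refine ⟨a, b, c, d, ?_⟩
  rw [sameW_iff S] at e
  simp only [prodL, List.map_append, List.prod_append, List.map_cons, List.map_nil, List.prod_cons,
    List.prod_nil, mul_one] at e
  rw [show prodL S (tri (ew (rep 0)) (ew (tgt 0)) 0) uword =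
    prodL S (fun i => bif Nat.blt i 3 then gw 0 i else 0) uword from
    prodL_congr S fun i hi => by
      have hlt : i < 2 := (show ∀ a ∈ uword, a < 2 by decide) i hi
      interval_cases i <;> rfl]
  exact e

theorem gw_zero (s : Nat) : gw s 0 = ew (rep s) := rfl
theorem gw_one (s : Nat) : gw s 1 = ew (tgt s) := rfl
theorem gw_two (s : Nat) : gw s 2 = yw (1920 * s + yidA s) := rfl

/-! ### The three elements generate -/

theorem card_dvd_of_orders [IsSimpleGroup G] {H : Subgroup G} (hc : S.cent ≤ H) {a b c : G}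
    (ha : orderOf a = 17) (hb : orderOf b = 19) (hc9 : orderOf c = 9)
    (haH : a ∈ H) (hbH : b ∈ H) (hcH : c ∈ H) (htrans : 6156 ∣ Nat.card H) : H = ⊤ := by
  have := S.finite
  have h0 : 1920 ∣ Nat.card H := card_cent S ▸ Subgroup.card_dvd_of_le hc
  have h17 : 17 ∣ Nat.card H := ha ▸ H.orderOf_dvd_natCard haH
  have h19 : 19 ∣ Nat.card H := hb ▸ H.orderOf_dvd_natCard hbH
  have h9 : 9 ∣ Nat.card H := hc9 ▸ H.orderOf_dvd_natCard hcH
  have hlcm : 16744320 ∣ Nat.card H := by
    have := Nat.lcm_dvd (Nat.lcm_dvd h0 h17) (Nat.lcm_dvd h9 htrans)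
    norm_num [Nat.lcm] at this
    exact this
  have hmul := H.card_mul_index
  rw [S.card_eq] at hmul
  obtain ⟨k, hk⟩ := hlcm
  have hidx : H.index ∣ 3 := ⟨k, by rw [hk] at hmul; nlinarith⟩
  by_contra hne
  rcases (inferInstance : H.normalCore.Normal).eq_bot_or_eq_top with hcore | hcore
  · have hinj : Function.Injective (MulAction.toPermHom G (G ⧸ H)) := by
      rw [← MonoidHom.ker_eq_bot_iff, ← Subgroup.normalCore_eq_ker, hcore]
    have h1 := Subgroup.card_dvd_of_injective _ hinj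
    rw [S.card_eq, Nat.card_perm] at h1
    change 50232960 ∣ H.index.factorial at h1
    rcases (Nat.dvd_prime Nat.prime_three).1 hidx with e | e <;> rw [e] at h1 <;>
      norm_num [Nat.factorial] at h1
  · exact hne (eq_top_iff.mpr (hcore ▸ H.normalCore_le))

theorem generated [IsSimpleGroup G] {H : Subgroup G} (h0 : S.elt (gw 0 0) ∈ H) (h1 : S.elt (gw 0 1) ∈ H)
    (h2 : S.elt (gw 0 2) ∈ H) : H = ⊤ := by
  have := S.finite
  have htree := fun i hi => allBelow_spec tree_ok i hi
  simp only [treeStep, Bool.and_eq_true, Nat.blt_eq, Nat.beq_eq] at htree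
  have hall : ∀ i, i < 1920 → S.elt (ew (belt i)) ∈ H := by
    intro i
    induction i using Nat.strongRecOn with
    | _ i ih =>
      intro hi
      obtain ⟨-, hb⟩ := htree i hi
      by_cases hi0 : i = 0
      · subst hi0
        simp only [Nat.beq_refl, cond_true, Nat.beq_eq] at hb
        have he : S.elt (ew (belt 0)) = 1 := by
          apply S.key_injective
          rw [hb, key_ew S (by norm_num)]
          obtain ⟨x, -, hx⟩ := exists_elem S 0 (by norm_num)
          have hh := allBelow_spec elem_ok 0 (by norm_num)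
          simp only [elemStep, Bool.and_eq_true, Nat.beq_refl, cond_true, Nat.beq_eq] at hh
          obtain ⟨⟨⟨⟨⟨-, hb0⟩, -⟩, -⟩, -⟩, -⟩ := hh
          rw [S.key_one, hb0.1.1.1.1, hb0.1.1.1.2, hb0.1.1.2]
        rw [he]
        exact one_mem _
      rw [show Nat.beq i 0 = false from Bool.eq_false_iff.mpr fun e => hi0 (Nat.eq_of_beq_eq_true e),
        cond_false] at hb
      simp only [Bool.and_eq_true, Nat.blt_eq] at hb
      obtain ⟨⟨hv, hsrc⟩, he⟩ := hb
      rw [sameW_iff S] at he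
      simp only [prodL, List.map_cons, List.map_nil, List.prod_cons, List.prod_nil, mul_one] at he
      have he' : S.elt (ew (bif Nat.beq (bvia i) 0 then rep 0 else tgt 0)) * S.elt (ew (belt (bsrc i))) =
          S.elt (ew (belt i)) := he
      rw [← he']
      refine mul_mem ?_ (ih _ hsrc (hsrc.trans hi))
      obtain ⟨v, hv'⟩ : ∃ v, bvia i = v := ⟨_, rfl⟩
      rw [hv'] at hv ⊢
      interval_cases v
      exacts [h0, h1]
  have hcent : S.cent ≤ H := by
    intro x hx
    obtain ⟨j, hj, rfl⟩ := cent_exhaust S hx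
    obtain ⟨⟨⟨-, hp⟩, he⟩, -⟩ := htree j hj
    rw [← he]
    exact hall _ hp
  have hmem : ∀ l : List Nat, (∀ i ∈ l, i < 3) → prodL S (gw 0) l ∈ H := fun l hl => by
    refine Subgroup.list_prod_mem _ fun x hx => ?_
    obtain ⟨i, hi, rfl⟩ := List.mem_map.mp hx
    have := hl i hi
    interval_cases i
    exacts [h0, h1, h2]
  have h := order_ok
  simp only [Bool.and_eq_true, Bool.not_eq_true'] at h
  obtain ⟨⟨⟨⟨⟨a1, a2⟩, b1⟩, b2⟩, c1⟩, c2⟩ := h
  rw [← Bool.not_eq_true, sameW_iff S] at a2 b2 c2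
  rw [sameW_iff S] at a1 b1 c1
  have hflat : ∀ n (w : List Nat), prodL S (gw 0) (List.replicate n w).flatten = prodL S (gw 0) w ^ n :=
    fun n w => by simp [prodL, List.map_flatten, List.prod_flatten]
  rw [hflat] at a1 b1 c1 c2
  have hnil : prodL S (gw 0) [] = 1 := rfl
  rw [hnil] at a1 a2 b1 b2 c1 c2
  have p17 : Fact (Nat.Prime 17) := ⟨by norm_num⟩
  have p19 : Fact (Nat.Prime 19) := ⟨by norm_num⟩
  have p3 : Fact (Nat.Prime 3) := ⟨by norm_num⟩
  have horb : 6156 ∣ Nat.card H := by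
    let act : MulAction H (Fin 6156) := MulAction.compHom _ (S.ψ.comp H.subtype)
    have ho := fun i hi => allBelow_spec orb_ok i hi
    simp only [orbStep, Bool.and_eq_true, Nat.blt_eq, Nat.beq_eq] at ho
    have hpt : ∀ i, i < 6156 → ∃ x ∈ H, ((S.ψ x 0 : Fin 6156) : Nat) = opt i := by
      intro i
      induction i using Nat.strongRecOn with
      | _ i ih =>
        intro hi
        obtain ⟨-, hb⟩ := ho i hi
        by_cases hi0 : i = 0
        · subst hi0
          simp only [Nat.beq_refl, cond_true, Nat.beq_eq] at hb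
          exact ⟨1, one_mem _, by rw [hb, map_one]; rfl⟩
        rw [show Nat.beq i 0 = false from Bool.eq_false_iff.mpr fun e => hi0 (Nat.eq_of_beq_eq_true e),
          cond_false] at hb
        simp only [Bool.and_eq_true, Nat.blt_eq, Nat.beq_eq] at hb
        obtain ⟨⟨hv, hsrc⟩, he⟩ := hb
        obtain ⟨x, hx, hxe⟩ := ih _ hsrc (hsrc.trans hi)
        refine ⟨S.elt (gw 0 (ovia i)) * x, mul_mem ?_ hx, ?_⟩
        · obtain ⟨v, hv'⟩ : ∃ v, ovia i = v := ⟨_, rfl⟩
          rw [hv'] at hv ⊢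
          interval_cases v
          exacts [h0, h1, h2]
        · rw [map_mul, Equiv.Perm.mul_apply, S.elt_run, hxe, he]
    have huniv : MulAction.orbit H (0 : Fin 6156) = Set.univ := Set.eq_univ_of_forall fun p => by
      obtain ⟨⟨⟨hp, he⟩, -⟩, -⟩ := ho p p.2
      obtain ⟨x, hx, hxe⟩ := hpt _ hp
      exact ⟨⟨x, hx⟩, Fin.ext (hxe.trans he)⟩
    have hidx := MulAction.index_stabilizer H (0 : Fin 6156)
    rw [huniv, Set.ncard_univ, Nat.card_fin] at hidx
    exact hidx ▸ Subgroup.index_dvd_card _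
  refine card_dvd_of_orders S hcent (orderOf_eq_prime a1 a2) (orderOf_eq_prime b1 b2)
    (orderOf_eq_prime_pow (p := 3) (n := 1) (by simpa using c2) (by simpa using c1))
    (hmem _ (by decide)) (hmem _ (by decide)) (hmem _ (by decide)) horb

theorem aut_ext [IsSimpleGroup G] {φ ψ : MulAut G}
    (h : ∀ i < 3, φ (S.elt (gw 0 i)) = ψ (S.elt (gw 0 i))) : φ = ψ := by
  have h' := generated S (H := φ.toMonoidHom.eqLocus ψ.toMonoidHom)
    (h 0 (by norm_num)) (h 1 (by norm_num)) (h 2 (by norm_num))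
  refine MulEquiv.ext fun g => ?_
  have hg : g ∈ φ.toMonoidHom.eqLocus ψ.toMonoidHom := h' ▸ Subgroup.mem_top g
  exact hg

theorem closure_g [IsSimpleGroup G] : Subgroup.closure (Set.range S.g) = ⊤ := by
  have hF : ∀ n c, S.eltF n c ∈ Subgroup.closure (Set.range S.g) := by
    intro n
    induction n with
    | zero => intro c; exact one_mem _
    | succ n ih =>
      intro c
      show (bif Nat.blt c 2 then 1 else _) ∈ _
      cases Nat.blt c 2
      · exact mul_mem (ih _) (Subgroup.subset_closure ⟨_, rfl⟩)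
      · exact one_mem _
  exact generated S (hF 40 _) (hF 40 _) (hF 40 _)

/-! ### Normal form of an automorphism -/

theorem exists_normal_form (φ : MulAut G) : ∃ g : G, ∃ s < 2, ∀ i < 3,
    (MulAut.conj g * φ) (S.elt (gw 0 i)) = S.elt (gw s i) := by
  obtain ⟨hr0, hg0, -, -, ht0, hu0, -, -, -⟩ := base_spec S (s := 0) (by norm_num)
  obtain ⟨hrel1, hrel2, hb5, hb1, huy⟩ := src_spec S
  -- fix the involution
  obtain ⟨c, hc⟩ := isConj_iff.mp (S.isConj_t (φ S.t)
    ((orderOf_injective φ.toMonoidHom φ.injective S.t).trans S.orderOf_t))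
  set φ1 : MulAut G := MulAut.conj c⁻¹ * φ with hφ1
  have hφ1t : φ1 S.t = S.t := by rw [hφ1, MulAut.mul_apply, MulAut.conj_apply, ← hc]; group
  have hmap : ∀ (ψ : MulAut G), ψ S.t = S.t → ∀ x ∈ S.cent, ψ x ∈ S.cent := fun ψ hψ x hx => by
    have := congrArg ψ ((mem_cent_iff S).mp hx)
    rw [map_mul, map_mul, hψ] at this
    exact (mem_cent_iff S).mpr this
  have hfix : ∀ (ψ : MulAut G) h, ψ S.t = S.t → h ∈ S.cent → (MulAut.conj h * ψ) S.t = S.t :=
    fun ψ h hψ hh => by
      rw [MulAut.mul_apply, hψ, MulAut.conj_apply, (mem_cent_iff S).mp hh, mul_inv_cancel_right]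
  -- the first generator
  obtain ⟨j, hj, hjb⟩ := cent_exhaust S (hmap φ1 hφ1t _ (ew_mem S hr0))
  obtain ⟨-, hs, hhj, hfive⟩ := five_spec hj
  have hm0 : ∀ i, φ1 (S.elt (tri (ew (rep 0)) 0 0 i)) = S.elt (tri (ew j) 0 0 i) :=
    map_tri S hjb (map_one φ1) (map_one φ1)
  rw [← sameW_map S φ1 hm0, ← sameW_map S φ1 hm0, hb5, hb1] at hfive
  simp only [Bool.not_false, Bool.and_true, cond_true] at hfive
  rw [sameW_iff S] at hfive
  set s := fiveRep j
  set h1 := S.elt (ew (fiveConj j)) with hh1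
  have hconj1 : h1 * S.elt (ew j) = S.elt (ew (rep s)) * h1 := by
    simpa [prodL, tri_zero, tri_one, tri_two] using hfive
  set φ2 : MulAut G := MulAut.conj h1 * φ1 with hφ2
  have hφ2t : φ2 S.t = S.t := hfix _ _ hφ1t (ew_mem S hhj)
  have hφ2b : φ2 (S.elt (ew (rep 0))) = S.elt (ew (rep s)) := by
    rw [hφ2, MulAut.mul_apply, hjb, MulAut.conj_apply, hconj1, mul_inv_cancel_right]
  -- the second generator
  obtain ⟨k, hk, hkb⟩ := cent_exhaust S (hmap φ2 hφ2t _ (ew_mem S hg0))
  have hm1 : ∀ i, φ2 (S.elt (tri (ew (rep 0)) (ew (tgt 0)) 0 i)) = S.elt (tri (ew (rep s)) (ew k) 0 i) :=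
    map_tri S hφ2b hkb (map_one φ2)
  have hb : bStep s k = true := by
    rcases (show s = 0 ∨ s = 1 by omega) with e | e <;> rw [e]
    exacts [allBelow_spec b_ok_0 k hk, allBelow_spec b_ok_1 k hk]
  simp only [bStep, ← relsOK_map S φ2 hm1, hrel1, cond_true, Bool.and_eq_true, Nat.blt_eq] at hb
  obtain ⟨⟨hh2, hcr⟩, hct⟩ := hb
  rw [sameW_iff S] at hcr hct
  set h2 := S.elt (ew (bConj (1920 * s + k)))
  have hcomm2 : h2 * S.elt (ew (rep s)) = S.elt (ew (rep s)) * h2 := by
    simpa [prodL, tri_zero, tri_one, tri_two] using hcr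
  have hconj2 : h2 * S.elt (ew k) = S.elt (ew (tgt s)) * h2 := by
    have : h2 * S.elt (ew k) = S.elt (tri (ew (tgt s)) (ew k) (ew (bConj (1920 * s + k))) 0) * h2 := by
      simpa [prodL, tri_zero, tri_one, tri_two] using hct
    exact this
  set φ3 : MulAut G := MulAut.conj h2 * φ2 with hφ3
  have hφ3t : φ3 S.t = S.t := hfix _ _ hφ2t (ew_mem S hh2)
  have hφ3a : φ3 (S.elt (ew (rep 0))) = S.elt (ew (rep s)) := by
    rw [hφ3, MulAut.mul_apply, hφ2b, MulAut.conj_apply, hcomm2, mul_inv_cancel_right]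
  have hφ3b : φ3 (S.elt (ew (tgt 0))) = S.elt (ew (tgt s)) := by
    rw [hφ3, MulAut.mul_apply, hkb, MulAut.conj_apply, hconj2, mul_inv_cancel_right]
  -- the third generator
  obtain ⟨-, -, hyA, -, -, hus, hc0, hc1, hyB⟩ := base_spec S hs
  have hm2 : ∀ i, φ3 (S.elt (tri (ew (rep 0)) (ew (tgt 0)) 0 i)) =
      S.elt (tri (ew (rep s)) (ew (tgt s)) 0 i) := map_tri S hφ3a hφ3b (map_one φ3)
  set Us := prodL S (tri (ew (rep s)) (ew (tgt s)) 0) uword
  set hs' := S.elt (hwc s) with hhs
  set y' := φ3 (S.elt (gw 0 2)) with hy'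
  have hUy : Us * y' = y' * Us := by
    have := congrArg φ3 huy.eq
    rw [map_mul, map_mul, show φ3 (prodL S (tri (ew (rep 0)) (ew (tgt 0)) 0) uword) = Us from
      map_prodL S φ3.toMonoidHom hm2 _] at this
    exact this
  have hycent : hs'⁻¹ * y' * hs' ∈ S.cent := by
    rw [mem_cent_iff]
    have e : S.t = hs'⁻¹ * Us * hs' := by rw [mul_assoc, hus, inv_mul_cancel_left]
    rw [e]
    calc hs'⁻¹ * y' * hs' * (hs'⁻¹ * Us * hs') = hs'⁻¹ * (y' * Us) * hs' := by group
      _ = hs'⁻¹ * Us * hs' * (hs'⁻¹ * y' * hs') := by rw [← hUy]; group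
  obtain ⟨m, hm, hme⟩ := cent_exhaust S hycent
  have hy : yStep s m = true := by
    rcases (show s = 0 ∨ s = 1 by omega) with e | e <;> rw [e]
    exacts [allBelow_spec y_ok_0 m hm, allBelow_spec y_ok_1 m hm]
  simp only [yStep, Bool.and_eq_true] at hy
  obtain ⟨hym, hcand⟩ := hy
  rw [sameW_iff S] at hym
  have hy2 : y' = S.elt (yw (Nat.add (Nat.mul 1920 s) m)) := by
    have e : hs' * S.elt (ew m) = S.elt (yw (Nat.add (Nat.mul 1920 s) m)) * hs' := by
      simpa [prodL, tri_zero, tri_one, tri_two] using hym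
    rw [← hme, mul_assoc, mul_inv_cancel_left] at e
    exact mul_right_cancel e
  have hm3 : ∀ i, φ3 (S.elt (gw 0 i)) = S.elt (genW s m i) := map_tri S hφ3a hφ3b hy2
  rw [← relsOK_map S φ3 hm3, hrel2, cond_true] at hcand
  rcases (Bool.or_eq_true _ _).mp hcand with e | e <;> replace e := Nat.eq_of_beq_eq_true e <;> subst e
  · exact ⟨h2 * h1 * c⁻¹, s, hs, fun i _ => by
      rw [show MulAut.conj (h2 * h1 * c⁻¹) * φ = φ3 by
        rw [hφ3, hφ2, hφ1, map_mul, map_mul]; simp only [mul_assoc]]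
      exact hm3 i⟩
  · refine ⟨S.t * (h2 * h1 * c⁻¹), s, hs, fun i hi => ?_⟩
    rw [map_mul, mul_assoc, show MulAut.conj (h2 * h1 * c⁻¹) * φ = φ3 by
        rw [hφ3, hφ2, hφ1, map_mul, map_mul]; simp only [mul_assoc],
      MulAut.mul_apply, hm3, MulAut.conj_apply,
      inv_eq_of_mul_eq_one_right S.t_sq_one]
    interval_cases i
    · show S.t * S.elt (gw s 0) * S.t = S.elt (gw s 0)
      rw [hc0, mul_assoc, S.t_sq_one, mul_one]
    · show S.t * S.elt (gw s 1) * S.t = S.elt (gw s 1)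
      rw [hc1, mul_assoc, S.t_sq_one, mul_one]
    · have : S.t * S.elt (gw s 2) * S.t = S.elt (genW s (yidB s) 2) := by
        rw [hyB, mul_assoc, S.t_sq_one, mul_one]
      rw [← this, ← mul_assoc, ← mul_assoc, S.t_sq_one, one_mul, mul_assoc, S.t_sq_one, mul_one]

/-! ### The outer automorphism -/

/-- The permutation of the points inducing the outer automorphism. -/
noncomputable def sigmaPerm : Equiv.Perm (Fin 6156) where
  toFun p := ⟨sigma p, by
    have h := allBelow_spec sigma_ok p p.2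
    simp only [sigmaStep, Bool.and_eq_true, Nat.blt_eq] at h
    exact h.1.1.1.1.1⟩
  invFun p := ⟨sigmaInv p, by
    have h := allBelow_spec sigma_ok p p.2
    simp only [sigmaStep, Bool.and_eq_true, Nat.blt_eq] at h
    exact h.1.1.1.1.2⟩
  left_inv p := Fin.ext (by
    have h := allBelow_spec sigma_ok p p.2
    simp only [sigmaStep, Bool.and_eq_true, Nat.beq_eq] at h
    exact h.1.1.1.2)
  right_inv p := Fin.ext (by
    have h := allBelow_spec sigma_ok p p.2
    simp only [sigmaStep, Bool.and_eq_true, Nat.beq_eq] at h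
    exact h.1.1.2)

theorem exists_outer [IsSimpleGroup G] :
    ∃ α : MulAut G, ∀ i < 3, α (S.elt (gw 0 i)) = S.elt (gw 1 i) := by
  have := S.finite
  let c : G →* Equiv.Perm (Fin 6156) := (MulAut.conj sigmaPerm).toMonoidHom.comp S.ψ
  have hrange : ∀ x, c x ∈ S.ψ.range := by
    intro x
    have hx : x ∈ Subgroup.closure (Set.range S.g) := closure_g S ▸ Subgroup.mem_top x
    induction hx using Subgroup.closure_induction with
    | mem y hy =>
      obtain ⟨a, rfl⟩ := hy
      refine ⟨S.elt (sgw a), Equiv.ext fun p => Fin.ext ?_⟩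
      have hp := allBelow_spec sigma_ok (sigmaPerm.symm p : Fin 6156) (Fin.is_lt _)
      simp only [sigmaStep, Bool.and_eq_true, Nat.beq_eq] at hp
      have hpp : sigma (sigmaPerm.symm p : Fin 6156) = (p : Nat) :=
        congrArg Fin.val (sigmaPerm.apply_symm_apply p)
      rw [S.elt_run]
      show run (sgw a) p = sigma (S.ψ (S.g a) (sigmaPerm.symm p) : Fin 6156)
      rw [S.g_tab]
      fin_cases a
      · exact (hpp ▸ hp.1.2).symm
      · exact (hpp ▸ hp.2).symm
    | one => exact ⟨1, by simp⟩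
    | mul a b _ _ ha hb => rw [map_mul]; exact mul_mem ha hb
    | inv a _ ha => rw [map_inv]; exact inv_mem ha
  let e : G ≃* S.ψ.range := MonoidHom.ofInjective S.inj
  let α₀ : G →* G := e.symm.toMonoidHom.comp (c.codRestrict _ hrange)
  have hinj : Function.Injective α₀ := by
    intro a b h
    apply S.inj
    have h' : c a = c b := congrArg Subtype.val (e.symm.injective h)
    exact (MulAut.conj sigmaPerm).injective h'
  refine ⟨MulEquiv.ofBijective α₀ ⟨hinj, Finite.surjective_of_injective hinj⟩, fun i hi => ?_⟩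
  have hα : ∀ x, S.ψ (α₀ x) = c x := fun x =>
    congrArg Subtype.val (e.apply_symm_apply ⟨c x, hrange x⟩)
  apply S.key_injective
  show S.key (α₀ (S.elt (gw 0 i))) = S.key (S.elt (gw 1 i))
  have hk : ∀ p : Fin 6156, ((S.ψ (α₀ (S.elt (gw 0 i))) p : Fin 6156) : Nat) =
      sigma (run (gw 0 i) (sigmaInv p)) := fun p => by
    rw [hα]
    show sigma (S.ψ (S.elt (gw 0 i)) (sigmaPerm.symm p) : Fin 6156) = _
    rw [S.elt_run]
    rfl
  rw [S.key_elt]
  have h := sigma_gen
  simp only [List.all_cons, List.all_nil, Bool.and_true, Bool.and_eq_true, Nat.beq_eq] at h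
  simp only [Setup.key, hk, Fin.val_zero, Fin.val_mk, Fin.val_one]
  interval_cases i
  · rw [h.1.1, h.1.2.1, h.1.2.2]
  · rw [h.2.1.1, h.2.1.2.1, h.2.1.2.2]
  · rw [h.2.2.1, h.2.2.2.1, h.2.2.2.2]

theorem sameW_move (a b c : Nat) :
    sameW (tri a b c) [0, 1] [2, 0] = true ↔ S.elt a * S.elt b = S.elt c * S.elt a := by
  rw [sameW_iff S]
  simp [prodL, tri_zero, tri_one, tri_two]

theorem map_word {φ : G →* G} {a b a' b' : Nat} (ha : φ (S.elt a) = S.elt a') (hb : φ (S.elt b) = S.elt b')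
    (l : List Nat) : φ (prodL S (tri a b 0) l) = prodL S (tri a' b' 0) l :=
  map_prodL S φ (map_tri S ha hb (c := 0) (c' := 0) (map_one φ)) l

theorem not_inner {α : MulAut G} (hα : ∀ i < 3, α (S.elt (gw 0 i)) = S.elt (gw 1 i)) :
    α ∉ Cfsg.Inn G := by
  rintro ⟨g, rfl⟩
  obtain ⟨hr0, -, -, -, ht0, -, -, -, -⟩ := base_spec S (s := 0) (by norm_num)
  obtain ⟨-, -, -, -, ht1, -, -, -, -⟩ := base_spec S (s := 1) (by norm_num)
  have e0 : (MulAut.conj g).toMonoidHom (S.elt (ew (rep 0))) = S.elt (ew (rep 1)) := by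
    rw [← gw_zero, ← gw_zero]
    exact hα 0 (by norm_num)
  have e1 : (MulAut.conj g).toMonoidHom (S.elt (ew (tgt 0))) = S.elt (ew (tgt 1)) := by
    rw [← gw_one, ← gw_one]
    exact hα 1 (by norm_num)
  have hgt : MulAut.conj g S.t = S.t := by
    conv_lhs => rw [← ht0]
    exact (map_word S e0 e1 tword).trans ht1
  have hgc : g ∈ S.cent := by
    rw [mem_cent_iff]
    rw [MulAut.conj_apply] at hgt
    exact mul_inv_eq_iff_eq_mul.mp hgt
  obtain ⟨j, hj, rfl⟩ := cent_exhaust S hgc
  have h := allBelow_spec not_conj_ok j hj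
  rw [notConjStep] at h
  have hne : ¬ sameW (tri (ew j) (ew (rep 0)) (ew (rep 1))) [0, 1] [2, 0] = true := by
    rw [Bool.not_eq_true]
    exact Bool.not_eq_true' _ ▸ h
  apply hne
  rw [sameW_move S]
  have := e0
  rw [MulEquiv.coe_toMonoidHom, MulAut.conj_apply, mul_inv_eq_iff_eq_mul] at this
  exact this

/-- The outer automorphism group of a group with such an action has order two. -/
theorem natCard_out [IsSimpleGroup G] (S : Setup G) : Nat.card (Cfsg.Out G) = 2 := by
  obtain ⟨α, hα⟩ := exists_outer S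
  rw [Nat.card_eq_two_iff]
  refine ⟨QuotientGroup.mk 1, QuotientGroup.mk α, fun h => not_inner S hα ?_,
    Set.eq_univ_of_forall fun z => ?_⟩
  · rw [QuotientGroup.eq, inv_one, one_mul] at h; exact h
  induction z using QuotientGroup.induction_on with
  | H φ =>
    simp only [Set.mem_insert_iff, Set.mem_singleton_iff]
    obtain ⟨g, s, hs, h⟩ := exists_normal_form S φ
    have hinn : (QuotientGroup.mk (MulAut.conj g * φ) : Cfsg.Out G) = QuotientGroup.mk φ := by
      rw [QuotientGroup.eq, mul_inv_rev]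
      exact (Cfsg.innNormal G).conj_mem' _ (inv_mem ⟨g, rfl⟩) φ
    rw [← hinn]
    interval_cases s
    · exact Or.inl (congrArg _ (aut_ext S fun i hi => h i hi))
    · exact Or.inr (congrArg _ (aut_ext S fun i hi => (h i hi).trans (hα i hi).symm))

/-- The outer automorphism group of J3 has order two. -/
theorem natCard_out_J3 {F : Type*} [Field F] [Fintype F] [CharP F 2] {ω : F} (hω : ω ^ 2 + ω + 1 = 0) :
    Nat.card (Cfsg.Out (Cfsg.Spor.J3 F ω)) = 2 := by
  obtain ⟨S⟩ := CfsgLib.SporadicB.J3Inv.exists_setup (F := F) hω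
  obtain ⟨hsimp, -⟩ := CfsgLib.SporadicB.J3.isJ3_quotient (F := F) hω
  exact natCard_out S

end CfsgLib.FusionExamples.J3Out
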