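import Cfsg.Agent.Lib.SporadicB.J3Inv.Check2
import Cfsg.Agent.Lib.FusionExamples.J3OutData

/-! Checks: automorphisms of J3. -/

set_option autoImplicit false
set_option linter.all false
set_option Elab.async false

namespace CfsgLib.FusionExamples.J3Out

open CfsgLib.SporRecognition.CosetCert (allBelow allBelow_of_upto Upto allPow allPow_append)
open CfsgLib.SporadicB.J3Inv (run step tw e0 e1 e2)

/-- Apply a word in the elements `f`, the last letter first. -/
noncomputable def evL (f : Nat → Nat) (l : List Nat) : Nat → Nat :=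
  List.rec (fun x => x) (fun i _ ih x => run (f i) (ih x)) l

/-- Both words agree on the three base points. -/
noncomputable def sameW (f : Nat → Nat) (a b : List Nat) : Bool :=
  Nat.beq (evL f a 0) (evL f b 0) && Nat.beq (evL f a 4) (evL f b 4) && Nat.beq (evL f a 1) (evL f b 1)

/-- The listed equalities and inequalities hold. -/
noncomputable def relsOK (f : Nat → Nat) (R : List (List Nat × List Nat × Bool)) : Bool :=
  List.rec true (fun r _ ih => (bif r.2.2 then sameW f r.1 r.2.1 else !(sameW f r.1 r.2.1)) && ih) R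

/-- The packed words of three elements. -/
noncomputable def tri (a b c : Nat) (i : Nat) : Nat := bif Nat.beq i 0 then a else bif Nat.beq i 1 then b else c

noncomputable def genW (s k : Nat) : Nat → Nat :=
  tri (ew (rep s)) (ew (tgt s)) (yw (Nat.add (Nat.mul 1920 s) k))

noncomputable def fiveStep (j : Nat) : Bool :=
  Nat.beq (run (ew j) 0) (e0 j) && Nat.beq (run (ew j) 4) (e1 j) && Nat.beq (run (ew j) 1) (e2 j) &&
  Nat.blt (fiveRep j) 2 && Nat.blt (fiveConj j) 1920 &&
  (bif sameW (tri (ew j) 0 0) [0, 0, 0, 0, 0] [] && !(sameW (tri (ew j) 0 0) [0] []) then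
    sameW (tri (ew j) (ew (fiveConj j)) (ew (rep (fiveRep j)))) [1, 0] [2, 1]
  else true)

noncomputable def bStep (s c : Nat) : Bool :=
  bif relsOK (tri (ew (rep s)) (ew c) 0) centRel then
    Nat.blt (bConj (Nat.add (Nat.mul 1920 s) c)) 1920 &&
    sameW (tri (ew (rep s)) (ew c) (ew (bConj (Nat.add (Nat.mul 1920 s) c)))) [2, 0] [0, 2] &&
    sameW (tri (ew (tgt s)) (ew c) (ew (bConj (Nat.add (Nat.mul 1920 s) c)))) [2, 1] [0, 2]
  else true

noncomputable def yStep (s k : Nat) : Bool :=
  sameW (tri (hwc s) (ew k) (yw (Nat.add (Nat.mul 1920 s) k))) [0, 1] [2, 0] &&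
  (bif relsOK (genW s k) genRel then Nat.beq k (yidA s) || Nat.beq k (yidB s) else true)

/-- The three generators of a case. -/
noncomputable def gw (s : Nat) : Nat → Nat := genW s (yidA s)

noncomputable def baseStep (s : Nat) : Bool :=
  Nat.blt (rep s) 1920 && Nat.blt (tgt s) 1920 && Nat.blt (yidA s) 1920 && Nat.blt (yidB s) 1920 &&
  sameW (tri (hwc s) tw 0) [0, 1] [1, 0] == false &&
  sameW (tri (ew (rep s)) (ew (tgt s)) tw) tword [2] &&
  sameW (fun i => bif Nat.blt i 2 then gw s i else bif Nat.beq i 2 then tw else hwc s) (uword ++ [3]) [3, 2] &&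
  sameW (fun i => bif Nat.blt i 3 then gw s i else tw) [3, 0] [0, 3] &&
  sameW (fun i => bif Nat.blt i 3 then gw s i else tw) [3, 1] [1, 3] &&
  sameW (fun i => bif Nat.blt i 3 then genW s (yidB s) i else bif Nat.beq i 3 then tw else gw s 2) [3, 4] [2, 3]

noncomputable def treeStep (i : Nat) : Bool :=
  Nat.blt (belt i) 1920 && Nat.blt (bpos i) 1920 && Nat.beq (belt (bpos i)) i &&
  (bif Nat.beq i 0 then Nat.beq (belt i) 0 else
    Nat.blt (bvia i) 2 && Nat.blt (bsrc i) i &&
      sameW (tri (ew (bif Nat.beq (bvia i) 0 then rep 0 else tgt 0)) (ew (belt (bsrc i))) (ew (belt i))) [0, 1] [2])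

noncomputable def sigmaStep (p : Nat) : Bool :=
  Nat.blt (sigma p) 6156 && Nat.blt (sigmaInv p) 6156 && Nat.beq (sigmaInv (sigma p)) p &&
  Nat.beq (sigma (sigmaInv p)) p &&
  Nat.beq (sigma (step 0 p)) (run (sgw 0) (sigma p)) && Nat.beq (sigma (step 1 p)) (run (sgw 1) (sigma p))

end CfsgLib.FusionExamples.J3Out
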