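import Cfsg.Agent.Lib.MetacyclicP.MaxClassRank
import Mathlib.GroupTheory.SpecificGroups.Cyclic
import Mathlib.Algebra.GroupWithZero.Basic

/-!
Two-step centralizers in `p`-groups of maximal class: they are all equal, except possibly the last one,
and then the exponent of the order is even (Blackburn).
-/

set_option autoImplicit false
set_option linter.style.haveILetI false
set_option linter.unusedSectionVars false

open scoped commutatorElement

namespace CfsgLib.FusionExamples.MaxClass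

variable {G : Type*} [Group G]

/-- The lower central series of `G`, zero-based. -/
abbrev lcs (G : Type*) [Group G] (j : ℕ) : Subgroup G := Subgroup.lowerCentralSeries (⊤ : Subgroup G) j

/-- The two-step centralizer of `lcs j / lcs (j + 2)`. -/
def twoStep (G : Type*) [Group G] (j : ℕ) : Subgroup G :=
  (Subgroup.centralizer (((lcs G j).map (QuotientGroup.mk' (lcs G (j + 2)))) : Set (G ⧸ lcs G (j + 2)))).comap
    (QuotientGroup.mk' (lcs G (j + 2)))

theorem mk_commutator_eq_one_iff {N : Subgroup G} [N.Normal] {x y : G} :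
    Commute (QuotientGroup.mk' N x) (QuotientGroup.mk' N y) ↔ ⁅x, y⁆ ∈ N := by
  rw [← commutatorElement_eq_one_iff_commute, ← map_commutatorElement]
  exact QuotientGroup.eq_one_iff _

theorem mem_twoStep {j : ℕ} {x : G} : x ∈ twoStep G j ↔ ∀ y ∈ lcs G j, ⁅x, y⁆ ∈ lcs G (j + 2) := by
  constructor
  · intro h y hy
    exact mk_commutator_eq_one_iff.mp (h _ ⟨y, hy, rfl⟩).symm
  · rintro h _ ⟨y, hy, rfl⟩
    exact (mk_commutator_eq_one_iff.mpr (h y hy)).eq.symm

theorem mk_eq_one {N : Subgroup G} [N.Normal] {x : G} (hx : x ∈ N) : QuotientGroup.mk' N x = 1 :=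
  (QuotientGroup.eq_one_iff x).mpr hx

theorem commutator_mem {i j k : ℕ} {x y : G} (hx : x ∈ lcs G i) (hy : y ∈ lcs G j)
    (hk : k ≤ i + j + 1) : ⁅x, y⁆ ∈ lcs G k :=
  Subgroup.lowerCentralSeries_antitone _ hk
    (CfsgLib.MetacyclicP.commutator_lcs_lcs_le j i (Subgroup.commutator_mem_commutator hx hy))

theorem mem_zero (x : G) : x ∈ lcs G 0 := Subgroup.mem_top x

theorem lcs_one_le_twoStep (j : ℕ) : lcs G 1 ≤ twoStep G j :=
  fun _ hx => mem_twoStep.mpr fun _ hy => commutator_mem hx hy (by omega)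

/-- A bilinear expansion. -/
theorem commutator_mul_mul {Q : Type*} [Group Q] {x x' y y' : Q}
    (h1 : ∀ g, Commute ⁅x, y'⁆ g) (h2 : ∀ g, Commute ⁅x', y⁆ g) (h3 : ∀ g, Commute ⁅x', y'⁆ g) :
    ⁅x * x', y * y'⁆ = ⁅x, y⁆ * ⁅x, y'⁆ * ⁅x', y⁆ * ⁅x', y'⁆ := by
  have e1 : ⁅x * x', y * y'⁆ = x * ⁅x', y * y'⁆ * x⁻¹ * ⁅x, y * y'⁆ := by
    simp only [commutatorElement_def]; group
  have e2 : ∀ a : Q, ⁅a, y * y'⁆ = ⁅a, y⁆ * (y * ⁅a, y'⁆ * y⁻¹) := fun a => by
    simp only [commutatorElement_def]; group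
  have c : ∀ {z : Q}, (∀ g, Commute z g) → ∀ a, a * z * a⁻¹ = z := fun hz a => by
    rw [← (hz a).eq, mul_inv_cancel_right]
  rw [e1, e2 x', e2 x, c h3 y, c h1 y, c (fun g => (h2 g).mul_left (h3 g)) x]
  rw [((h2 _).mul_left (h3 _)).eq]
  simp only [mul_assoc]

/-- Maximal class of order `p ^ n`. -/
structure Hyp (p n : ℕ) (G : Type*) [Group G] : Prop where
  card_eq : Nat.card G = p ^ n
  ne_bot : lcs G (n - 2) ≠ ⊥
  four_le : 4 ≤ n

variable {p n : ℕ} [hp : Fact p.Prime]

theorem Hyp.finite (h : Hyp p n G) : Finite G :=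
  Nat.finite_of_card_ne_zero (by rw [h.card_eq]; exact pow_ne_zero _ hp.out.ne_zero)

theorem Hyp.isPGroup (h : Hyp p n G) : IsPGroup p G := IsPGroup.of_card h.card_eq

theorem Hyp.not_isCyclic (h : Hyp p n G) : ¬ IsCyclic G := by
  have := h.four_le
  refine CfsgLib.PGroups.not_isCyclic_of_commutator_ne_bot fun hb => h.ne_bot (le_bot_iff.mp ?_)
  rw [← Subgroup.top_lowerCentralSeries_one] at hb
  exact le_trans (Subgroup.lowerCentralSeries_antitone _ (show 1 ≤ n - 2 by omega)) hb.le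

theorem Hyp.lcs_top (h : Hyp p n G) {j : ℕ} (hj : n - 1 ≤ j) : lcs G j = ⊥ := by
  have := h.four_le
  haveI := h.finite
  refine le_bot_iff.mp (le_trans (Subgroup.lowerCentralSeries_antitone _ hj) (le_of_eq ?_))
  by_contra hne
  have h1 := CfsgLib.PGroups.pow_mul_card_lowerCentralSeries_le h.isPGroup h.not_isCyclic (n - 2)
    (by rwa [show n - 2 + 1 = n - 1 by omega])
  rw [h.card_eq, show n - 2 + 1 = n - 1 by omega, show n - 2 + 2 = n by omega] at h1
  have h2 : 1 < Nat.card (lcs G (n - 1)) := (Subgroup.one_lt_card_iff_ne_bot _).mpr hne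
  have h3 : p ^ n * 1 < p ^ n * Nat.card (lcs G (n - 1)) :=
    Nat.mul_lt_mul_of_pos_left h2 (pow_pos hp.out.pos n)
  exact absurd (lt_of_lt_of_le h3 h1) (by simp)

theorem Hyp.card_lcs (h : Hyp p n G) {j : ℕ} (h1 : 1 ≤ j) (h2 : j ≤ n - 1) :
    Nat.card (lcs G j) = p ^ (n - 1 - j) := by
  have := h.four_le
  haveI := h.finite
  haveI := h.isPGroup.isNilpotent
  refine CfsgLib.MetacyclicP.card_lcs_of_maximal_class h.isPGroup (by omega) h.card_eq
    (le_antisymm ?_ ?_) j h1 h2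
  · exact Subgroup.lowerCentralSeries_eq_bot_iff_nilpotencyClass_le.mp (h.lcs_top le_rfl)
  · by_contra hlt
    exact h.ne_bot (Subgroup.lowerCentralSeries_eq_bot_iff_nilpotencyClass_le.mpr (by omega))

theorem Hyp.lcs_succ_lt (h : Hyp p n G) {j : ℕ} (h2 : j ≤ n - 2) : lcs G (j + 1) < lcs G j := by
  have := h.four_le
  refine lt_of_le_of_ne (Subgroup.lowerCentralSeries_antitone _ (Nat.le_succ j)) fun he => ?_
  have hc := congrArg (fun H : Subgroup G => Nat.card H) he
  rw [h.card_lcs (by omega) (by omega)] at hc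
  rcases Nat.eq_zero_or_pos j with rfl | hj
  · rw [show lcs G 0 = ⊤ from rfl, Subgroup.card_top, h.card_eq] at hc
    have := Nat.pow_right_injective hp.out.two_le hc
    omega
  · rw [h.card_lcs hj (by omega)] at hc
    have := Nat.pow_right_injective hp.out.two_le hc
    omega

/-- Every layer below the first has order `p`. -/
theorem Hyp.exists_zpow (h : Hyp p n G) {j : ℕ} (h1 : 1 ≤ j) {a b : G} (ha : a ∈ lcs G j)
    (ha' : a ∉ lcs G (j + 1)) (hb : b ∈ lcs G j) :
    ∃ e : ℤ, QuotientGroup.mk' (lcs G (j + 1)) b = QuotientGroup.mk' (lcs G (j + 1)) a ^ e := by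
  haveI := h.finite
  have hjn : j ≤ n - 2 := by
    by_contra hc
    rw [h.lcs_top (by omega), Subgroup.mem_bot] at ha
    exact ha' (ha ▸ one_mem _)
  set π := QuotientGroup.mk' (lcs G (j + 1))
  set U := (Subgroup.zpowers (π a)).comap π ⊓ lcs G j
  have hle : lcs G (j + 1) ≤ U := le_inf (fun x hx => by
    rw [Subgroup.mem_comap, show π x = 1 from (QuotientGroup.eq_one_iff x).mpr hx]
    exact one_mem _) (Subgroup.lowerCentralSeries_antitone _ (Nat.le_succ j))
  have haU : a ∈ U := ⟨Subgroup.mem_zpowers _, ha⟩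
  have hlt : lcs G (j + 1) < U := lt_of_le_of_ne hle fun he => ha' (he ▸ haU)
  have := h.four_le
  have hcard := CfsgLib.PGroups.prime_mul_card_le h.isPGroup hlt
  rw [h.card_lcs (by omega) (by omega)] at hcard
  have hUeq : U = lcs G j := Subgroup.eq_of_le_of_card_ge inf_le_right (by
    rw [h.card_lcs h1 (by omega)]
    refine le_trans (le_of_eq ?_) hcard
    rw [← pow_succ']
    congr 1
    omega)
  have hbU : b ∈ U := by rw [hUeq]; exact hb
  obtain ⟨e, he⟩ := Subgroup.mem_zpowers_iff.mp (Subgroup.mem_comap.mp hbU.1)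
  exact ⟨e, he.symm⟩

theorem Hyp.pow_mem_succ (h : Hyp p n G) {j : ℕ} (h1 : 1 ≤ j) {x : G} (hx : x ∈ lcs G j) :
    x ^ p ∈ lcs G (j + 1) := by
  haveI := h.finite
  have := h.four_le
  rcases le_or_gt (n - 1) j with hj | hj
  · rw [h.lcs_top hj, Subgroup.mem_bot] at hx
    rw [hx, one_pow]
    exact one_mem _
  · have hidx : ((lcs G (j + 1)).subgroupOf (lcs G j)).index = p := by
      have hc := Subgroup.card_mul_index ((lcs G (j + 1)).subgroupOf (lcs G j))
      rw [Nat.card_congr (Subgroup.subgroupOfEquivOfLe (h.lcs_succ_lt (by omega)).le).toEquiv,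
        h.card_lcs (by omega) (by omega), h.card_lcs h1 (by omega),
        show n - 1 - j = (n - 1 - (j + 1)) + 1 by omega, pow_succ] at hc
      exact Nat.eq_of_mul_eq_mul_left (pow_pos hp.out.pos _) hc
    have := Subgroup.pow_index_mem ((lcs G (j + 1)).subgroupOf (lcs G j)) ⟨x, hx⟩
    rw [hidx] at this
    exact this

/-- `x` centralizes a layer as soon as it centralizes one generator. -/
theorem Hyp.mem_twoStep_of_commutator (h : Hyp p n G) {j : ℕ} (h1 : 1 ≤ j) {a : G} (ha : a ∈ lcs G j)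
    (ha' : a ∉ lcs G (j + 1)) {x : G} (hx : ⁅x, a⁆ ∈ lcs G (j + 2)) : x ∈ twoStep G j := by
  refine mem_twoStep.mpr fun y hy => mk_commutator_eq_one_iff.mp ?_
  obtain ⟨e, he⟩ := h.exists_zpow h1 ha ha' hy
  have hu : (a ^ e)⁻¹ * y ∈ lcs G (j + 1) := by
    rw [← QuotientGroup.eq_one_iff]
    show QuotientGroup.mk' (lcs G (j + 1)) ((a ^ e)⁻¹ * y) = 1
    rw [map_mul, map_inv, map_zpow, he, inv_mul_cancel]
  rw [show y = a ^ e * ((a ^ e)⁻¹ * y) from (mul_inv_cancel_left _ _).symm, map_mul, map_zpow]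
  exact ((mk_commutator_eq_one_iff.mpr hx).zpow_right e).mul_right
    (mk_commutator_eq_one_iff.mpr (commutator_mem (mem_zero x) hu (by omega)))

theorem Hyp.twoStep_ne_top (h : Hyp p n G) {j : ℕ} (hj : j ≤ n - 3) : twoStep G j ≠ ⊤ := by
  intro ht
  have := h.four_le
  refine (h.lcs_succ_lt (j := j + 1) (by omega)).not_ge ?_
  show Subgroup.lowerCentralSeries (⊤ : Subgroup G) (j + 1) ≤ _
  rw [Subgroup.lowerCentralSeries_succ, Subgroup.commutator_comm, Subgroup.commutator_le]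
  intro x _ y hy
  exact mem_twoStep.mp (ht.ge (Subgroup.mem_top x)) y hy

/-- Two-step centralizers are maximal subgroups. -/
theorem Hyp.eq_twoStep_or_top (h : Hyp p n G) {j : ℕ} (hj : 1 ≤ j) (hjn : j ≤ n - 3) {U : Subgroup G}
    (hU : lcs G 1 < U) (hU' : U ≤ twoStep G j) : U = twoStep G j := by
  haveI := h.finite
  have := h.four_le
  refine Subgroup.eq_of_le_of_card_ge hU' ?_
  have h1 := CfsgLib.PGroups.prime_mul_card_le h.isPGroup hU
  rw [h.card_lcs le_rfl (by omega)] at h1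
  have h2 : twoStep G j < ⊤ := lt_top_iff_ne_top.mpr (h.twoStep_ne_top hjn)
  have h3 := CfsgLib.PGroups.prime_mul_card_le h.isPGroup h2
  rw [Subgroup.card_top, h.card_eq] at h3
  refine Nat.le_of_mul_le_mul_left (h3.trans ?_) hp.out.pos
  calc p ^ n = p * (p * p ^ (n - 1 - 1)) := by rw [← pow_succ', ← pow_succ']; congr 1; omega
    _ ≤ _ := Nat.mul_le_mul_left p h1

/-- Elements of different maximal subgroups above the derived subgroup generate. -/
theorem Hyp.eq_top_of_mem (h : Hyp p n G) {U : Subgroup G} (hU : lcs G 1 ≤ U) {j : ℕ} (hj : 1 ≤ j)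
    (hjn : j ≤ n - 3) {x y : G} (hx : x ∈ twoStep G j) (hx1 : x ∉ lcs G 1) (hy : y ∉ twoStep G j)
    (hxU : x ∈ U) (hyU : y ∈ U) : U = ⊤ := by
  haveI := h.finite
  have := h.four_le
  refine (Subgroup.eq_of_le_of_card_ge le_top ?_)
  have hlt : lcs G 1 < twoStep G j ⊓ U :=
    lt_of_le_of_ne (le_inf (lcs_one_le_twoStep j) hU) fun he => hx1 (he ▸ ⟨hx, hxU⟩)
  have heq := h.eq_twoStep_or_top hj hjn hlt inf_le_left
  have hlt' : twoStep G j < U :=
    lt_of_le_of_ne (heq ▸ inf_le_right) fun he => hy (he ▸ hyU)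
  have h1 := CfsgLib.PGroups.prime_mul_card_le h.isPGroup (lt_of_lt_of_le hlt inf_le_left)
  rw [h.card_lcs le_rfl (by omega)] at h1
  have h2 := CfsgLib.PGroups.prime_mul_card_le h.isPGroup hlt'
  rw [Subgroup.card_top, h.card_eq]
  calc p ^ n = p * (p * p ^ (n - 1 - 1)) := by rw [← pow_succ', ← pow_succ']; congr 1; omega
    _ ≤ p * Nat.card (twoStep G j) := Nat.mul_le_mul_left p h1
    _ ≤ _ := h2

/-- The group is not abelian modulo `lcs 2`. -/
theorem Hyp.commutator_not_mem (h : Hyp p n G) {j : ℕ} (hj : 1 ≤ j) (hjn : j ≤ n - 3) {x y : G}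
    (hx : x ∈ twoStep G j) (hx1 : x ∉ lcs G 1) (hy : y ∉ twoStep G j) : ⁅x, y⁆ ∉ lcs G 2 := by
  intro hc
  have := h.four_le
  refine (h.lcs_succ_lt (j := 1) (by omega)).not_ge ?_
  set π := QuotientGroup.mk' (lcs G 2)
  have hcen : ∀ z ∈ lcs G 1, ∀ w, Commute (π w) (π z) := fun z hz w =>
    mk_commutator_eq_one_iff.mpr (commutator_mem (mem_zero w) hz le_rfl)
  have hall : ∀ a ∈ ({x, y} : Set G), ∀ w, Commute (π a) (π w) := by
    intro a ha
    have htop := h.eq_top_of_mem (U := (Subgroup.centralizer ({π a} : Set (G ⧸ lcs G 2))).comap π)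
      (fun z hz => Subgroup.mem_centralizer_singleton_iff.mpr (hcen z hz a).symm) hj hjn hx hx1 hy
      (Subgroup.mem_centralizer_singleton_iff.mpr (by
        rcases ha with rfl | rfl
        · rfl
        · exact mk_commutator_eq_one_iff.mpr hc))
      (Subgroup.mem_centralizer_singleton_iff.mpr (by
        rcases ha with rfl | rfl
        · exact (mk_commutator_eq_one_iff.mpr hc).symm
        · rfl))
    exact fun w => (Subgroup.mem_centralizer_singleton_iff.mp (htop.ge (Subgroup.mem_top w))).symm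
  have htop := h.eq_top_of_mem (U := (Subgroup.center (G ⧸ lcs G 2)).comap π)
    (fun z hz => Subgroup.mem_center_iff.mpr fun g => by
      obtain ⟨w, rfl⟩ := QuotientGroup.mk'_surjective _ g
      exact hcen z hz w) hj hjn hx hx1 hy
    (Subgroup.mem_center_iff.mpr fun g => by
      obtain ⟨w, rfl⟩ := QuotientGroup.mk'_surjective _ g
      exact ((hall x (Or.inl rfl)) w).eq.symm)
    (Subgroup.mem_center_iff.mpr fun g => by
      obtain ⟨w, rfl⟩ := QuotientGroup.mk'_surjective _ g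
      exact ((hall y (Or.inr rfl)) w).eq.symm)
  show Subgroup.lowerCentralSeries (⊤ : Subgroup G) 1 ≤ _
  rw [Subgroup.lowerCentralSeries_succ, Subgroup.commutator_le]
  intro a _ b _
  exact mk_commutator_eq_one_iff.mp (Subgroup.mem_center_iff.mp (htop.ge (Subgroup.mem_top b)) (π a))

/-- Modulo the derived subgroup a two-step centralizer is not trivial. -/
theorem Hyp.exists_mem_twoStep (h : Hyp p n G) {j : ℕ} (hj : 1 ≤ j) (hjn : j ≤ n - 3) :
    ∃ x ∈ twoStep G j, x ∉ lcs G 1 := by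
  by_contra! hall
  have := h.four_le
  obtain ⟨a, ha, ha'⟩ := SetLike.exists_of_lt (h.lcs_succ_lt (j := j) (by omega))
  obtain ⟨σ, -, hσ⟩ := SetLike.exists_of_lt (lt_top_iff_ne_top.mpr (h.twoStep_ne_top hjn))
  set π := QuotientGroup.mk' (lcs G (j + 2))
  have hgen : ⁅σ, a⁆ ∉ lcs G (j + 2) := fun hc => hσ (h.mem_twoStep_of_commutator hj ha ha' hc)
  have hdec : ∀ x, ∃ e : ℤ, x * σ ^ (-e) ∈ lcs G 1 := by
    intro x
    obtain ⟨e, he⟩ := h.exists_zpow (j := j + 1) (by omega)
      (commutator_mem (mem_zero σ) ha (by omega)) hgen (commutator_mem (mem_zero x) ha (by omega))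
    refine ⟨e, hall _ (h.mem_twoStep_of_commutator hj ha ha' (mk_commutator_eq_one_iff.mp ?_))⟩
    have hc : ∀ w, Commute (π ⁅σ, a⁆) (π w) := fun w => mk_commutator_eq_one_iff.mpr
      (commutator_mem (commutator_mem (mem_zero σ) ha (le_refl (0 + j + 1))) (mem_zero w) (by omega))
    have e2 : ∀ w, π w * π a * (π w)⁻¹ = π ⁅w, a⁆ * π a := fun w => by
      rw [← map_inv, ← map_mul, ← map_mul, ← map_mul, commutatorElement_def, inv_mul_cancel_right]
    have e3 : ∀ r : ℤ, π σ ^ r * π a * (π σ ^ r)⁻¹ = π ⁅σ, a⁆ ^ r * π a := by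
      intro r
      induction r using Int.induction_on with
      | zero => group
      | succ r ihr =>
        calc π σ ^ ((r : ℤ) + 1) * π a * (π σ ^ ((r : ℤ) + 1))⁻¹
            = π σ * (π σ ^ (r : ℤ) * π a * (π σ ^ (r : ℤ))⁻¹) * (π σ)⁻¹ := by group
          _ = π ⁅σ, a⁆ ^ (r : ℤ) * (π σ * π a * (π σ)⁻¹) := by
            rw [ihr, ← mul_assoc, ((hc σ).zpow_left r).symm.eq]
            simp only [mul_assoc]
          _ = π ⁅σ, a⁆ ^ ((r : ℤ) + 1) * π a := by rw [e2]; group
      | pred r ihr =>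
        have e4 : π σ⁻¹ * π a * (π σ⁻¹)⁻¹ = (π ⁅σ, a⁆)⁻¹ * π a := by
          calc π σ⁻¹ * π a * (π σ⁻¹)⁻¹
              = π σ⁻¹ * ((π ⁅σ, a⁆)⁻¹ * (π σ * π a * (π σ)⁻¹)) * (π σ⁻¹)⁻¹ := by
                rw [e2 σ, inv_mul_cancel_left]
            _ = (π ⁅σ, a⁆)⁻¹ * π a := by
                rw [← mul_assoc (π σ⁻¹), ← ((hc σ⁻¹).inv_left).eq, map_inv]
                group
        calc π σ ^ (-(r : ℤ) - 1) * π a * (π σ ^ (-(r : ℤ) - 1))⁻¹
            = π σ⁻¹ * (π σ ^ (-(r : ℤ)) * π a * (π σ ^ (-(r : ℤ)))⁻¹) * (π σ⁻¹)⁻¹ := by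
              rw [map_inv]; group
          _ = π ⁅σ, a⁆ ^ (-(r : ℤ)) * (π σ⁻¹ * π a * (π σ⁻¹)⁻¹) := by
            rw [ihr, ← mul_assoc, ((hc σ⁻¹).zpow_left _).symm.eq]
            simp only [mul_assoc]
          _ = π ⁅σ, a⁆ ^ (-(r : ℤ) - 1) * π a := by rw [e4]; group
    have e5 : π (x * σ ^ (-e)) * π a * (π (x * σ ^ (-e)))⁻¹ = π a := by
      calc π (x * σ ^ (-e)) * π a * (π (x * σ ^ (-e)))⁻¹
          = π x * (π σ ^ (-e) * π a * (π σ ^ (-e))⁻¹) * (π x)⁻¹ := by
            rw [map_mul, map_zpow]; group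
        _ = π ⁅σ, a⁆ ^ (-e) * (π x * π a * (π x)⁻¹) := by
            rw [e3, ← mul_assoc (π x), ((hc x).zpow_left _).symm.eq]
            simp only [mul_assoc]
        _ = π a := by rw [e2, he, zpow_neg, inv_mul_cancel_left]
    exact mul_inv_eq_iff_eq_mul.mp e5
  refine (h.lcs_succ_lt (j := 1) (by omega)).not_ge ?_
  show Subgroup.lowerCentralSeries (⊤ : Subgroup G) 1 ≤ _
  rw [Subgroup.lowerCentralSeries_succ, Subgroup.commutator_le]
  intro x _ y _
  obtain ⟨r, hr⟩ := hdec x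
  obtain ⟨t, ht⟩ := hdec y
  refine mk_commutator_eq_one_iff.mp ?_
  set π₂ := QuotientGroup.mk' (lcs G 2)
  have hcen : ∀ z ∈ lcs G 1, ∀ w, Commute (π₂ z) (π₂ w) := fun z hz w =>
    mk_commutator_eq_one_iff.mpr (commutator_mem hz (mem_zero w) le_rfl)
  have hx : π₂ x = π₂ (x * σ ^ (-r)) * π₂ σ ^ r := by rw [map_mul, map_zpow]; group
  have hy : π₂ y = π₂ (y * σ ^ (-t)) * π₂ σ ^ t := by rw [map_mul, map_zpow]; group
  rw [hx, hy]
  refine Commute.mul_left ?_ (Commute.mul_right ?_ (Commute.zpow_zpow_self _ _ _))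
  · exact (hcen _ hr _).mul_right ((hcen _ hr σ).zpow_right t)
  · exact ((hcen _ ht σ).zpow_right r).symm

/-! ### The standard chain -/

/-- The chain obtained from `a₀` by commutation with `σ`. -/
def chain (a₀ σ : G) : ℕ → G
  | 0 => a₀
  | j + 1 => (chain a₀ σ j)⁻¹ * (σ * chain a₀ σ j * σ⁻¹)

theorem chain_conj (a₀ σ : G) (j : ℕ) :
    σ * chain a₀ σ j * σ⁻¹ = chain a₀ σ j * chain a₀ σ (j + 1) := (mul_inv_cancel_left _ _).symm

theorem chain_succ_eq (a₀ σ : G) (j : ℕ) :
    chain a₀ σ (j + 1) = ⁅(chain a₀ σ j)⁻¹, σ⁆ := by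
  simp [chain, commutatorElement_def, mul_assoc]

theorem chain_mem (a₀ σ : G) : ∀ j, chain a₀ σ j ∈ lcs G j
  | 0 => mem_zero _
  | j + 1 => by
    rw [chain_succ_eq]
    exact commutator_mem (inv_mem (chain_mem a₀ σ j)) (mem_zero σ) (by omega)

/-- A step outside the two-step centralizer does not lose a layer. -/
theorem Hyp.step_not_mem (h : Hyp p n G) {j : ℕ} (hj : 1 ≤ j) {x σ : G} (hσ : σ ∉ twoStep G j)
    (hx : x ∈ lcs G j) (hx' : x ∉ lcs G (j + 1)) : x⁻¹ * (σ * x * σ⁻¹) ∉ lcs G (j + 2) := by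
  intro hc
  refine hσ (h.mem_twoStep_of_commutator hj hx hx' ?_)
  have := (inferInstance : (lcs G (j + 2)).Normal).conj_mem _ hc x
  rw [commutatorElement_def]
  simpa [mul_assoc] using this

/-- The data of a first exceptional two-step centralizer. -/
structure Except (p n : ℕ) (G : Type*) [Group G] (k : ℕ) (a₀ σ : G) : Prop where
  hyp : Hyp p n G
  two_le : 2 ≤ k
  le : k ≤ n - 3
  eq_one : ∀ j, 1 ≤ j → j < k → twoStep G j = twoStep G 1
  mem_one : a₀ ∈ twoStep G 1
  not_mem : a₀ ∉ twoStep G k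
  σ_one : σ ∉ twoStep G 1
  σ_k : σ ∉ twoStep G k

variable {k : ℕ} {a₀ σ : G}

theorem Except.σ_not_mem (E : Except p n G k a₀ σ) {j : ℕ} (hj : 1 ≤ j) (hjk : j ≤ k) :
    σ ∉ twoStep G j := by
  rcases hjk.lt_or_eq with hlt | rfl
  · rw [E.eq_one j hj hlt]; exact E.σ_one
  · exact E.σ_k

theorem Except.chain_not_mem (E : Except p n G k a₀ σ) :
    ∀ j, j ≤ k → chain a₀ σ (j + 1) ∉ lcs G (j + 2)
  | 0, _ => by
    intro hc
    have hk := E.le
    have := E.two_le
    refine E.hyp.commutator_not_mem le_rfl (by omega) (inv_mem E.mem_one)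
      (fun h1 => E.not_mem (lcs_one_le_twoStep k (inv_mem_iff.mp h1))) E.σ_one ?_
    rw [chain_succ_eq] at hc
    exact hc
  | j + 1, hj => E.hyp.step_not_mem (by omega) (E.σ_not_mem (by omega) hj) (chain_mem _ _ _)
      (E.chain_not_mem j (by omega))

/-- `⁅a i, a j⁆` computed one level down. -/
theorem chain_expand (a₀ σ : G) {i j : ℕ} {N : Subgroup G} [N.Normal]
    (hN : lcs G (i + j + 3) ≤ N) :
    QuotientGroup.mk' N σ * QuotientGroup.mk' N ⁅chain a₀ σ i, chain a₀ σ j⁆ * (QuotientGroup.mk' N σ)⁻¹ =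
      QuotientGroup.mk' N ⁅chain a₀ σ i, chain a₀ σ j⁆ *
        QuotientGroup.mk' N ⁅chain a₀ σ i, chain a₀ σ (j + 1)⁆ *
        QuotientGroup.mk' N ⁅chain a₀ σ (i + 1), chain a₀ σ j⁆ := by
  set π := QuotientGroup.mk' N
  have hc : ∀ x ∈ lcs G (i + j + 2), ∀ g, Commute (π x) g := by
    intro x hx g
    obtain ⟨w, rfl⟩ := QuotientGroup.mk'_surjective _ g
    exact mk_commutator_eq_one_iff.mpr (hN (commutator_mem hx (mem_zero w) (by omega)))
  have m := fun i => chain_mem a₀ σ i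
  have h3 : π ⁅chain a₀ σ (i + 1), chain a₀ σ (j + 1)⁆ = 1 :=
    mk_eq_one (hN (commutator_mem (m _) (m _) (by omega)))
  rw [← map_inv, ← map_mul, ← map_mul,
    show σ * ⁅chain a₀ σ i, chain a₀ σ j⁆ * σ⁻¹ = MulAut.conj σ ⁅chain a₀ σ i, chain a₀ σ j⁆ from rfl,
    map_commutatorElement]
  simp only [MulAut.conj_apply, chain_conj]
  rw [map_commutatorElement π, map_mul π, map_mul π, commutator_mul_mul, ← map_commutatorElement π,
    ← map_commutatorElement π, ← map_commutatorElement π, ← map_commutatorElement π, h3, mul_one]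
  all_goals intro g; rw [← map_commutatorElement π]
  · exact hc _ (commutator_mem (m _) (m _) (by omega)) g
  · exact hc _ (commutator_mem (m _) (m _) (by omega)) g
  · rw [h3]; exact Commute.one_left g

theorem Except.low (E : Except p n G k a₀ σ) :
    ∀ l, l < k → ∀ i j, i + j = l → ⁅chain a₀ σ i, chain a₀ σ j⁆ ∈ lcs G (l + 2) := by
  intro l
  induction l with
  | zero =>
    intro _ i j hij
    obtain ⟨rfl, rfl⟩ : i = 0 ∧ j = 0 := by omega
    rw [commutatorElement_self]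
    exact one_mem _
  | succ l ih =>
    intro hl i
    induction i with
    | zero =>
      intro j hj
      obtain rfl : j = l + 1 := by omega
      exact mem_twoStep.mp ((E.eq_one (l + 1) (by omega) hl).ge E.mem_one) _ (chain_mem _ _ _)
    | succ i ih' =>
      intro j hj
      have h1 := ih (by omega) i j (by omega)
      have hx := chain_expand a₀ σ (i := i) (j := j) (N := lcs G (l + 3))
        (le_of_eq (by rw [show i + j + 3 = l + 3 by omega]))
      set π := QuotientGroup.mk' (lcs G (l + 3))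
      have hcen : Commute (π ⁅chain a₀ σ i, chain a₀ σ j⁆) (π σ) :=
        mk_commutator_eq_one_iff.mpr (commutator_mem h1 (mem_zero σ) (by omega))
      rw [← hcen.eq, mul_inv_cancel_right, mk_eq_one (ih' (j + 1) (by omega)),
        mul_one, left_eq_mul] at hx
      exact (QuotientGroup.eq_one_iff _).mp hx

theorem Except.level_k (E : Except p n G k a₀ σ) :
    ∃ α : ℤ, ¬ (p : ℤ) ∣ α ∧ ∀ i j, i + j = k →
      QuotientGroup.mk' (lcs G (k + 2)) ⁅chain a₀ σ i, chain a₀ σ j⁆ =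
        QuotientGroup.mk' (lcs G (k + 2)) (chain a₀ σ (k + 1)) ^ ((-1 : ℤ) ^ i * α) := by
  set π := QuotientGroup.mk' (lcs G (k + 2)) with hπ
  have hz := chain_mem a₀ σ (k + 1)
  have hz' := E.chain_not_mem k le_rfl
  obtain ⟨α, hα⟩ := E.hyp.exists_zpow (j := k + 1) (by omega) hz hz'
    (commutator_mem (mem_zero a₀) (chain_mem a₀ σ k) (by omega))
  refine ⟨α, ?_, fun i => ?_⟩
  · rintro ⟨c, rfl⟩
    refine E.not_mem (E.hyp.mem_twoStep_of_commutator (j := k) (by have := E.two_le; omega)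
      (chain_mem a₀ σ k) ?_ ?_)
    · have := E.two_le
      obtain ⟨k', rfl⟩ : ∃ k', k = k' + 1 := ⟨k - 1, by omega⟩
      exact E.chain_not_mem k' (by omega)
    · refine (QuotientGroup.eq_one_iff _).mp (hα.trans ?_)
      rw [zpow_mul, zpow_natCast, ← map_pow,
        show π (chain a₀ σ (k + 1) ^ p) = 1 from
          mk_eq_one (E.hyp.pow_mem_succ (by omega) hz), one_zpow]
  induction i with
  | zero =>
    intro j hj
    obtain rfl : j = k := by omega
    rw [pow_zero, one_mul]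
    exact hα
  | succ i ih =>
    intro j hj
    have h1 := E.low (k - 1) (by omega) i j (by omega)
    have hx := chain_expand a₀ σ (i := i) (j := j) (N := lcs G (k + 2))
      (le_of_eq (by rw [show i + j + 3 = k + 2 by omega]))
    have hcen : Commute (π ⁅chain a₀ σ i, chain a₀ σ j⁆) (π σ) :=
      mk_commutator_eq_one_iff.mpr (commutator_mem h1 (mem_zero σ) (by omega))
    rw [← hcen.eq, mul_inv_cancel_right, mul_assoc, left_eq_mul] at hx
    rw [eq_inv_of_mul_eq_one_right hx, ih (j + 1) (by omega), ← zpow_neg]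
    congr 1
    rw [pow_succ]
    ring

theorem Except.odd (E : Except p n G k a₀ σ) : Odd k := by
  by_contra hodd
  obtain ⟨m, rfl⟩ := Nat.not_odd_iff_even.mp hodd
  obtain ⟨α, hα, hlev⟩ := E.level_k
  have h1 := hlev m m rfl
  rw [commutatorElement_self, map_one] at h1
  set πz := QuotientGroup.mk' (lcs G (m + m + 2)) (chain a₀ σ (m + m + 1)) with hπz
  have hord : orderOf πz = p := orderOf_eq_prime
    (by rw [hπz, ← map_pow]; exact mk_eq_one (E.hyp.pow_mem_succ (by omega) (chain_mem _ _ _)))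
    (fun h => E.chain_not_mem (m + m) le_rfl ((QuotientGroup.eq_one_iff _).mp h))
  have h2 := orderOf_dvd_iff_zpow_eq_one.mpr h1.symm
  rw [hord] at h2
  rcases neg_one_pow_eq_or ℤ m with e | e <;> rw [e] at h2
  · exact hα (by simpa using h2)
  · exact hα (by simpa using h2)

theorem Except.dvd_succ (E : Except p n G k a₀ σ) (hk : k ≤ n - 4) {m : ℕ} (hm : k = 2 * m + 1) :
    p ∣ m + 1 := by
  have := E.two_le
  have := E.hyp.four_le
  obtain ⟨α, hα, hlev⟩ := E.level_k
  set π := QuotientGroup.mk' (lcs G (k + 3)) with hπ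
  set a := chain a₀ σ
  set T := π (a (k + 2)) with hT
  have hcen : ∀ x ∈ lcs G (k + 2), ∀ g, Commute (π x) g := by
    intro x hx g
    obtain ⟨w, rfl⟩ := QuotientGroup.mk'_surjective _ g
    exact mk_commutator_eq_one_iff.mpr (commutator_mem hx (mem_zero w) (by omega))
  have hTc := hcen _ (chain_mem a₀ σ (k + 2))
  have hTp : T ^ p = 1 := by
    rw [hT, ← map_pow]
    exact mk_eq_one (E.hyp.pow_mem_succ (by omega) (chain_mem _ _ _))
  let H : ℕ → G ⧸ lcs G (k + 3) := fun i => π ⁅a i, a (k + 1 - i)⁆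
  have hHc : ∀ i ≤ k + 1, ∀ g, Commute (H i) g := fun i hi =>
    hcen _ (commutator_mem (chain_mem a₀ σ i) (chain_mem a₀ σ _) (by omega))
  -- the values on level `k` modulo `lcs (k + 3)`
  have hw : ∀ i ≤ k, ∃ u, (∀ g, Commute u g) ∧
      π ⁅a i, a (k - i)⁆ = π (a (k + 1)) ^ ((-1 : ℤ) ^ i * α) * u := by
    intro i hi
    have h1 := hlev i (k - i) (by omega)
    rw [← map_zpow] at h1
    obtain ⟨v, hv, hv'⟩ := (QuotientGroup.mk'_eq_mk' _).mp h1.symm
    refine ⟨π v, hcen v hv, ?_⟩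
    rw [← map_zpow, ← map_mul, hv']
  have hrec : ∀ i ≤ k, H i * H (i + 1) = T ^ ((-1 : ℤ) ^ i * α) := by
    intro i hi
    have hx := chain_expand a₀ σ (i := i) (j := k - i) (N := lcs G (k + 3))
      (le_of_eq (by rw [show i + (k - i) + 3 = k + 3 by omega]))
    obtain ⟨u, hu, hwu⟩ := hw i hi
    simp only [show k - i + 1 = k + 1 - i by omega] at hx
    set e := (-1 : ℤ) ^ i * α
    have hzc : π σ * π (a (k + 1)) * (π σ)⁻¹ = π (a (k + 1)) * T := by
      rw [hT, ← map_inv, ← map_mul, ← map_mul, ← map_mul, chain_conj]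
    have hconj : π σ * π ⁅a i, a (k - i)⁆ * (π σ)⁻¹ = π ⁅a i, a (k - i)⁆ * T ^ e := by
      calc π σ * π ⁅a i, a (k - i)⁆ * (π σ)⁻¹
          = (π σ * π (a (k + 1)) * (π σ)⁻¹) ^ e * (π σ * u * (π σ)⁻¹) := by
            rw [hwu, conj_zpow]; group
        _ = π (a (k + 1)) ^ e * T ^ e * u := by
            rw [hzc, (hTc _).symm.mul_zpow, ← (hu (π σ)).eq, mul_inv_cancel_right]
        _ = π ⁅a i, a (k - i)⁆ * T ^ e := by
            rw [hwu, mul_assoc, ((hu (T ^ e)).eq).symm, mul_assoc]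
    rw [hconj, mul_assoc, mul_right_inj] at hx
    show π ⁅a i, a (k + 1 - i)⁆ * π ⁅a (i + 1), a (k + 1 - (i + 1))⁆ = _
    rw [show k + 1 - (i + 1) = k - i by omega]
    exact hx.symm
  have hform : ∀ i ≤ k + 1, H i = H 0 ^ ((-1 : ℤ) ^ i) * T ^ (-((-1 : ℤ) ^ i * i * α)) := by
    intro i
    induction i with
    | zero =>
      intro _
      rw [pow_zero, zpow_one, Nat.cast_zero, mul_zero, zero_mul, neg_zero, zpow_zero, mul_one]
    | succ i ih =>
      intro hi
      rw [show H (i + 1) = (H i)⁻¹ * T ^ ((-1 : ℤ) ^ i * α) by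
        rw [← hrec i (by omega), inv_mul_cancel_left], ih (by omega), mul_inv_rev, ← zpow_neg,
        ← zpow_neg, ((hTc _).zpow_left _).eq, mul_assoc, ← zpow_add]
      congr 1
      · congr 1; rw [pow_succ]; ring
      · congr 1; push_cast; rw [pow_succ]; ring
  have hmid : H (m + 1) = 1 := by
    show π ⁅a (m + 1), a (k + 1 - (m + 1))⁆ = 1
    rw [show k + 1 - (m + 1) = m + 1 by omega, commutatorElement_self, map_one]
  -- `a₀` centralizes `⁅a 1, a (k - 1)⁆`
  have h0 : H 0 = 1 := by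
    obtain ⟨u, hu, hwu⟩ := hw 1 (by omega)
    have hz : π a₀ * π (a (k + 1)) * (π a₀)⁻¹ = H 0 * π (a (k + 1)) := by
      show _ = π ⁅a₀, a (k + 1 - 0)⁆ * _
      rw [Nat.sub_zero, commutatorElement_def, ← map_inv, ← map_mul, ← map_mul, ← map_mul,
        inv_mul_cancel_right]
    have hd : ∀ i, 1 ≤ i → i < k → ∃ d ∈ lcs G (i + 2), a₀ * a i * a₀⁻¹ = a i * d := by
      intro i h1 h2
      refine ⟨(a i)⁻¹ * ⁅a₀, a i⁆ * (a i)⁻¹⁻¹,
        (inferInstance : (lcs G (i + 2)).Normal).conj_mem _ (E.low i h2 0 i (zero_add i)) _, ?_⟩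
      rw [commutatorElement_def]
      group
    obtain ⟨d1, hd1, e1⟩ := hd 1 le_rfl (by omega)
    obtain ⟨d2, hd2, e2⟩ := hd (k - 1) (by omega) (by omega)
    have m := fun i => chain_mem a₀ σ i
    have hfix : π a₀ * π ⁅a 1, a (k - 1)⁆ * (π a₀)⁻¹ = π ⁅a 1, a (k - 1)⁆ := by
      rw [← map_inv, ← map_mul, ← map_mul,
        show a₀ * ⁅a 1, a (k - 1)⁆ * a₀⁻¹ = MulAut.conj a₀ ⁅a 1, a (k - 1)⁆ from rfl,
        map_commutatorElement]
      simp only [MulAut.conj_apply, e1, e2]
      have z1 : π ⁅a 1, d2⁆ = 1 :=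
        mk_eq_one (commutator_mem (m 1) hd2 (by omega))
      have z2 : π ⁅d1, a (k - 1)⁆ = 1 :=
        mk_eq_one (commutator_mem hd1 (m (k - 1)) (by omega))
      have z3 : π ⁅d1, d2⁆ = 1 :=
        mk_eq_one (commutator_mem hd1 hd2 (by omega))
      rw [map_commutatorElement π, map_mul π, map_mul π, commutator_mul_mul, ← map_commutatorElement π,
        ← map_commutatorElement π, ← map_commutatorElement π, ← map_commutatorElement π, z1, z2, z3,
        mul_one, mul_one, mul_one]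
      all_goals intro g; rw [← map_commutatorElement π]
      exacts [z1 ▸ Commute.one_left g, z2 ▸ Commute.one_left g, z3 ▸ Commute.one_left g]
    have hc0 := hHc 0 (by omega)
    rw [hwu] at hfix
    have hsplit : π a₀ * (π (a (k + 1)) ^ ((-1 : ℤ) ^ 1 * α) * u) * (π a₀)⁻¹ =
        H 0 ^ ((-1 : ℤ) ^ 1 * α) * (π (a (k + 1)) ^ ((-1 : ℤ) ^ 1 * α) * u) := by
      calc _ = (π a₀ * π (a (k + 1)) * (π a₀)⁻¹) ^ ((-1 : ℤ) ^ 1 * α) * (π a₀ * u * (π a₀)⁻¹) := by
            rw [conj_zpow]; group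
        _ = _ := by
          rw [hz, (hc0 _).mul_zpow, ← (hu (π a₀)).eq, mul_inv_cancel_right, mul_assoc]
    rw [hsplit, mul_eq_right] at hfix
    have hp0 : H 0 ^ (p : ℤ) = 1 := by
      rw [zpow_natCast, ← map_pow]
      exact mk_eq_one
        (E.hyp.pow_mem_succ (by omega) (commutator_mem (m 0) (m _) (by omega)))
    obtain ⟨x, y, hxy⟩ := (Int.prime_iff_natAbs_prime.mpr (by simpa using hp.out) :
      Prime (p : ℤ)).coprime_iff_not_dvd.mpr hα
    have hαH : H 0 ^ α = 1 := by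
      rw [pow_one, neg_one_mul, zpow_neg, inv_eq_one] at hfix
      exact hfix
    calc H 0 = H 0 ^ (x * (p : ℤ) + y * α) := by rw [hxy, zpow_one]
      _ = 1 := by rw [zpow_add, mul_comm x, mul_comm y, zpow_mul, zpow_mul, hp0, hαH, one_zpow,
          one_zpow, one_mul]
  have hmid' := hform (m + 1) (by omega)
  rw [hmid, h0, one_zpow, one_mul] at hmid'
  by_cases hT1 : T = 1
  · exfalso
    refine E.hyp.twoStep_ne_top (j := k + 1) (by omega) ?_
    have hzk := E.chain_not_mem k le_rfl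
    refine E.hyp.eq_top_of_mem (lcs_one_le_twoStep _) le_rfl (by omega) E.mem_one
      (fun h1 => E.not_mem (lcs_one_le_twoStep k h1)) E.σ_one ?_ ?_
    · refine E.hyp.mem_twoStep_of_commutator (by omega) (chain_mem a₀ σ _) hzk ?_
      exact (QuotientGroup.eq_one_iff _).mp (h0 : π ⁅a₀, a (k + 1 - 0)⁆ = 1)
    · refine E.hyp.mem_twoStep_of_commutator (by omega) (chain_mem a₀ σ _) hzk ?_
      have h1 := (inferInstance : (lcs G (k + 1 + 2)).Normal).conj_mem _
        ((QuotientGroup.eq_one_iff _).mp hT1 : a (k + 2) ∈ lcs G (k + 1 + 2)) (a (k + 1))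
      have e : a (k + 2) = (a (k + 1))⁻¹ * (σ * a (k + 1) * σ⁻¹) := rfl
      rw [e] at h1
      rw [commutatorElement_def]
      simpa [mul_assoc] using h1
  have h2 := orderOf_dvd_iff_zpow_eq_one.mpr hmid'.symm
  rw [orderOf_eq_prime hTp hT1, dvd_neg] at h2
  have hpi : Prime (p : ℤ) := Int.prime_iff_natAbs_prime.mpr (by simpa using hp.out)
  rcases hpi.dvd_mul.mp h2 with h3 | h3
  · rcases hpi.dvd_mul.mp h3 with h4 | h4
    · have : (p : ℤ) ∣ 1 := by
        rcases neg_one_pow_eq_or ℤ (m + 1) with e | e <;> rw [e] at h4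
        · exact h4
        · exact dvd_neg.mp h4
      exact absurd (Int.natCast_dvd_natCast.mp (by simpa using this)) hp.out.not_dvd_one
    · exact Int.natCast_dvd_natCast.mp h4
  · exact absurd h3 hα

theorem Except.lt_two_mul (E : Except p n G k a₀ σ) : k < 2 * p - 1 := by
  classical
  by_contra hk
  push_neg at hk
  haveI := E.hyp.finite
  have hp2 := hp.out.two_le
  set i₀ := k + 1 - p with hi₀
  set N := lcs G (k + 2) with hN
  set π := QuotientGroup.mk' N with hπ
  set a := chain a₀ σ with ha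
  let A : Subgroup (G ⧸ N) := (lcs G i₀).map π
  have hab : ∀ x y : A, x * y = y * x := by
    rintro ⟨_, x, hx, rfl⟩ ⟨_, y, hy, rfl⟩
    exact Subtype.ext (mk_commutator_eq_one_iff.mpr (commutator_mem hx hy (by omega))).eq
  letI : CommGroup A := { (inferInstance : Group A) with mul_comm := hab }
  have hconj : ∀ g : G, ∀ x : A, π g * x * (π g)⁻¹ ∈ A := by
    rintro g ⟨_, x, hx, rfl⟩
    exact ⟨g * x * g⁻¹, (inferInstance : (lcs G i₀).Normal).conj_mem x hx g, by simp⟩
  let act : G → AddMonoid.End (Additive A) := fun g => MonoidHom.toAdditive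
    { toFun := fun x => ⟨π g * x * (π g)⁻¹, hconj g x⟩
      map_one' := Subtype.ext (by simp)
      map_mul' := fun x y => Subtype.ext (by simp [mul_assoc]) }
  have hact : ∀ g (x : Additive A), ((act g x).toMul : G ⧸ N) = π g * x.toMul * (π g)⁻¹ :=
    fun g x => rfl
  let D : AddMonoid.End (Additive A) := act σ - 1
  have hD : ∀ (x : Additive A), ((D x).toMul : G ⧸ N) = (x.toMul : G ⧸ N)⁻¹ * (π σ * x.toMul * (π σ)⁻¹) := by
    intro x
    show (((act σ x - x).toMul : A) : G ⧸ N) = _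
    rw [sub_eq_neg_add]
    rfl
  let V : ℕ → AddSubgroup (Additive A) := fun j =>
    Subgroup.toAddSubgroup (((lcs G (i₀ + j)).map π).subgroupOf A)
  have hV : ∀ {j : ℕ} {x : Additive A}, x ∈ V j ↔ ∃ g ∈ lcs G (i₀ + j), π g = (x.toMul : G ⧸ N) :=
    fun {j x} => Iff.rfl
  have hVtop : ∀ {x : Additive A}, x ∈ V (p + 1) → x = 0 := by
    intro x hx
    obtain ⟨g, hg, e⟩ := hV.mp hx
    refine Additive.toMul.injective (Subtype.ext ?_)
    rw [show ((Additive.toMul x : A) : G ⧸ N) = π g from e.symm]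
    exact (QuotientGroup.eq_one_iff g).mpr
      (show g ∈ lcs G (k + 2) from (show i₀ + (p + 1) = k + 2 by omega) ▸ hg)
  have hDV : ∀ {j : ℕ} {x : Additive A}, x ∈ V j → D x ∈ V (j + 1) := by
    intro j x hx
    obtain ⟨g, hg, e⟩ := hV.mp hx
    refine hV.mpr ⟨⁅g⁻¹, σ⁆, commutator_mem (inv_mem hg) (mem_zero σ) (by omega), ?_⟩
    rw [hD, ← e, commutatorElement_def]
    simp [mul_assoc]
  have hDnV : ∀ {j : ℕ} {x : Additive A}, i₀ + j ≤ k → x ∈ V j → x ∉ V (j + 1) → D x ∉ V (j + 2) := by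
    intro j x hjk hx hx' hc
    obtain ⟨g, hg, e⟩ := hV.mp hx
    refine E.hyp.step_not_mem (j := i₀ + j) (by omega) (E.σ_not_mem (by omega) hjk) hg
      (fun h => hx' (hV.mpr ⟨g, h, e⟩)) ?_
    obtain ⟨g', hg', e'⟩ := hV.mp hc
    rw [hD, ← e] at e'
    have e2 : π g' = π (g⁻¹ * (σ * g * σ⁻¹)) := by rw [e']; simp
    obtain ⟨v, hv, hv'⟩ := (QuotientGroup.mk'_eq_mk' _).mp e2
    rw [← hv']
    exact mul_mem hg' (Subgroup.lowerCentralSeries_antitone _ (by omega) hv)
  set y : Additive A := Additive.ofMul (⟨π (a i₀), _, chain_mem a₀ σ i₀, rfl⟩ : A) with hy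
  have hyD : ∀ j, ((D ^ j) y).toMul = (⟨π (a (i₀ + j)), _,
      Subgroup.lowerCentralSeries_antitone _ (Nat.le_add_right i₀ j) (chain_mem a₀ σ _), rfl⟩ : A) := by
    intro j
    induction j with
    | zero => rfl
    | succ j ih =>
      refine Subtype.ext ?_
      rw [pow_succ']
      show ((D ((D ^ j) y)).toMul : G ⧸ N) = _
      rw [hD, ih]
      show (π (a (i₀ + j)))⁻¹ * (π σ * π (a (i₀ + j)) * (π σ)⁻¹) = π (a (i₀ + j + 1))
      rw [← map_inv, ← map_inv, ← map_mul, ← map_mul, ← map_mul]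
      rfl
  have hyV : ∀ j, (D ^ j) y ∈ V j := fun j =>
    hV.mpr ⟨a (i₀ + j), chain_mem a₀ σ _, by rw [hyD]⟩
  -- `σ ^ p` acts trivially
  have hσp : σ ^ p ∈ lcs G (k + 1) := by
    have h1 : ∀ j, 1 ≤ j → j ≤ k + 1 → σ ^ p ∈ lcs G j := by
      intro j hj
      induction j, hj using Nat.le_induction with
      | base =>
        intro _
        by_contra hc
        have hk2 := E.two_le
        have hk3 := E.le
        rcases em (σ ^ p ∈ twoStep G 1) with hm | hm
        · refine E.hyp.commutator_not_mem le_rfl (by omega) hm hc E.σ_one ?_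
          rw [commutatorElement_eq_one_iff_commute.mpr (Commute.pow_self σ p)]
          exact one_mem _
        · refine E.hyp.commutator_not_mem le_rfl (by omega) E.mem_one
            (fun h => E.not_mem (lcs_one_le_twoStep k h)) hm ?_
          -- the quotient by `lcs 2` has derived group of order `p`
          set π₂ := QuotientGroup.mk' (lcs G 2)
          have hc2 : ∀ z ∈ lcs G 1, ∀ w, Commute (π₂ w) (π₂ z) := fun z hz w =>
            mk_commutator_eq_one_iff.mpr (commutator_mem (mem_zero w) hz le_rfl)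
          refine mk_commutator_eq_one_iff.mp ?_
          rw [map_pow, Commute, SemiconjBy]
          have e : π₂ σ * π₂ a₀ * (π₂ σ)⁻¹ = π₂ a₀ * π₂ (a 1) := by
            rw [← map_inv, ← map_mul, ← map_mul, ← map_mul]
            exact congrArg π₂ (chain_conj a₀ σ 0)
          have e2 : ∀ r : ℕ, π₂ σ ^ r * π₂ a₀ * (π₂ σ ^ r)⁻¹ = π₂ a₀ * π₂ (a 1) ^ r := by
            intro r
            induction r with
            | zero => rw [pow_zero, pow_zero, one_mul, inv_one, mul_one]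
            | succ r ihr =>
              calc π₂ σ ^ (r + 1) * π₂ a₀ * (π₂ σ ^ (r + 1))⁻¹
                  = π₂ σ * (π₂ σ ^ r * π₂ a₀ * (π₂ σ ^ r)⁻¹) * (π₂ σ)⁻¹ := by
                    rw [pow_succ', mul_inv_rev]; simp only [mul_assoc]
                _ = π₂ σ * π₂ a₀ * (π₂ σ)⁻¹ * π₂ (a 1) ^ r := by
                    rw [ihr]
                    have hcomm := ((hc2 _ (chain_mem a₀ σ 1) σ).pow_right r).symm.inv_right
                    simp only [mul_assoc]
                    rw [hcomm.eq]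
                _ = π₂ a₀ * π₂ (a 1) ^ (r + 1) := by rw [e, pow_succ', mul_assoc]
          have e3 : π₂ (a 1) ^ p = 1 := by
            rw [← map_pow]
            exact mk_eq_one (E.hyp.pow_mem_succ le_rfl (chain_mem a₀ σ 1))
          have e4 := e2 p
          rw [e3, mul_one, mul_inv_eq_iff_eq_mul] at e4
          exact e4.symm
      | succ j hj1 ihj =>
        intro hjk
        by_contra hc
        refine E.σ_not_mem hj1 (by omega) (E.hyp.mem_twoStep_of_commutator hj1 (ihj (by omega)) hc ?_)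
        rw [commutatorElement_eq_one_iff_commute.mpr (Commute.self_pow σ p)]
        exact one_mem _
    exact h1 (k + 1) (by omega) le_rfl
  have hφ : (act σ) ^ p = 1 := by
    refine AddMonoidHom.ext fun x => ?_
    have hpow : ∀ r : ℕ, (((act σ) ^ r) x).toMul.1 = π σ ^ r * (x.toMul : G ⧸ N) * (π σ ^ r)⁻¹ := by
      intro r
      induction r with
      | zero => simp
      | succ r ihr =>
        rw [pow_succ']
        show ((act σ (((act σ) ^ r) x)).toMul : G ⧸ N) = _
        rw [hact, ihr, pow_succ' (π σ), mul_inv_rev]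
        simp only [mul_assoc]
    refine Additive.toMul.injective (Subtype.ext ((hpow p).trans ?_))
    obtain ⟨g, hg, e⟩ := x.toMul.2
    rw [← map_pow, ← e, (mk_commutator_eq_one_iff.mpr (commutator_mem hσp hg (by omega))).eq,
      mul_inv_cancel_right]
    exact e
  have hbin : ∀ x, ∑ i ∈ Finset.range (p + 1), p.choose i • (D ^ i) x = x := by
    intro x
    have h1 : (D + 1) ^ p = 1 := by simpa [D] using hφ
    rw [(Commute.one_right D).add_pow] at h1
    have h2 := congrArg (fun f : AddMonoid.End (Additive A) => f x) h1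
    simp only [one_pow, mul_one] at h2
    refine Eq.trans ?_ h2
    erw [AddMonoidHom.finsetSum_apply]
    refine Finset.sum_congr rfl fun i _ => ?_
    rw [← (Nat.cast_commute (p.choose i) (D ^ i)).eq]
    rfl
  have hrel : (D ^ p) y + ∑ i ∈ Finset.Ico 1 p, p.choose i • (D ^ i) y = 0 := by
    have h1 := hbin y
    rw [Finset.sum_range_succ, Finset.range_eq_Ico, Finset.sum_eq_sum_Ico_succ_bot hp.out.pos] at h1
    rw [Nat.choose_zero_right, Nat.choose_self, one_nsmul, one_nsmul, pow_zero, add_assoc] at h1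
    have h2 : ∑ i ∈ Finset.Ico 1 p, p.choose i • (D ^ i) y + (D ^ p) y = 0 := by
      simpa only [AddMonoid.End.coe_one, id_eq, add_eq_left] using h1
    exact (add_comm _ _).trans h2
  have hDlin : ∀ (i : ℕ) x, (D ^ i) (p • x) = p • (D ^ i) x := fun i x => map_nsmul _ _ _
  have hDi : ∀ (i : ℕ) {j : ℕ} {x : Additive A}, x ∈ V j → (D ^ i) x ∈ V (j + i) := by
    intro i
    induction i with
    | zero => intro j x hx; simpa using hx
    | succ i ihi => intro j x hx; rw [pow_succ', ← add_assoc]; exact hDV (ihi hx)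
  have hterm : ∀ i ∈ Finset.Ico 1 p, ∃ c : ℕ, p.choose i • (D ^ i) y = c • (D ^ i) (p • y) := by
    intro i hi
    rw [Finset.mem_Ico] at hi
    obtain ⟨c, hc⟩ := hp.out.dvd_choose_self (by omega) hi.2
    exact ⟨c, by rw [hc, hDlin, mul_comm, mul_nsmul']⟩
  have hlast : (D ^ p) y ∉ V (p + 1) := by
    intro hc
    have h1 := congrArg (fun t : Additive A => (t.toMul : G ⧸ N)) (hVtop hc)
    rw [hyD] at h1
    have h2 : a (i₀ + p) ∈ lcs G (k + 2) := (QuotientGroup.eq_one_iff _).mp h1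
    rw [show i₀ + p = k + 1 by omega] at h2
    exact E.chain_not_mem k le_rfl h2
  -- `p • y` generates the layer `k`
  have hpy : ∀ j ≤ p - 1, p • y ∈ V j := by
    intro j
    induction j with
    | zero => exact fun _ => AddSubgroup.nsmul_mem _ (hyV 0) p
    | succ j ih =>
      intro hj
      by_contra hc
      have hj' := ih (by omega)
      have h1 : D (p • y) ∉ V (j + 2) := hDnV (by omega) hj' hc
      apply h1
      have hsplit := hrel
      rw [Finset.sum_eq_sum_Ico_succ_bot hp.out.one_lt, Nat.choose_one_right, pow_one,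
        ← map_nsmul D p y] at hsplit
      have h2 : (D ^ p) y ∈ V (j + 2) := by
        have := hyV p
        obtain ⟨g, hg, e⟩ := hV.mp this
        exact hV.mpr ⟨g, Subgroup.lowerCentralSeries_antitone _ (by omega) hg, e⟩
      have h3 : ∑ i ∈ Finset.Ico (1 + 1) p, p.choose i • (D ^ i) y ∈ V (j + 2) := by
        refine sum_mem fun i hi => ?_
        rw [Finset.mem_Ico] at hi
        obtain ⟨c, hc'⟩ := hterm i (Finset.mem_Ico.mpr ⟨by omega, hi.2⟩)
        rw [hc']
        refine AddSubgroup.nsmul_mem _ ?_ c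
        obtain ⟨g, hg, e⟩ := hV.mp (hDi i hj')
        exact hV.mpr ⟨g, Subgroup.lowerCentralSeries_antitone _ (by omega) hg, e⟩
      rw [show D (p • y) = -((D ^ p) y + ∑ i ∈ Finset.Ico (1 + 1) p, p.choose i • (D ^ i) y) by
        rw [eq_neg_iff_add_eq_zero, ← hsplit]; abel]
      exact neg_mem (add_mem h2 h3)
  have hpy' : p • y ∉ V p := by
    intro hc
    refine hlast ?_
    rw [show (D ^ p) y = -∑ i ∈ Finset.Ico 1 p, p.choose i • (D ^ i) y from
      eq_neg_of_add_eq_zero_left hrel]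
    refine neg_mem (sum_mem fun i hi => ?_)
    obtain ⟨c, hc'⟩ := hterm i hi
    rw [hc']
    refine AddSubgroup.nsmul_mem _ ?_ c
    obtain ⟨g, hg, e⟩ := hV.mp (hDi i hc)
    rw [Finset.mem_Ico] at hi
    exact hV.mpr ⟨g, Subgroup.lowerCentralSeries_antitone _ (by omega) hg, e⟩
  have hker : ∀ x ∈ V 2, p • x = 0 := by
    suffices h : ∀ d j, 2 ≤ j → p + 1 ≤ j + d → ∀ x ∈ V j, p • x = 0 from
      h (p + 1) 2 le_rfl (by omega)
    intro d
    induction d with
    | zero =>
      intro j _ hj x hx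
      rw [hVtop (x := x) (by
        obtain ⟨g, hg, e⟩ := hV.mp hx
        exact hV.mpr ⟨g, Subgroup.lowerCentralSeries_antitone _ (by omega) hg, e⟩), nsmul_zero]
    | succ d ihd =>
      intro j hj hjd x hx
      rcases le_or_gt (p + 1) j with hbig | hsm
      · exact ihd j hj (by omega) x hx
      obtain ⟨g, hg, e⟩ := hV.mp hx
      have hnot : a (i₀ + j) ∉ lcs G (i₀ + j + 1) := by
        obtain ⟨q, hq⟩ : ∃ q, i₀ + j = q + 1 := ⟨i₀ + j - 1, by omega⟩
        rw [hq]
        exact E.chain_not_mem q (by omega)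
      obtain ⟨c, hc⟩ := E.hyp.exists_zpow (by omega) (chain_mem a₀ σ (i₀ + j)) hnot hg
      have hrest : x - c • (D ^ j) y ∈ V (j + 1) := by
        refine hV.mpr ⟨g * (a (i₀ + j) ^ c)⁻¹, ?_, ?_⟩
        · show g * (a (i₀ + j) ^ c)⁻¹ ∈ lcs G (i₀ + j + 1)
          rw [← QuotientGroup.eq_one_iff]
          show QuotientGroup.mk' _ (g * (a (i₀ + j) ^ c)⁻¹) = 1
          rw [map_mul, map_inv, map_zpow, hc, mul_inv_cancel]
        · rw [toMul_sub, toMul_zsmul, Subgroup.coe_div, Subgroup.coe_zpow, hyD, ← e, div_eq_mul_inv,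
            map_mul, map_inv, map_zpow]
      have h0 : p • (D ^ j) y = 0 := by
        rw [← hDlin]
        refine hVtop ?_
        have := hDi j (hpy (p - 1) le_rfl)
        obtain ⟨g', hg', e'⟩ := hV.mp this
        exact hV.mpr ⟨g', Subgroup.lowerCentralSeries_antitone _ (by omega) hg', e'⟩
      have h1 := ihd (j + 1) (by omega) (by omega) _ hrest
      rw [nsmul_sub, ← natCast_zsmul (c • (D ^ j) y), smul_comm, natCast_zsmul, h0, smul_zero, sub_zero] at h1
      exact h1
  -- `a₀` fixes `p • y`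
  have hδ : act a₀ y - y ∈ V 2 := by
    have h1 := E.low i₀ (by omega) 0 i₀ (zero_add _)
    refine hV.mpr ⟨⁅a₀, a i₀⁆, h1, ?_⟩
    show π ⁅a₀, a i₀⁆ = ((act a₀ y).toMul : G ⧸ N) / (y.toMul : G ⧸ N)
    rw [hact, commutatorElement_def, div_eq_mul_inv]
    simp [hy]
  have hfix : act a₀ (p • y) = p • y := by
    rw [map_nsmul, ← sub_eq_zero, ← nsmul_sub]
    exact hker _ hδ
  obtain ⟨Y, hY, hYe⟩ := hV.mp (hpy (p - 1) le_rfl)
  rw [show i₀ + (p - 1) = k by omega] at hY
  refine E.not_mem (E.hyp.mem_twoStep_of_commutator (j := k) (by omega) hY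
    (fun h => hpy' (hV.mpr ⟨Y, (show i₀ + p = k + 1 by omega) ▸ h, hYe⟩)) ?_)
  have h2 := congrArg (fun t : Additive A => (t.toMul : G ⧸ N)) hfix
  simp only [hact, ← hYe] at h2
  exact mk_commutator_eq_one_iff.mp (mul_inv_eq_iff_eq_mul.mp h2)

theorem Hyp.exists_except (h : Hyp p n G) {j : ℕ} (hj : 1 ≤ j) (hjn : j ≤ n - 3)
    (hne : twoStep G j ≠ twoStep G 1) :
    ∃ (k : ℕ) (a₀ σ : G), k ≤ j ∧ Except p n G k a₀ σ := by
  classical
  have := h.four_le
  have hex : ∃ j', 1 ≤ j' ∧ twoStep G j' ≠ twoStep G 1 := ⟨j, hj, hne⟩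
  obtain ⟨hk1, hkne⟩ := Nat.find_spec hex
  have hkj : Nat.find hex ≤ j := Nat.find_min' hex ⟨hj, hne⟩
  set k := Nat.find hex
  have hk2 : 2 ≤ k := by
    rcases hk1.lt_or_eq with h1 | h1
    · omega
    · exact absurd (by rw [← h1]) hkne
  have hnot : ¬ twoStep G 1 ≤ twoStep G k := fun hle => by
    obtain ⟨x, hx, hx1⟩ := h.exists_mem_twoStep (j := 1) le_rfl (by omega)
    have hlt : lcs G 1 < twoStep G 1 :=
      lt_of_le_of_ne (lcs_one_le_twoStep 1) fun he => hx1 (he ▸ hx)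
    exact hkne (h.eq_twoStep_or_top hk1 (by omega) (lt_of_lt_of_le hlt le_rfl) hle).symm
  obtain ⟨a₀, ha1, ha2⟩ := SetLike.not_le_iff_exists.mp hnot
  obtain ⟨σ, hσ1, hσ2⟩ : ∃ σ, σ ∉ twoStep G 1 ∧ σ ∉ twoStep G k := by
    obtain ⟨x, -, hx⟩ := SetLike.exists_of_lt (lt_top_iff_ne_top.mpr (h.twoStep_ne_top (j := 1) (by omega)))
    by_cases hxk : x ∈ twoStep G k
    · exact ⟨x * a₀, fun hm => hx (by simpa using mul_mem hm (inv_mem ha1)),
        fun hm => ha2 (by simpa using mul_mem (inv_mem hxk) hm)⟩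
    · exact ⟨x, hx, hxk⟩
  exact ⟨k, a₀, σ, hkj, h, hk2, by omega, fun i hi hik =>
    not_not.mp fun hi' => Nat.find_min hex hik ⟨hi, hi'⟩, ha1, ha2, hσ1, hσ2⟩

/-- All two-step centralizers but possibly the last agree. -/
theorem Hyp.twoStep_eq (h : Hyp p n G) {j : ℕ} (hj : 1 ≤ j) (hjn : j ≤ n - 4) :
    twoStep G j = twoStep G 1 := by
  by_contra hne
  obtain ⟨k, a₀, σ, hkj, E⟩ := h.exists_except hj (by omega) hne
  obtain ⟨m, hm⟩ := E.odd
  have h1 := E.lt_two_mul
  have h2 := Nat.le_of_dvd (by omega) (E.dvd_succ (by omega) hm)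
  omega

/-- If the last two-step centralizer differs from the others the exponent of the order is even. -/
theorem Hyp.even_of_ne (h : Hyp p n G) (hne : twoStep G (n - 3) ≠ twoStep G 1) : Even n := by
  have := h.four_le
  obtain ⟨k, a₀, σ, hkj, E⟩ := h.exists_except (by omega) le_rfl hne
  have hk : k = n - 3 := by
    by_contra hlt
    have h1 := E.eq_one
    have := E.two_le
    exact E.not_mem ((h.twoStep_eq (j := k) (by omega) (by omega)).ge E.mem_one)
  obtain ⟨m, hm⟩ := E.odd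
  exact ⟨m + 2, by omega⟩

end CfsgLib.FusionExamples.MaxClass
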