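import Cfsg.Agent.Lib.FusionExamples.MaxClass
import Mathlib.FieldTheory.Finite.Basic

/-!
Automorphisms of `p`-groups of maximal class acting on the layers of the lower central series, and
stabilisers of short chains.
-/

set_option autoImplicit false
set_option linter.style.haveILetI false
set_option linter.unusedSectionVars false

open scoped commutatorElement

namespace CfsgLib.FusionExamples.MaxClass

variable {p n : ℕ} [hp : Fact p.Prime] {G : Type*} [Group G]

theorem commutator_zpow_right {Q : Type*} [Group Q] {a b : Q} (h : ∀ g, Commute ⁅b, a⁆ g) (k : ℤ) :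
    ⁅b, a ^ k⁆ = ⁅b, a⁆ ^ k := by
  have e : b * a * b⁻¹ = ⁅b, a⁆ * a := by rw [commutatorElement_def, inv_mul_cancel_right]
  rw [commutatorElement_def b (a ^ k), ← conj_zpow, e, (h a).mul_zpow, mul_inv_cancel_right]

theorem commutator_zpow_zpow {Q : Type*} [Group Q] {a b : Q} (h : ∀ g, Commute ⁅a, b⁆ g) (k l : ℤ) :
    ⁅a ^ k, b ^ l⁆ = ⁅a, b⁆ ^ (k * l) := by
  have h1 : ⁅a, b ^ l⁆ = ⁅a, b⁆ ^ l := commutator_zpow_right h l
  have h2 : ∀ g, Commute ⁅b ^ l, a⁆ g := fun g => by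
    rw [← commutatorElement_inv, h1]
    exact ((h g).zpow_left l).inv_left
  rw [← commutatorElement_inv (b ^ l), commutator_zpow_right h2, ← commutatorElement_inv a, h1,
    inv_zpow', ← zpow_neg, ← zpow_mul]
  congr 1
  ring

/-- An element whose images modulo `N` are powers is mapped to the corresponding power. -/
theorem map_commutator_mod {N : Subgroup G} [N.Normal] {f : G →* G} {x y : G} {k l : ℤ}
    (hw : ∀ g, ⁅⁅x, y⁆, g⁆ ∈ N) (h1 : ∀ u, ⁅(x ^ k)⁻¹ * f x, u⁆ ∈ N ∨ u ∉ ({y ^ l, (y ^ l)⁻¹ * f y} : Set G))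
    (h2 : ⁅x ^ k, (y ^ l)⁻¹ * f y⁆ ∈ N) :
    QuotientGroup.mk' N (f ⁅x, y⁆) = QuotientGroup.mk' N ⁅x, y⁆ ^ (k * l) := by
  set π := QuotientGroup.mk' N with hπ
  set x' := (x ^ k)⁻¹ * f x with hx'
  set y' := (y ^ l)⁻¹ * f y with hy'
  have hc : ∀ g, Commute ⁅π x, π y⁆ g := fun g => by
    obtain ⟨g, rfl⟩ := QuotientGroup.mk'_surjective _ g
    rw [← map_commutatorElement]
    exact mk_commutator_eq_one_iff.mpr (hw g)
  have z1 : ⁅π (x ^ k), π y'⁆ = 1 := by rw [← map_commutatorElement]; exact mk_eq_one h2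
  have z2 : ⁅π x', π (y ^ l)⁆ = 1 := by
    rw [← map_commutatorElement]
    exact mk_eq_one ((h1 _).resolve_right (not_not.mpr (Or.inl rfl)))
  have z3 : ⁅π x', π y'⁆ = 1 := by
    rw [← map_commutatorElement]
    exact mk_eq_one ((h1 _).resolve_right (not_not.mpr (Or.inr rfl)))
  have ex : π (f x) = π (x ^ k) * π x' := by rw [hx', ← map_mul, mul_inv_cancel_left]
  have ey : π (f y) = π (y ^ l) * π y' := by rw [hy', ← map_mul, mul_inv_cancel_left]
  rw [map_commutatorElement f, map_commutatorElement π, ex, ey, commutator_mul_mul (fun g => by rw [z1]; exact Commute.one_left g)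
    (fun g => by rw [z2]; exact Commute.one_left g) (fun g => by rw [z3]; exact Commute.one_left g),
    z1, z2, z3, mul_one, mul_one, mul_one, map_zpow, map_zpow, commutator_zpow_zpow hc,
    map_commutatorElement π]

/-- Variant for elements of known layers. -/
theorem map_commutator_layers {f : G →* G} {x y : G} {k l : ℤ} {i j m : ℕ} (hm : m = i + j + 1)
    (hx : x ∈ lcs G i) (hy : y ∈ lcs G j) (hx' : ∀ u ∈ lcs G j, ⁅(x ^ k)⁻¹ * f x, u⁆ ∈ lcs G (m + 1))
    (hy' : (y ^ l)⁻¹ * f y ∈ lcs G (j + 1)) :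
    QuotientGroup.mk' (lcs G (m + 1)) (f ⁅x, y⁆) =
      QuotientGroup.mk' (lcs G (m + 1)) ⁅x, y⁆ ^ (k * l) := by
  refine map_commutator_mod (fun g => commutator_mem (commutator_mem hx hy hm.le) (mem_zero g) le_rfl)
    (fun u => ?_) (commutator_mem (Subgroup.zpow_mem _ hx k) hy' (by omega))
  by_cases hu : u ∈ ({y ^ l, (y ^ l)⁻¹ * f y} : Set G)
  · refine Or.inl (hx' u ?_)
    rcases hu with rfl | rfl
    · exact Subgroup.zpow_mem _ hy l
    · exact Subgroup.lowerCentralSeries_antitone _ (Nat.le_succ j) hy'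
  · exact Or.inr hu

theorem Hyp.exp_eq (h : Hyp p n G) {m : ℕ} (hm : 1 ≤ m) {w : G} (hw : w ∈ lcs G m)
    (hw' : w ∉ lcs G (m + 1)) {a b : ℤ}
    (e : QuotientGroup.mk' (lcs G (m + 1)) w ^ a = QuotientGroup.mk' (lcs G (m + 1)) w ^ b) :
    (p : ℤ) ∣ a - b := by
  set πw := QuotientGroup.mk' (lcs G (m + 1)) w
  have hord : orderOf πw = p := orderOf_eq_prime
    (by rw [← map_pow]; exact mk_eq_one (h.pow_mem_succ hm hw))
    (fun h1 => hw' ((QuotientGroup.eq_one_iff _).mp h1))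
  have h2 : πw ^ (a - b) = 1 := by rw [zpow_sub, e, mul_inv_cancel]
  have h3 := orderOf_dvd_iff_zpow_eq_one.mpr h2
  rwa [hord] at h3

/-- A two-step centralizer is generated modulo `lcs 1` by any of its other elements. -/
theorem Hyp.exists_zpow_twoStep (h : Hyp p n G) {j : ℕ} (hj : 1 ≤ j) (hjn : j ≤ n - 3) {g x : G}
    (hg : g ∈ twoStep G j) (hg1 : g ∉ lcs G 1) (hx : x ∈ twoStep G j) :
    ∃ l : ℤ, (g ^ l)⁻¹ * x ∈ lcs G 1 := by
  have hlt : lcs G 1 < lcs G 1 ⊔ Subgroup.zpowers g := lt_of_le_of_ne le_sup_left fun he =>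
    hg1 (he ▸ Subgroup.mem_sup_right (Subgroup.mem_zpowers g))
  have heq := h.eq_twoStep_or_top hj hjn hlt
    (sup_le (lcs_one_le_twoStep j) (Subgroup.zpowers_le.mpr hg))
  rw [sup_comm] at heq
  obtain ⟨a, ha, b, hb, hab⟩ := Subgroup.mem_sup_of_normal_right.mp (heq.ge hx)
  obtain ⟨l, rfl⟩ := Subgroup.mem_zpowers_iff.mp ha
  exact ⟨l, by rw [← hab, inv_mul_cancel_left]; exact hb⟩

/-- Every element is a power of an element outside a two-step centralizer, up to that centralizer. -/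
theorem Hyp.exists_zpow_outside (h : Hyp p n G) {j : ℕ} (hj : 1 ≤ j) (hjn : j ≤ n - 3) {σ : G}
    (hσ : σ ∉ twoStep G j) (x : G) : ∃ m : ℤ, (σ ^ m)⁻¹ * x ∈ twoStep G j := by
  obtain ⟨y, hy, hy1⟩ := h.exists_mem_twoStep hj hjn
  have htop := h.eq_top_of_mem (U := twoStep G j ⊔ Subgroup.zpowers σ)
    ((lcs_one_le_twoStep j).trans le_sup_left) hj hjn hy hy1 hσ (Subgroup.mem_sup_left hy)
    (Subgroup.mem_sup_right (Subgroup.mem_zpowers σ))
  haveI : (twoStep G j).Normal := ⟨fun a ha g => by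
    have h1 : ⁅g, a⁆ * a ∈ twoStep G j :=
      mul_mem (lcs_one_le_twoStep j (commutator_mem (mem_zero g) (mem_zero a) le_rfl)) ha
    rwa [commutatorElement_def, inv_mul_cancel_right] at h1⟩
  rw [sup_comm] at htop
  obtain ⟨a, ha, b, hb, hab⟩ := Subgroup.mem_sup_of_normal_right.mp (htop.ge (Subgroup.mem_top x))
  obtain ⟨m, rfl⟩ := Subgroup.mem_zpowers_iff.mp ha
  exact ⟨m, by rw [← hab, inv_mul_cancel_left]; exact hb⟩

theorem map_lcs {f : G →* G} (hf : Function.Surjective f) {j : ℕ} {x : G} (hx : x ∈ lcs G j) :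
    f x ∈ lcs G j := by
  have h1 : (lcs G j).map f = lcs G j := by
    rw [Subgroup.map_lowerCentralSeries, Subgroup.map_top_of_surjective f hf]
  exact h1.le ⟨x, hx, rfl⟩

theorem map_twoStep [Finite G] {f : G →* G} (hf : Function.Surjective f) {j : ℕ} {x : G}
    (hx : x ∈ twoStep G j) : f x ∈ twoStep G j := by
  have hinj : Function.Injective f := Finite.injective_iff_surjective.mpr hf
  refine mem_twoStep.mpr fun y hy => ?_
  obtain ⟨u, rfl⟩ := hf y
  have h1 : (lcs G j).map f = lcs G j := by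
    rw [Subgroup.map_lowerCentralSeries, Subgroup.map_top_of_surjective f hf]
  obtain ⟨u', hu', e⟩ := h1.ge hy
  obtain rfl := hinj e
  rw [← map_commutatorElement]
  exact map_lcs hf (mem_twoStep.mp hx u' hu')

/-- No automorphism fixes the layer `n - 4` and acts with opposite signs on the last two layers
(with the last sign `-1` when all two-step centralizers agree). -/
theorem Hyp.false_of_signs (h : Hyp p n G) (hp2 : p ≠ 2) (h5 : 5 ≤ n) (f : G →* G)
    (hf : Function.Surjective f) {k : ℤ} (hk : k = 1 ∨ k = -1)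
    (h3 : ∀ x ∈ lcs G (n - 4), x⁻¹ * f x ∈ lcs G (n - 3))
    (h2 : ∀ x ∈ lcs G (n - 3), (x ^ (-k))⁻¹ * f x ∈ lcs G (n - 2))
    (h1 : ∀ x ∈ lcs G (n - 2), f x = x ^ k)
    (hdeg : twoStep G (n - 3) = twoStep G 1 → k = -1) : False := by
  haveI := h.finite
  have hpi : ∀ z : ℤ, z = 2 ∨ z = -2 → ¬ (p : ℤ) ∣ z := by
    intro z hz hd
    have h2' : p ∣ 2 := by
      rcases hz with rfl | rfl
      · exact Int.natCast_dvd_natCast.mp hd
      · exact Int.natCast_dvd_natCast.mp (dvd_neg.mp hd)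
    exact hp2 ((Nat.prime_dvd_prime_iff_eq hp.out Nat.prime_two).mp h2')
  have h1n : lcs G (n - 2 + 1) = ⊥ := h.lcs_top (by omega)
  obtain ⟨y, hy, hy'⟩ := SetLike.exists_of_lt (h.lcs_succ_lt (j := n - 4) (by omega))
  have hG4 : twoStep G (n - 4) = twoStep G 1 := h.twoStep_eq (by omega) le_rfl
  have hyk : (y ^ (1 : ℤ))⁻¹ * f y ∈ lcs G (n - 4 + 1) := by
    rw [zpow_one, show n - 4 + 1 = n - 3 by omega]
    exact h3 y hy
  -- `w` generates the layer `n - 3`
  have hwlayer : ∀ {σ : G}, σ ∉ twoStep G 1 →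
      ⁅σ, y⁆ ∈ lcs G (n - 3) ∧ ⁅σ, y⁆ ∉ lcs G (n - 3 + 1) := fun {σ} hσ =>
    ⟨commutator_mem (mem_zero σ) hy (by omega), fun hc => by
      refine hσ (hG4 ▸ h.mem_twoStep_of_commutator (by omega) hy hy' ?_)
      rwa [show n - 4 + 2 = n - 3 + 1 by omega]⟩
  have hw2 : ∀ {w : G}, w ∈ lcs G (n - 3) → ∀ {g : G}, g ∉ twoStep G (n - 3) →
      w ∉ lcs G (n - 3 + 1) → ⁅g, w⁆ ∈ lcs G (n - 2) ∧ ⁅g, w⁆ ∉ lcs G (n - 2 + 1) := fun hw g hg hw' =>
    ⟨commutator_mem (mem_zero _) hw (by omega), fun hc => by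
      refine hg (h.mem_twoStep_of_commutator (by omega) hw hw' ?_)
      rwa [show n - 3 + 2 = n - 2 + 1 by omega]⟩
  -- the scalar of an element acting on the last layer
  have hlast : ∀ {w g : G}, w ∈ lcs G (n - 3) → w ∉ lcs G (n - 3 + 1) → g ∉ twoStep G (n - 3) →
      ∀ {l : ℤ}, (g ^ l)⁻¹ * f g ∈ twoStep G (n - 3) → (p : ℤ) ∣ l * -k - k := by
    intro w g hw hw' hg l hl
    obtain ⟨hv, hv'⟩ := hw2 hw hg hw'
    refine h.exp_eq (by omega) hv hv' ?_
    rw [← map_commutator_layers (f := f) (k := l) (l := -k) (i := 0) (j := n - 3) (m := n - 2)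
      (by omega) (mem_zero _) hw
      (fun u hu => by rw [show n - 2 + 1 = n - 3 + 2 by omega]; exact mem_twoStep.mp hl u hu)
      (by rw [show n - 3 + 1 = n - 2 by omega]; exact h2 w hw), h1 _ hv, map_zpow]
  -- the scalar of an element acting on the layer `n - 4`
  have hmid : ∀ {σ : G}, σ ∉ twoStep G 1 → ∀ {m : ℤ}, (σ ^ m)⁻¹ * f σ ∈ twoStep G 1 →
      (p : ℤ) ∣ m + k := by
    intro σ hσ m hm
    obtain ⟨hw, hw'⟩ := hwlayer hσ
    have e := h.exp_eq (a := m * 1) (b := -k) (by omega) hw hw' ?_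
    · rwa [mul_one, sub_neg_eq_add] at e
    rw [← map_commutator_layers (f := f) (k := m) (l := 1) (i := 0) (j := n - 4) (m := n - 3)
      (by omega) (mem_zero _) hy
      (fun u hu => by
        rw [show n - 3 + 1 = n - 4 + 2 by omega]
        exact mem_twoStep.mp (hG4.ge hm) u hu) hyk, ← map_zpow]
    refine (((QuotientGroup.mk'_eq_mk' _).mpr ⟨_, ?_, mul_inv_cancel_left _ _⟩)).symm
    rw [show n - 3 + 1 = n - 2 by omega]
    exact h2 _ hw
  have hksq : k * k = 1 := by rcases hk with rfl | rfl <;> norm_num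
  by_cases hCG : twoStep G (n - 3) = twoStep G 1
  · obtain ⟨σ, -, hσ⟩ := SetLike.exists_of_lt
      (lt_top_iff_ne_top.mpr (h.twoStep_ne_top (j := 1) (by omega)))
    obtain ⟨m, hm⟩ := h.exists_zpow_outside le_rfl (by omega) hσ (f σ)
    obtain ⟨hw, hw'⟩ := hwlayer hσ
    have d1 := hmid hσ hm
    have d2 := hlast hw hw' (g := σ) (by rwa [hCG]) (l := m) (by rwa [hCG])
    rw [hdeg hCG] at d1 d2
    refine hpi 2 (Or.inl rfl) ?_
    have := dvd_sub d2 d1
    ring_nf at this ⊢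
    exact this
  · have hn := h.even_of_ne hCG
    obtain ⟨g, hg, hg1⟩ := h.exists_mem_twoStep (j := 1) le_rfl (by omega)
    have hgC : g ∉ twoStep G (n - 3) := fun hc => by
      have hlt : lcs G 1 < twoStep G 1 ⊓ twoStep G (n - 3) :=
        lt_of_le_of_ne (le_inf (lcs_one_le_twoStep 1) (lcs_one_le_twoStep _)) fun he =>
          hg1 (he ▸ ⟨hg, hc⟩)
      exact hCG ((h.eq_twoStep_or_top (by omega) le_rfl hlt inf_le_right).symm.trans
        (h.eq_twoStep_or_top le_rfl (by omega) hlt inf_le_left))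
    obtain ⟨σ, hσC, hσ1⟩ := h.exists_mem_twoStep (j := n - 3) (by omega) le_rfl
    have hσG : σ ∉ twoStep G 1 := fun hc => by
      have hlt : lcs G 1 < twoStep G 1 ⊓ twoStep G (n - 3) :=
        lt_of_le_of_ne (le_inf (lcs_one_le_twoStep 1) (lcs_one_le_twoStep _)) fun he =>
          hσ1 (he ▸ ⟨hc, hσC⟩)
      exact hCG ((h.eq_twoStep_or_top (by omega) le_rfl hlt inf_le_right).symm.trans
        (h.eq_twoStep_or_top le_rfl (by omega) hlt inf_le_left))
    obtain ⟨m, hm⟩ := h.exists_zpow_twoStep (by omega) le_rfl hσC hσ1 (map_twoStep hf hσC)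
    obtain ⟨l, hl⟩ := h.exists_zpow_twoStep le_rfl (by omega) hg hg1 (map_twoStep hf hg)
    obtain ⟨hw, hw'⟩ := hwlayer hσG
    have d1 := hmid hσG (lcs_one_le_twoStep 1 hm)
    have d2 := hlast hw hw' hgC (lcs_one_le_twoStep _ hl)
    -- the chain of layers
    have hchain : ∀ j, 1 ≤ j → j ≤ n - 4 → ∃ a ∈ lcs G j, a ∉ lcs G (j + 1) ∧
        (a ^ (l * m ^ j))⁻¹ * f a ∈ lcs G (j + 1) := by
      intro j hj
      induction j, hj using Nat.le_induction with
      | base =>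
        intro _
        refine ⟨⁅g, σ⁆, commutator_mem (mem_zero g) (mem_zero σ) le_rfl,
          h.commutator_not_mem le_rfl (by omega) hg hg1 hσG, ?_⟩
        have e := map_commutator_layers (f := f) (k := l) (l := m) (i := 0) (j := 0) (m := 1) rfl
          (mem_zero g) (mem_zero σ) (fun u _ => commutator_mem hl (mem_zero u) le_rfl) hm
        rw [← map_zpow] at e
        obtain ⟨z, hz, hz'⟩ := (QuotientGroup.mk'_eq_mk' _).mp e.symm
        rw [pow_one, ← hz', inv_mul_cancel_left]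
        exact hz
      | succ j hj1 ih =>
        intro hjn
        obtain ⟨a, ha, ha', hfa⟩ := ih (by omega)
        have hσj : σ ∉ twoStep G j := by rwa [h.twoStep_eq hj1 (by omega)]
        refine ⟨⁅σ, a⁆, commutator_mem (mem_zero σ) ha (by omega),
          fun hc => hσj (h.mem_twoStep_of_commutator hj1 ha ha' hc), ?_⟩
        have e := map_commutator_layers (f := f) (k := m) (l := l * m ^ j) (i := 0) (j := j)
          (m := j + 1) (by omega) (mem_zero σ) ha (fun u hu => commutator_mem hm hu (by omega)) hfa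
        rw [← map_zpow, show m * (l * m ^ j) = l * m ^ (j + 1) by ring] at e
        obtain ⟨z, hz, hz'⟩ := (QuotientGroup.mk'_eq_mk' _).mp e.symm
        rw [← hz', inv_mul_cancel_left]
        exact hz
    obtain ⟨a, ha, ha', hfa⟩ := hchain (n - 4) (by omega) le_rfl
    have d3 : (p : ℤ) ∣ l * m ^ (n - 4) - 1 := by
      refine h.exp_eq (by omega) ha ha' ?_
      rw [zpow_one, ← map_zpow]
      refine ((QuotientGroup.mk'_eq_mk' _).mpr ⟨_, hfa, mul_inv_cancel_left _ _⟩).trans ?_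
      refine ((QuotientGroup.mk'_eq_mk' _).mpr ⟨_, ?_, mul_inv_cancel_left a (f a)⟩).symm
      rw [show n - 4 + 1 = n - 3 by omega]
      exact h3 a ha
    have c1 : ((m : ℤ) : ZMod p) = -(k : ZMod p) := by
      have := (ZMod.intCast_zmod_eq_zero_iff_dvd _ p).mpr d1
      push_cast at this
      linear_combination this
    have c2 : ((l : ℤ) : ZMod p) = -1 := by
      have := (ZMod.intCast_zmod_eq_zero_iff_dvd _ p).mpr d2
      push_cast at this
      have hk2 : ((k : ℤ) : ZMod p) * (k : ZMod p) = 1 := by exact_mod_cast congrArg (fun z : ℤ => (z : ZMod p)) hksq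
      linear_combination (-(k : ZMod p)) * this - ((l : ZMod p) + 1) * hk2
    have c3 := (ZMod.intCast_zmod_eq_zero_iff_dvd _ p).mpr d3
    push_cast at c3
    have heven : Even (n - 4) := by
      obtain ⟨r, hr⟩ := hn
      exact ⟨r - 2, by omega⟩
    have hk2 : ((k : ℤ) : ZMod p) ^ (n - 4) = 1 := by
      obtain ⟨r, hr⟩ := heven
      have h' : ((k : ℤ) : ZMod p) * (k : ZMod p) = 1 := by exact_mod_cast congrArg (fun z : ℤ => (z : ZMod p)) hksq
      rw [hr, ← two_mul, pow_mul, pow_two, h', one_pow]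
    rw [c1, c2, heven.neg_pow, hk2] at c3
    refine hpi (-2) (Or.inr rfl) ((ZMod.intCast_zmod_eq_zero_iff_dvd _ p).mp ?_)
    push_cast
    linear_combination c3

/-- A chain of two invariant subgroups with factors of order at most `p`. -/
structure IsShortChain (p : ℕ) {V : Type*} [Group V] (K₁ K₂ : Subgroup V) : Prop where
  le : K₁ ≤ K₂
  inv₁ : ∀ a : MulAut V, ∀ x ∈ K₁, a x ∈ K₁
  inv₂ : ∀ a : MulAut V, ∀ x ∈ K₂, a x ∈ K₂
  card₁ : Nat.card K₁ ≤ p
  card₂ : Nat.card K₂ ≤ p * Nat.card K₁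
  card₃ : Nat.card V ≤ p * Nat.card K₂

section Chain

variable {V : Type*} [Group V] [Finite V]

/-- An element of `p`-power order acts trivially on a factor of order at most `p`. -/
theorem trivial_mod (hV : IsPGroup p V) {K L : Subgroup V} [K.Normal] (hKL : K ≤ L)
    (hcard : Nat.card L ≤ p * Nat.card K) {a : MulAut V} (hK : ∀ x ∈ K, a x ∈ K) (hL : ∀ x ∈ L, a x ∈ L)
    {r : ℕ} (ha : a ^ p ^ r = 1) {x : V} (hx : x ∈ L) : x⁻¹ * a x ∈ K := by
  by_cases hxK : x ∈ K
  · exact K.mul_mem (K.inv_mem hxK) (hK x hxK)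
  set π := QuotientGroup.mk' K
  have hlt : K < K ⊔ Subgroup.zpowers x :=
    lt_of_le_of_ne le_sup_left fun he => hxK (he ▸ Subgroup.mem_sup_right (Subgroup.mem_zpowers x))
  have hc1 := CfsgLib.PGroups.prime_mul_card_le hV hlt
  have hsup : K ⊔ Subgroup.zpowers x = L :=
    Subgroup.eq_of_le_of_card_ge (sup_le hKL (Subgroup.zpowers_le.mpr hx)) (hcard.trans hc1)
  have hdec : ∀ y ∈ L, ∃ e : ℤ, π y = π x ^ e := by
    intro y hy
    rw [← hsup] at hy
    obtain ⟨u, hu, v, hv, huv⟩ := Subgroup.mem_sup_of_normal_left.mp hy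
    obtain ⟨e, rfl⟩ := Subgroup.mem_zpowers_iff.mp hv
    exact ⟨e, by rw [← huv, map_mul, show π u = 1 from mk_eq_one hu, one_mul, map_zpow]⟩
  obtain ⟨e, he⟩ := hdec (a x) (hL x hx)
  have hiter : ∀ m : ℕ, π ((a ^ m) x) = π x ^ (e ^ m) := by
    intro m
    induction m with
    | zero => simp
    | succ m ih =>
      have h1 : (x ^ (e ^ m))⁻¹ * (a ^ m) x ∈ K := by
        rw [← QuotientGroup.eq_one_iff]
        show π ((x ^ (e ^ m))⁻¹ * (a ^ m) x) = 1
        rw [map_mul, map_inv, map_zpow, ih, inv_mul_cancel]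
      have h2 : π (a ((x ^ (e ^ m))⁻¹ * (a ^ m) x)) = 1 := mk_eq_one (hK _ h1)
      rw [map_mul a, map_inv a, map_zpow a, map_mul π, map_inv π, map_zpow π, inv_mul_eq_one, he,
        ← zpow_mul] at h2
      rw [pow_succ' a]
      show π (a ((a ^ m) x)) = _
      rw [← h2, pow_succ']
  have hidx : (K.subgroupOf L).index ≤ p := by
    have hc := Subgroup.card_mul_index (K.subgroupOf L)
    rw [Nat.card_congr (Subgroup.subgroupOfEquivOfLe hKL).toEquiv] at hc
    have hpos : 0 < Nat.card K := Nat.card_pos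
    rw [← hc, mul_comm p] at hcard
    exact Nat.le_of_mul_le_mul_left hcard hpos
  have hordle : orderOf (π x) ∣ p := by
    obtain ⟨i, hi⟩ : ∃ i, orderOf (π x) = p ^ i := by
      obtain ⟨i, hi⟩ := (hV.to_quotient K) (π x)
      obtain ⟨j, -, hj⟩ := (Nat.dvd_prime_pow hp.out).mp (orderOf_dvd_of_pow_eq_one hi)
      exact ⟨j, hj⟩
    obtain ⟨s, hs⟩ : ∃ s, (K.subgroupOf L).index = p ^ s := (hV.to_subgroup L).index _
    have hd : orderOf (π x) ∣ p ^ s := by
      refine orderOf_dvd_of_pow_eq_one ?_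
      rw [← map_pow]
      have hn : (K.subgroupOf L).Normal := inferInstance
      exact mk_eq_one (hs ▸ Subgroup.pow_index_mem (K.subgroupOf L) ⟨x, hx⟩)
    have hs1 : s ≤ 1 := by
      by_contra hlt'
      rw [hs] at hidx
      have := Nat.pow_le_pow_right hp.out.pos (show 2 ≤ s by omega)
      nlinarith [hp.out.two_le]
    exact hd.trans ((Nat.pow_dvd_pow p hs1).trans (by rw [pow_one]))
  have hfix := hiter (p ^ r)
  rw [ha, MulAut.one_apply] at hfix
  have hd1 : (p : ℤ) ∣ e ^ p ^ r - 1 := by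
    have h2 : π x ^ (e ^ p ^ r - 1) = 1 := by rw [zpow_sub, ← hfix, zpow_one, mul_inv_cancel]
    rcases (Nat.dvd_prime hp.out).mp hordle with h1 | h1
    · exact absurd ((QuotientGroup.eq_one_iff x).mp (orderOf_eq_one_iff.mp h1)) hxK
    · have := orderOf_dvd_iff_zpow_eq_one.mpr h2
      rwa [h1] at this
  have he1 : (p : ℤ) ∣ e - 1 := by
    rw [← ZMod.intCast_zmod_eq_zero_iff_dvd] at hd1 ⊢
    push_cast at hd1 ⊢
    rwa [ZMod.pow_card_pow] at hd1
  refine (QuotientGroup.eq_one_iff _).mp ?_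
  show π (x⁻¹ * a x) = 1
  rw [map_mul, map_inv, he, inv_mul_eq_one]
  obtain ⟨c, hc⟩ := he1
  have hp1 : π x ^ (p : ℤ) = 1 := by
    rw [zpow_natCast]
    exact orderOf_dvd_iff_pow_eq_one.mp hordle
  rw [show e = (p : ℤ) * c + 1 by omega, zpow_add, zpow_mul, hp1, one_zpow, one_mul, zpow_one]

/-- Automorphisms stabilising a short chain. -/
def chainStab (K₁ K₂ : Subgroup V) [K₁.Normal] [K₂.Normal] (h12 : K₁ ≤ K₂) : Subgroup (MulAut V) where
  carrier := {a | (∀ x ∈ K₁, a x = x) ∧ (∀ x ∈ K₂, x⁻¹ * a x ∈ K₁) ∧ ∀ x, x⁻¹ * a x ∈ K₂}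
  one_mem' := ⟨fun _ _ => rfl, fun x _ => by simp, fun x => by simp⟩
  mul_mem' := by
    rintro a b ⟨a1, a2, a3⟩ ⟨b1, b2, b3⟩
    have hb : ∀ x ∈ K₂, b x ∈ K₂ := fun x hx => by
      have := K₂.mul_mem hx (h12 (b2 x hx))
      rwa [mul_inv_cancel_left] at this
    refine ⟨fun x hx => ?_, fun x hx => ?_, fun x => ?_⟩
    · show a (b x) = x
      rw [b1 x hx, a1 x hx]
    · show x⁻¹ * a (b x) ∈ K₁
      have := K₁.mul_mem (b2 x hx) (a2 _ (hb x hx))
      rwa [mul_assoc, mul_inv_cancel_left] at this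
    · show x⁻¹ * a (b x) ∈ K₂
      have := K₂.mul_mem (b3 x) (a3 (b x))
      rwa [mul_assoc, mul_inv_cancel_left] at this
  inv_mem' := by
    rintro a ⟨a1, a2, a3⟩
    refine ⟨fun x hx => ?_, fun x hx => ?_, fun x => ?_⟩
    · show a.symm x = x
      rw [MulEquiv.symm_apply_eq, a1 x hx]
    · show x⁻¹ * a.symm x ∈ K₁
      have hax : a.symm x ∈ K₂ := by
        have h1 := a3 (a.symm x)
        rw [MulEquiv.apply_symm_apply] at h1
        exact inv_mem_iff.mp ((K₂.mul_mem_cancel_right hx).mp h1)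
      have := K₁.inv_mem (a2 _ hax)
      rw [MulEquiv.apply_symm_apply, mul_inv_rev, inv_inv] at this
      exact this
    · show x⁻¹ * a.symm x ∈ K₂
      have := K₂.inv_mem (a3 (a.symm x))
      rw [MulEquiv.apply_symm_apply, mul_inv_rev, inv_inv] at this
      exact this

theorem pow_apply_of_fixed {a : MulAut V} {x : V} (h : a (x⁻¹ * a x) = x⁻¹ * a x) (r : ℕ) :
    (a ^ r) x = x * (x⁻¹ * a x) ^ r := by
  induction r with
  | zero => simp
  | succ r ih =>
    rw [pow_succ' a, MulAut.mul_apply, ih, map_mul a, map_pow a, h, pow_succ', ← mul_assoc,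
      mul_inv_cancel_left]

theorem chainStab_pow (hV : IsPGroup p V) {K₁ K₂ : Subgroup V} [K₁.Normal] [K₂.Normal]
    (h12 : K₁ ≤ K₂) (h₁ : Nat.card K₁ ≤ p) (h₂ : Nat.card K₂ ≤ p ^ 2) {a : MulAut V}
    (ha : a ∈ chainStab K₁ K₂ h12) : a ^ p ^ 3 = 1 := by
  have hexp : ∀ (K : Subgroup V) (j : ℕ), Nat.card K ≤ p ^ j → ∀ x ∈ K, x ^ p ^ j = 1 := by
    intro K j hK x hx
    obtain ⟨i, hi⟩ := (hV.to_subgroup K).exists_card_eq
    rw [hi] at hK
    have hle := (Nat.pow_le_pow_iff_right hp.out.one_lt).mp hK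
    exact orderOf_dvd_iff_pow_eq_one.mp ((Subgroup.orderOf_dvd_natCard K hx).trans
      (hi ▸ Nat.pow_dvd_pow p hle))
  have hK2 : ∀ x ∈ K₂, (a ^ p) x = x := fun x hx => by
    rw [pow_apply_of_fixed (ha.1 _ (ha.2.1 x hx))]
    have := hexp K₁ 1 (by rw [pow_one]; exact h₁) _ (ha.2.1 x hx)
    rw [pow_one] at this
    rw [this, mul_one]
  refine MulEquiv.ext fun x => ?_
  have hap := Subgroup.pow_mem _ ha p
  rw [show p ^ 3 = p * p ^ 2 by rw [← pow_succ'], pow_mul,
    pow_apply_of_fixed (hK2 _ (hap.2.2 x)), hexp K₂ 2 h₂ _ (hap.2.2 x), mul_one]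
  rfl

/-- The `p`-elements stabilising a short invariant chain form a normal subgroup. -/
theorem mem_chainStab (hV : IsPGroup p V) {K₁ K₂ : Subgroup V} [K₁.Normal] [K₂.Normal]
    (h : IsShortChain p K₁ K₂) {a : MulAut V} {r : ℕ} (ha : a ^ p ^ r = 1) :
    a ∈ chainStab K₁ K₂ h.le := by
  refine ⟨fun x hx => ?_, fun x hx => trivial_mod hV h.le h.card₂ (h.inv₁ a) (h.inv₂ a) ha hx,
    fun x => trivial_mod hV le_top (by rw [Subgroup.card_top]; exact h.card₃) (h.inv₂ a)
      (fun y _ => Subgroup.mem_top _) ha (Subgroup.mem_top x)⟩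
  have h1 := trivial_mod (K := (⊥ : Subgroup V)) hV bot_le (by simpa using h.card₁)
    (fun y hy => by rw [Subgroup.mem_bot.mp hy, map_one]; exact one_mem _) (h.inv₁ a) ha hx
  rw [Subgroup.mem_bot, inv_mul_eq_one] at h1
  exact h1.symm

theorem chainStab_normal {K₁ K₂ : Subgroup V} [K₁.Normal] [K₂.Normal] (h : IsShortChain p K₁ K₂) :
    (chainStab K₁ K₂ h.le).Normal := by
  refine ⟨fun a ha b => ⟨fun x hx => ?_, fun x hx => ?_, fun x => ?_⟩⟩
  · show b (a (b.symm x)) = x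
    rw [ha.1 _ (h.inv₁ b.symm x hx), MulEquiv.apply_symm_apply]
  · show x⁻¹ * b (a (b.symm x)) ∈ K₁
    have := h.inv₁ b _ (ha.2.1 _ (h.inv₂ b.symm x hx))
    rwa [map_mul, map_inv, MulEquiv.apply_symm_apply] at this
  · show x⁻¹ * b (a (b.symm x)) ∈ K₂
    have := h.inv₂ b _ (ha.2.2 (b.symm x))
    rwa [map_mul, map_inv, MulEquiv.apply_symm_apply] at this

end Chain

end CfsgLib.FusionExamples.MaxClass
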