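import Cfsg.Agent.Lib.FusionSub.MathieuM22
import Cfsg.Agent.Lib.GolayStructure.ConwaySimple

/-!
The 2-fusion system of the McLaughlin group is simple: a Sylow 2-subgroup of `M₂₂` is self-normalizing
in the stabilizer of the triangle, and has no proper nontrivial strongly closed subgroup.
-/

set_option autoImplicit false
set_option linter.style.haveILetI false

namespace CfsgLib.FusionExamples.McL

open Cfsg CfsgLib.Leech CfsgLib.Fischer2 CfsgLib.GolayStructure CfsgLib.Golay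
open CfsgLib.FusionSub CfsgLib.FusionSub.Mathieu
open scoped Pointwise

/-- Representative of the orbit of a point. -/
def rep (i : ℕ) : ℕ :=
  if i = 0 ∨ i = 23 then i else if i = 14 ∨ i = 16 then 14
  else if i = 12 ∨ i = 17 ∨ i = 18 ∨ i = 22 then 12 else 1

theorem rep_orbit : ∀ i : Fin 24, rep i.1 < 24 ∧
    (orbMask certM22.tree.toList (rep i.1)).testBit i.1 = true := by decide +kernel

theorem numeric : ∀ a : Fin 9, ∀ c : Fin 9, ∀ d : Fin 5, ∀ e : Fin 3,
    5 * (a.1 : ℤ) + (8 - a.1) + 2 * ((c.1 : ℤ) - 4) + 4 * ((d.1 : ℤ) - 2) + 16 * ((e.1 : ℤ) - 1) = 40 →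
    (a.1 : ℤ) ^ 2 + (8 - (a.1 : ℤ)) ^ 2 + 2 * ((c.1 : ℤ) - 4) ^ 2 + 4 * ((d.1 : ℤ) - 2) ^ 2 +
      16 * ((e.1 : ℤ) - 1) ^ 2 = 64 → a.1 = 8 := by decide +kernel

theorem numeric' {a b c d e : ℤ} (h1 : 5 * a + b + 2 * c + 4 * d + 16 * e = 40) (h2 : a + b = 8)
    (h3 : a ^ 2 + b ^ 2 + 2 * c ^ 2 + 4 * d ^ 2 + 16 * e ^ 2 = 64) : a = 8 := by
  obtain rfl : b = 8 - a := by omega
  have ha : 0 ≤ a ∧ a ≤ 8 := by constructor <;> nlinarith [sq_nonneg c, sq_nonneg d, sq_nonneg e]
  have hc : -4 ≤ c ∧ c ≤ 4 := by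
    constructor <;> nlinarith [sq_nonneg (a - 4), sq_nonneg d, sq_nonneg e]
  have hd : -2 ≤ d ∧ d ≤ 2 := by
    constructor <;> nlinarith [sq_nonneg (a - 4), sq_nonneg c, sq_nonneg e]
  have he : -1 ≤ e ∧ e ≤ 1 := by
    constructor <;> nlinarith [sq_nonneg (a - 4), sq_nonneg c, sq_nonneg d]
  obtain ⟨a', rfl⟩ := Int.eq_ofNat_of_zero_le ha.1
  obtain ⟨c', hc'⟩ := Int.eq_ofNat_of_zero_le (show 0 ≤ c + 4 by omega)
  obtain ⟨d', hd'⟩ := Int.eq_ofNat_of_zero_le (show 0 ≤ d + 2 by omega)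
  obtain ⟨e', he'⟩ := Int.eq_ofNat_of_zero_le (show 0 ≤ e + 1 by omega)
  have := numeric ⟨a', by omega⟩ ⟨c', by omega⟩ ⟨d', by omega⟩ ⟨e', by omega⟩
    (by rw [show ((c' : ℕ) : ℤ) - 4 = c by omega, show ((d' : ℕ) : ℤ) - 2 = d by omega,
      show ((e' : ℕ) : ℤ) - 1 = e by omega]; exact h1)
    (by rw [show ((c' : ℕ) : ℤ) - 4 = c by omega, show ((d' : ℕ) : ℤ) - 2 = d by omega,
      show ((e' : ℕ) : ℤ) - 1 = e by omega]; exact h3)
  exact_mod_cast this

theorem sum_points (f : GolayPt → ℤ) : ∑ p, f p = ∑ i : Fin 24, f (pt i.1) :=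
  (Finset.sum_bij (fun (i : Fin 24) _ => pt i.1) (fun _ _ => Finset.mem_univ _)
    (fun i _ j _ h => Fin.ext (by rw [← idx_pt i.2, ← idx_pt j.2, h]))
    (fun p _ => ⟨⟨idx p, idx_lt p⟩, Finset.mem_univ _, pt_idx p⟩) (fun _ _ => rfl)).symm

theorem coefU (i : Fin 24) : coordVec vecU (pt i.1) = if i.1 = 23 then 5 else 1 := by
  have key : ∀ i : Fin 24, pt i.1 = none ↔ i.1 = 23 := by decide +kernel
  rw [coordVec_vecU, if_congr (key i) rfl rfl]

theorem coefP (i : Fin 24) : coordVec baseP (pt i.1) = if i.1 = 23 ∨ i.1 = 0 then 4 else 0 := by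
  have key : ∀ i : Fin 24, (pt i.1 = ptP ∨ pt i.1 = ptQ) ↔ (i.1 = 23 ∨ i.1 = 0) := by decide +kernel
  rw [coordVec_baseP, if_congr (key i) rfl rfl]

/-- The Sylow subgroup inside the Conway group. -/
noncomputable def sylTwo : Subgroup Co0 := (certM22.grp.subgroupOf M24).map permHom

theorem grp_mem {σ : Equiv.Perm GolayPt} (h : σ ∈ stabK certM22.sets) :
    σ ∈ M24 ∧ σ none = none ∧ σ ptQ = ptQ := by
  obtain ⟨hM, hs⟩ := mem_stabK.1 h
  have key : ∀ i : ℕ, i < 24 → 2 ^ i ∈ certM22.sets → σ (pt i) = pt i := by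
    intro i hi hmem
    have := hs _ hmem
    rw [unmask_two_pow_of_lt hi, Finset.smul_finset_singleton, Equiv.Perm.smul_def] at this
    exact Finset.singleton_injective this
  exact ⟨hM, key 23 (by norm_num) (by decide), key 0 (by norm_num) (by decide)⟩

theorem mem_stabK_of_fix {σ : Equiv.Perm GolayPt} (hM : σ ∈ M24) (h1 : σ none = none)
    (h2 : σ ptQ = ptQ) : σ ∈ stabK certM22.sets := by
  refine mem_stabK.2 ⟨hM, fun n hn => ?_⟩
  have hn' : n = 2 ^ 0 ∨ n = 2 ^ 23 := by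
    simp only [certM22, List.mem_cons, List.not_mem_nil, or_false] at hn
    rcases hn with rfl | rfl
    · exact Or.inl (by norm_num)
    · exact Or.inr (by norm_num)
  rcases hn' with rfl | rfl
  · rw [unmask_two_pow_of_lt (by norm_num), Finset.smul_finset_singleton, Equiv.Perm.smul_def,
      show pt 0 = ptQ from rfl, h2]
  · rw [unmask_two_pow_of_lt (by norm_num), Finset.smul_finset_singleton, Equiv.Perm.smul_def,
      show pt 23 = (none : GolayPt) from rfl, h1]

theorem sylTwo_le : sylTwo ≤ triGroup baseP := by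
  rintro _ ⟨σ, hσ, rfl⟩
  obtain ⟨-, h1, h2⟩ := grp_mem (SylCert.grp_le certM22_els hσ)
  exact permAut_mem_tri (Or.inl rfl) (τ := σ) ⟨h1, h2⟩

theorem card_sylTwo : Nat.card sylTwo = 2 ^ 7 := by
  have hinj : Function.Injective permHom := fun a b h =>
    (monomial_unique (d := 0) (d' := 0) (by rw [← permHom_apply, h, permHom_apply])).2
  have hle : certM22.grp ≤ M24 := (SylCert.grp_le certM22_els).trans (stabK_le_M24 _)
  rw [sylTwo, Subgroup.card_map_of_injective hinj,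
    Nat.card_congr (Subgroup.subgroupOfEquivOfLe hle).toEquiv, SylCert.card_grp certM22_els]
  rfl

/-- An element of the triangle stabilizer normalizing the Sylow subgroup is a permutation. -/
theorem mem_of_normalizes {h : Co0} (hh : h ∈ triGroup baseP)
    (hn : ∀ x ∈ sylTwo, h⁻¹ * x * h ∈ sylTwo) :
    ∃ σ : M24, σ ∈ baseFix ∧ h = permAut σ := by
  refine mono_fix_tri (Or.inl rfl) (mem_monoGroup_of_axis ?_) hh
  set w := h • axisVec none with hw
  have hfix : ∀ σ : M24, (σ : Equiv.Perm GolayPt) ∈ certM22.grp →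
      ∀ p, coordVec w ((σ : Equiv.Perm GolayPt) p) = coordVec w p := by
    intro σ hσ p
    obtain ⟨τ, hτ, hτe⟩ := hn _ ⟨σ, hσ, rfl⟩
    obtain ⟨-, h1, -⟩ := grp_mem (SylCert.grp_le certM22_els hτ)
    have hax : permAut τ • axisVec none = axisVec none := by
      refine leech_ext fun q => ?_
      rw [coordVec_permAut, coordVec_axisVec, coordVec_axisVec]
      have e : (τ : Equiv.Perm GolayPt).symm q = none ↔ q = none := by
        rw [Equiv.symm_apply_eq, show (τ : Equiv.Perm GolayPt) none = none from h1]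
      exact if_congr e rfl rfl
    have h2 : permAut σ • w = w := by
      have : h⁻¹ * permAut σ * h = permAut τ := by
        rw [← permHom_apply τ, hτe, permHom_apply]
      rw [hw, ← mul_smul, show permAut σ * h = h * permAut τ by rw [← this]; group, mul_smul, hax]
    have h3 := congrArg (fun v => coordVec v ((σ : Equiv.Perm GolayPt) p)) h2
    rw [coordVec_permAut, Equiv.symm_apply_apply] at h3
    exact h3.symm
  have hL := SylCert.mem_grp_iff certM22_els
  have hL' : ∀ t ∈ certM22.tree.toList, ∃ g : Equiv.Perm GolayPt, IsTbl g t := fun t ht => by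
    obtain ⟨g, -, hg⟩ := SylCert.tree_perm certM22_els ht
    exact ⟨g, hg⟩
  have hval : ∀ i : Fin 24, coordVec w (pt i.1) = coordVec w (pt (rep i.1)) := fun i => by
    obtain ⟨hlt, hbit⟩ := rep_orbit i
    obtain ⟨g, hg, hgp⟩ := (mem_orbit hL hL' (p := pt (rep i.1)) (q := pt i.1)).1
      (by rw [idx_pt hlt, pt_mem_unmask i.2]; exact hbit)
    have hgM : g ∈ M24 := (grp_mem (SylCert.grp_le certM22_els hg)).1
    rw [← hgp]
    exact hfix ⟨g, hgM⟩ hg _
  set a := coordVec w (pt 23) with ha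
  set b := coordVec w (pt 0)
  set c := coordVec w (pt 14)
  set d := coordVec w (pt 12)
  set e := coordVec w (pt 1)
  have hsum : ∀ f : ℤ → GolayPt → ℤ, ∑ p, f (coordVec w p) p =
      ∑ i : Fin 24, f (coordVec w (pt (rep i.1))) (pt i.1) := fun f => by
    rw [sum_points]
    exact Finset.sum_congr rfl fun i _ => by rw [← hval i]
  obtain ⟨hu, hy⟩ := Subgroup.mem_inf.1 hh
  have h1 := dot_axis_image (v := vecU) hu
  have h2 := dot_axis_image (v := baseP) hy
  have h3 : sqNorm (coordVec w) = 64 := by rw [hw, sqNorm_smul', sqNorm_axisVec]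
  rw [← hw, dotInt] at h1 h2
  rw [sqNorm] at h3
  rw [hsum (fun z p => coordVec vecU p * z)] at h1
  rw [hsum (fun z p => coordVec baseP p * z)] at h2
  rw [hsum (fun z _ => z ^ 2)] at h3
  have e5 : coordVec vecU none = 5 := by rw [coordVec_vecU, if_pos rfl]
  have e4 : coordVec baseP none = 4 := by rw [coordVec_baseP]; exact if_pos (Or.inl rfl)
  simp only [coefU, coefP, e5, e4, Fin.sum_univ_succ, Fin.sum_univ_zero] at h1 h2 h3
  norm_num [rep] at h1 h2 h3
  show coordVec w (pt 23) = 8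
  exact numeric' (b := b) (c := c) (d := d) (e := e) (by linarith) (by linarith) (by linarith)

theorem normalizer_le_sylTwo :
    Subgroup.normalizer ((sylTwo.subgroupOf (triGroup baseP) : Subgroup (triGroup baseP)) :
      Set (triGroup baseP)) ≤ sylTwo.subgroupOf (triGroup baseP) := by
  intro h hh
  have hn : ∀ x ∈ sylTwo, (h : Co0)⁻¹ * x * h ∈ sylTwo := fun x hx => by
    have := (Subgroup.mem_normalizer_iff.1 (inv_mem hh) ⟨x, sylTwo_le hx⟩).1 hx
    simpa using Subgroup.mem_subgroupOf.1 this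
  have hn' : ∀ x ∈ sylTwo, (h : Co0) * x * (h : Co0)⁻¹ ∈ sylTwo := fun x hx => by
    have := (Subgroup.mem_normalizer_iff.1 hh ⟨x, sylTwo_le hx⟩).1 hx
    simpa using Subgroup.mem_subgroupOf.1 this
  obtain ⟨σ, hσ, he⟩ := mem_of_normalizes h.2 hn
  have hK : (σ : Equiv.Perm GolayPt) ∈ stabK certM22.sets := mem_stabK_of_fix σ.2 hσ.1 hσ.2
  have hinj : Function.Injective permHom := fun a b hab =>
    (monomial_unique (d := 0) (d' := 0) (by rw [← permHom_apply, hab, permHom_apply])).2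
  have hg : (σ : Equiv.Perm GolayPt) ∈ certM22.grp := by
    refine SylCert.normalizer_le certM22_els certM22_norm hK fun y => ?_
    have key : ∀ (τ : M24), (τ : Equiv.Perm GolayPt) ∈ certM22.grp ↔ permHom τ ∈ sylTwo :=
      fun τ => ⟨fun ht => ⟨τ, ht, rfl⟩, fun ⟨τ', ht', e⟩ => hinj e ▸ ht'⟩
    constructor
    · intro hy
      have hyM : y ∈ M24 := (grp_mem (SylCert.grp_le certM22_els hy)).1
      refine (key (σ * ⟨y, hyM⟩ * σ⁻¹)).2 ?_
      rw [map_mul, map_mul, map_inv, permHom_apply σ, ← he]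
      exact hn' _ ((key ⟨y, hyM⟩).1 hy)
    · intro hy
      have hyM : y ∈ M24 := by
        have := mul_mem (mul_mem (inv_mem σ.2) ((grp_mem (SylCert.grp_le certM22_els hy)).1)) σ.2
        simpa [mul_assoc] using this
      refine (key ⟨y, hyM⟩).2 ?_
      have h1 := hn _ ((key (σ * ⟨y, hyM⟩ * σ⁻¹)).1 hy)
      rw [map_mul, map_mul, map_inv, permHom_apply σ, ← he] at h1
      simpa [mul_assoc] using h1
  exact Subgroup.mem_subgroupOf.2 (by rw [he, ← permHom_apply]; exact ⟨σ, hg, rfl⟩)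

theorem noStronglyClosed_sylTwo : NoStronglyClosed (sylTwo.subgroupOf (triGroup baseP)) := by
  intro T hT hcl
  have hinj : Function.Injective permHom := fun a b hab =>
    (monomial_unique (d := 0) (d' := 0) (by rw [← permHom_apply, hab, permHom_apply])).2
  set U : Subgroup (Equiv.Perm GolayPt) :=
    ((T.map (triGroup baseP).subtype).comap permHom).map M24.subtype with hU
  have hUle : U ≤ certM22.grp := by
    rintro _ ⟨σ, ⟨y, hy, hye⟩, rfl⟩
    obtain ⟨τ, hτ, hτe⟩ := Subgroup.mem_subgroupOf.1 (hT hy)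
    rw [show σ = τ from hinj (hye.symm.trans hτe.symm)]
    exact hτ
  have hUcl : ∀ x ∈ U, ∀ g ∈ stabK certM22.sets, g * x * g⁻¹ ∈ certM22.grp → g * x * g⁻¹ ∈ U := by
    rintro _ ⟨σ, ⟨y, hy, hye⟩, rfl⟩ g hg hmem
    obtain ⟨hgM, h1, h2⟩ := grp_mem hg
    have hgT : permAut ⟨g, hgM⟩ ∈ triGroup baseP := permAut_mem_tri (Or.inl rfl) ⟨h1, h2⟩
    refine ⟨(⟨g, hgM⟩ : M24) * σ * (⟨g, hgM⟩ : M24)⁻¹, ⟨⟨_, hgT⟩ * y * (⟨_, hgT⟩)⁻¹, hcl y hy _ ?_, ?_⟩, rfl⟩
    · refine Subgroup.mem_subgroupOf.2 ⟨(⟨g, hgM⟩ : M24) * σ * (⟨g, hgM⟩ : M24)⁻¹, hmem, ?_⟩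
      rw [map_mul, map_mul, map_inv, ← hye, permHom_apply]
      rfl
    · rw [map_mul permHom, map_mul permHom, map_inv permHom, ← hye, permHom_apply]
      rfl
  rcases SylCert.noStronglyClosed certM22_els certM22_center certM22_closure hUle hUcl with hb | hb
  · refine Or.inl (eq_bot_iff.2 fun y hy => ?_)
    obtain ⟨σ, hσ, hσe⟩ := Subgroup.mem_subgroupOf.1 (hT hy)
    have : (σ : Equiv.Perm GolayPt) ∈ U := ⟨σ, ⟨y, hy, hσe.symm⟩, rfl⟩
    rw [hb, Subgroup.mem_bot] at this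
    rw [show σ = 1 from Subtype.ext this, map_one] at hσe
    exact Subgroup.mem_bot.2 (Subtype.ext hσe.symm)
  · refine Or.inr (le_antisymm hT fun y hy => ?_)
    obtain ⟨σ, hσ, hσe⟩ := Subgroup.mem_subgroupOf.1 hy
    obtain ⟨σ', ⟨y', hy', hye⟩, hσ'⟩ := hb.ge hσ
    obtain rfl : σ' = σ := Subtype.ext hσ'
    rwa [show y = y' from Subtype.ext (hσe.symm.trans hye.symm)]

/-- The 2-fusion system of McL is simple. -/
theorem isSimple {G : Type*} [Group G] [Finite G] (hG : Cfsg.Spor.IsoMcL G)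
    [Fact (Nat.Prime 2)] (S : Sylow 2 G) :
    (groupFusionSystem (S : Subgroup G)).IsSimple 2 := by
  obtain ⟨e⟩ := hG
  have hneg : Cfsg.Spor.leechV = -vecU := by
    refine leech_ext fun p => ?_
    show Cfsg.Spor.vecV p = -coordVec vecU p
    rw [coordVec_vecU, Cfsg.Spor.vecV]
    split_ifs <;> norm_num
  have hUP : Cfsg.Spor.leechU = baseP := by
    refine leech_ext fun p => ?_
    show Cfsg.Spor.vecU p = coordVec baseP p
    rw [coordVec_baseP, Cfsg.Spor.vecU]
    rfl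
  have hM : Cfsg.Spor.McL = (triGroup baseP).map Co0.subtype := by
    ext g
    simp only [Cfsg.Spor.McL, Cfsg.Spor.Co3, Subgroup.mem_inf, MulAction.mem_stabilizer_iff,
      Subgroup.mem_map, Subgroup.coe_subtype]
    constructor
    · rintro ⟨⟨hg, hv⟩, hu⟩
      refine ⟨⟨g, hg⟩, ⟨?_, hUP ▸ hu⟩, rfl⟩
      have h := (smul_neg_co0 ⟨g, hg⟩ vecU).symm.trans (hneg ▸ hv)
      exact neg_injective h
    · rintro ⟨x, ⟨hx, hy⟩, rfl⟩
      refine ⟨⟨x.2, ?_⟩, hUP ▸ hy⟩
      rw [hneg]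
      exact (smul_neg_co0 x vecU).trans (congrArg Neg.neg hx)
  let e' : triGroup baseP ≃* G :=
    ((Subgroup.equivMapOfInjective _ _ Co0.subtype_injective).trans
      (MulEquiv.subgroupCongr hM.symm)).trans e.symm
  have := finite_Co0
  refine isSimple_groupFusionSystem_of_subgroup
    (P := (sylTwo.subgroupOf (triGroup baseP)).map e'.toMonoidHom) (n := 7) (m := 7016625) ?_
    (by norm_num) ?_ (by norm_num) (noStronglyClosed_sylTwo.map_equiv e')
    (normalizer_le_map_equiv normalizer_le_sylTwo e') S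
  · rw [Subgroup.card_map_of_injective e'.injective,
      Nat.card_congr (Subgroup.subgroupOfEquivOfLe sylTwo_le).toEquiv, card_sylTwo]
  · rw [← Nat.card_congr e'.toEquiv, natCard_triGroup_baseP]
    norm_num

end CfsgLib.FusionExamples.McL
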