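import Cfsg.Agent.Lib.FusionExamples.ONOutDefs

/-! Identities between the listed words, and the candidates which break a relator. -/

set_option autoImplicit false
set_option maxRecDepth 40000
set_option linter.all false
set_option Elab.async false

namespace CfsgLib.FusionExamples.ONOut

open CfsgLib.SporRecognition.CosetCert

theorem conj_eq : sameW (wB ++ wA ++ invW wB) (List.replicate 12 wA).flatten = true := by decide +kernel

theorem powA19 : sameW (List.replicate 19 wA).flatten [] = true := by decide +kernel

theorem wA_moves : Nat.beq (btr wA 1) 1 = false := by decide +kernel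

theorem powA_list : ((List.range 19).all fun i =>
    sameW (powAW.getD i []) (List.replicate i wA).flatten) = true := by decide +kernel

theorem powA_noncomm : ((List.range 19).all fun i => Nat.beq i 0 ||
    !(sameW (powAW.getD i [] ++ wB) (wB ++ powAW.getD i []))) = true := by decide +kernel

theorem reps_ok : (Data.cReps.all fun e => sameW (toW e.2 ++ wB) (wB ++ toW e.2) &&
    Nat.beq (btr (toW e.2) 0) e.1) = true := by decide +kernel

theorem other_ok : (Data.cOther.all fun e => sameW (toW e.2 ++ wB) (wB ++ toW e.2) &&
    Nat.beq (btr (toW e.2) e.1) 8908) = true := by decide +kernel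

theorem wF_ok : (Nat.beq (btr wF 0) 8908 && sameW (invW wF ++ wB ++ wF) wQ) = true := by decide +kernel

theorem wX_comm : sameW (wX ++ wB) (wB ++ wX) = true := by decide +kernel

theorem elsX : sameW (elsW.getD Data.iX []) wX = true := by decide +kernel

theorem wS_ne : sameW wS wX = false := by decide +kernel

theorem gen_ok : (([.g, .a, .b, .c, .d, .e, .f] : List Cfsg.Spor.ON.Gen).all fun a =>
    sameW (genW 1 wX a) [(a, true)]) = true := by decide +kernel

theorem covered : allBelow 8 216 (fun n => Nat.beq n Data.iX || Nat.beq n Data.iS ||
    Data.cBreak.any fun e => Nat.beq e.1 n) = true := by decide +kernel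

theorem break_c0 : (((Data.cBreak.drop 0).take 24).all breakStep) = true := by decide +kernel
theorem break_c24 : (((Data.cBreak.drop 24).take 24).all breakStep) = true := by decide +kernel
theorem break_c48 : (((Data.cBreak.drop 48).take 24).all breakStep) = true := by decide +kernel
theorem break_c72 : (((Data.cBreak.drop 72).take 24).all breakStep) = true := by decide +kernel
theorem break_c96 : (((Data.cBreak.drop 96).take 24).all breakStep) = true := by decide +kernel
theorem break_c120 : (((Data.cBreak.drop 120).take 24).all breakStep) = true := by decide +kernel
theorem break_c144 : (((Data.cBreak.drop 144).take 24).all breakStep) = true := by decide +kernel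
theorem break_c168 : (((Data.cBreak.drop 168).take 24).all breakStep) = true := by decide +kernel
theorem break_c192 : (((Data.cBreak.drop 192).take 24).all breakStep) = true := by decide +kernel

theorem break_ok : Data.cBreak.all breakStep = true := by
  have e : Data.cBreak = (Data.cBreak.drop 0).take 24 ++ (Data.cBreak.drop 24).take 24 ++ (Data.cBreak.drop 48).take 24 ++ (Data.cBreak.drop 72).take 24 ++ (Data.cBreak.drop 96).take 24 ++ (Data.cBreak.drop 120).take 24 ++ (Data.cBreak.drop 144).take 24 ++ (Data.cBreak.drop 168).take 24 ++ (Data.cBreak.drop 192).take 24 := by decide +kernel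
  rw [e]
  simp only [List.all_append, break_c0, break_c24, break_c48, break_c72, break_c96, break_c120, break_c144, break_c168, break_c192, Bool.and_self]

end CfsgLib.FusionExamples.ONOut
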