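import Cfsg.Agent.Lib.FusionExamples.ONOutDefs

/-! The fixed points of the element of order 6, first half. -/

set_option autoImplicit false
set_option maxRecDepth 40000
set_option linter.all false
set_option Elab.async false

namespace CfsgLib.FusionExamples.ONOut

open CfsgLib.SporRecognition.CosetCert

theorem fixB1_c0 : allPow 122760 (fixBStep) 12 0 = true := by decide +kernel
theorem fixB1_c1 : allPow 122760 (fixBStep) 12 4096 = true := by decide +kernel
theorem fixB1_c2 : allPow 122760 (fixBStep) 12 8192 = true := by decide +kernel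
theorem fixB1_c3 : allPow 122760 (fixBStep) 12 12288 = true := by decide +kernel
theorem fixB1_c4 : allPow 122760 (fixBStep) 12 16384 = true := by decide +kernel
theorem fixB1_c5 : allPow 122760 (fixBStep) 12 20480 = true := by decide +kernel
theorem fixB1_c6 : allPow 122760 (fixBStep) 12 24576 = true := by decide +kernel
theorem fixB1_c7 : allPow 122760 (fixBStep) 12 28672 = true := by decide +kernel
theorem fixB1_c8 : allPow 122760 (fixBStep) 12 32768 = true := by decide +kernel
theorem fixB1_c9 : allPow 122760 (fixBStep) 12 36864 = true := by decide +kernel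
theorem fixB1_c10 : allPow 122760 (fixBStep) 12 40960 = true := by decide +kernel
theorem fixB1_c11 : allPow 122760 (fixBStep) 12 45056 = true := by decide +kernel
theorem fixB1_c12 : allPow 122760 (fixBStep) 12 49152 = true := by decide +kernel
theorem fixB1_c13 : allPow 122760 (fixBStep) 12 53248 = true := by decide +kernel
theorem fixB1_c14 : allPow 122760 (fixBStep) 12 57344 = true := by decide +kernel

theorem fixB1 : Upto 122760 (fixBStep) 0 61440 :=
    (Upto.trans (mid := 28672) (Upto.trans (mid := 12288) (Upto.trans (mid := 4096) ((Upto.of_pow fixB1_c0 (Nat.le_refl _)) : Upto _ _ 0 (0 + 2 ^ 12))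
    (Upto.trans (mid := 8192) ((Upto.of_pow fixB1_c1 (Nat.le_refl _)) : Upto _ _ 4096 (4096 + 2 ^ 12))
    ((Upto.of_pow fixB1_c2 (Nat.le_refl _)) : Upto _ _ 8192 (8192 + 2 ^ 12))))
    (Upto.trans (mid := 20480) (Upto.trans (mid := 16384) ((Upto.of_pow fixB1_c3 (Nat.le_refl _)) : Upto _ _ 12288 (12288 + 2 ^ 12))
    ((Upto.of_pow fixB1_c4 (Nat.le_refl _)) : Upto _ _ 16384 (16384 + 2 ^ 12)))
    (Upto.trans (mid := 24576) ((Upto.of_pow fixB1_c5 (Nat.le_refl _)) : Upto _ _ 20480 (20480 + 2 ^ 12))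
    ((Upto.of_pow fixB1_c6 (Nat.le_refl _)) : Upto _ _ 24576 (24576 + 2 ^ 12)))))
    (Upto.trans (mid := 45056) (Upto.trans (mid := 36864) (Upto.trans (mid := 32768) ((Upto.of_pow fixB1_c7 (Nat.le_refl _)) : Upto _ _ 28672 (28672 + 2 ^ 12))
    ((Upto.of_pow fixB1_c8 (Nat.le_refl _)) : Upto _ _ 32768 (32768 + 2 ^ 12)))
    (Upto.trans (mid := 40960) ((Upto.of_pow fixB1_c9 (Nat.le_refl _)) : Upto _ _ 36864 (36864 + 2 ^ 12))
    ((Upto.of_pow fixB1_c10 (Nat.le_refl _)) : Upto _ _ 40960 (40960 + 2 ^ 12))))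
    (Upto.trans (mid := 53248) (Upto.trans (mid := 49152) ((Upto.of_pow fixB1_c11 (Nat.le_refl _)) : Upto _ _ 45056 (45056 + 2 ^ 12))
    ((Upto.of_pow fixB1_c12 (Nat.le_refl _)) : Upto _ _ 49152 (49152 + 2 ^ 12)))
    (Upto.trans (mid := 57344) ((Upto.of_pow fixB1_c13 (Nat.le_refl _)) : Upto _ _ 53248 (53248 + 2 ^ 12))
    ((Upto.of_pow fixB1_c14 (Nat.le_refl _)) : Upto _ _ 57344 (57344 + 2 ^ 12))))))

end CfsgLib.FusionExamples.ONOut
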