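import Cfsg.Agent.Lib.FusionExamples.ONOutDefs

/-! The fixed points of the element of order 6, second half. -/

set_option autoImplicit false
set_option maxRecDepth 40000
set_option linter.all false
set_option Elab.async false

namespace CfsgLib.FusionExamples.ONOut

open CfsgLib.SporRecognition.CosetCert

theorem fixB2_c0 : allPow 122760 (fixBStep) 12 61440 = true := by decide +kernel
theorem fixB2_c1 : allPow 122760 (fixBStep) 12 65536 = true := by decide +kernel
theorem fixB2_c2 : allPow 122760 (fixBStep) 12 69632 = true := by decide +kernel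
theorem fixB2_c3 : allPow 122760 (fixBStep) 12 73728 = true := by decide +kernel
theorem fixB2_c4 : allPow 122760 (fixBStep) 12 77824 = true := by decide +kernel
theorem fixB2_c5 : allPow 122760 (fixBStep) 12 81920 = true := by decide +kernel
theorem fixB2_c6 : allPow 122760 (fixBStep) 12 86016 = true := by decide +kernel
theorem fixB2_c7 : allPow 122760 (fixBStep) 12 90112 = true := by decide +kernel
theorem fixB2_c8 : allPow 122760 (fixBStep) 12 94208 = true := by decide +kernel
theorem fixB2_c9 : allPow 122760 (fixBStep) 12 98304 = true := by decide +kernel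
theorem fixB2_c10 : allPow 122760 (fixBStep) 12 102400 = true := by decide +kernel
theorem fixB2_c11 : allPow 122760 (fixBStep) 12 106496 = true := by decide +kernel
theorem fixB2_c12 : allPow 122760 (fixBStep) 12 110592 = true := by decide +kernel
theorem fixB2_c13 : allPow 122760 (fixBStep) 12 114688 = true := by decide +kernel
theorem fixB2_c14 : allPow 122760 (fixBStep) 12 118784 = true := by decide +kernel

theorem fixB2 : Upto 122760 (fixBStep) 61440 122880 :=
    (Upto.trans (mid := 90112) (Upto.trans (mid := 73728) (Upto.trans (mid := 65536) ((Upto.of_pow fixB2_c0 (Nat.le_refl _)) : Upto _ _ 61440 (61440 + 2 ^ 12))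
    (Upto.trans (mid := 69632) ((Upto.of_pow fixB2_c1 (Nat.le_refl _)) : Upto _ _ 65536 (65536 + 2 ^ 12))
    ((Upto.of_pow fixB2_c2 (Nat.le_refl _)) : Upto _ _ 69632 (69632 + 2 ^ 12))))
    (Upto.trans (mid := 81920) (Upto.trans (mid := 77824) ((Upto.of_pow fixB2_c3 (Nat.le_refl _)) : Upto _ _ 73728 (73728 + 2 ^ 12))
    ((Upto.of_pow fixB2_c4 (Nat.le_refl _)) : Upto _ _ 77824 (77824 + 2 ^ 12)))
    (Upto.trans (mid := 86016) ((Upto.of_pow fixB2_c5 (Nat.le_refl _)) : Upto _ _ 81920 (81920 + 2 ^ 12))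
    ((Upto.of_pow fixB2_c6 (Nat.le_refl _)) : Upto _ _ 86016 (86016 + 2 ^ 12)))))
    (Upto.trans (mid := 106496) (Upto.trans (mid := 98304) (Upto.trans (mid := 94208) ((Upto.of_pow fixB2_c7 (Nat.le_refl _)) : Upto _ _ 90112 (90112 + 2 ^ 12))
    ((Upto.of_pow fixB2_c8 (Nat.le_refl _)) : Upto _ _ 94208 (94208 + 2 ^ 12)))
    (Upto.trans (mid := 102400) ((Upto.of_pow fixB2_c9 (Nat.le_refl _)) : Upto _ _ 98304 (98304 + 2 ^ 12))
    ((Upto.of_pow fixB2_c10 (Nat.le_refl _)) : Upto _ _ 102400 (102400 + 2 ^ 12))))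
    (Upto.trans (mid := 114688) (Upto.trans (mid := 110592) ((Upto.of_pow fixB2_c11 (Nat.le_refl _)) : Upto _ _ 106496 (106496 + 2 ^ 12))
    ((Upto.of_pow fixB2_c12 (Nat.le_refl _)) : Upto _ _ 110592 (110592 + 2 ^ 12)))
    (Upto.trans (mid := 118784) ((Upto.of_pow fixB2_c13 (Nat.le_refl _)) : Upto _ _ 114688 (114688 + 2 ^ 12))
    ((Upto.of_pow fixB2_c14 (Nat.le_refl _)) : Upto _ _ 118784 (118784 + 2 ^ 12))))))

end CfsgLib.FusionExamples.ONOut
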