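import Cfsg.Agent.Lib.FusionExamples.ONOutDefs

/-! The searches in the model. -/

set_option autoImplicit false
set_option maxRecDepth 40000
set_option linter.all false
set_option Elab.async false

namespace CfsgLib.FusionExamples.ONOut

open CfsgLib.SporRecognition.CosetCert

theorem srchA_c0 : allPow 114 (lev0 pA pA (List.range 19) 39 69 9 36 Data.leavesA) 4 0 = true := by decide +kernel
theorem srchA_c1 : allPow 114 (lev0 pA pA (List.range 19) 39 69 9 36 Data.leavesA) 4 16 = true := by decide +kernel
theorem srchA_c2 : allPow 114 (lev0 pA pA (List.range 19) 39 69 9 36 Data.leavesA) 4 32 = true := by decide +kernel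
theorem srchA_c3 : allPow 114 (lev0 pA pA (List.range 19) 39 69 9 36 Data.leavesA) 4 48 = true := by decide +kernel
theorem srchA_c4 : allPow 114 (lev0 pA pA (List.range 19) 39 69 9 36 Data.leavesA) 4 64 = true := by decide +kernel
theorem srchA_c5 : allPow 114 (lev0 pA pA (List.range 19) 39 69 9 36 Data.leavesA) 4 80 = true := by decide +kernel
theorem srchA_c6 : allPow 114 (lev0 pA pA (List.range 19) 39 69 9 36 Data.leavesA) 4 96 = true := by decide +kernel
theorem srchA_c7 : allPow 114 (lev0 pA pA (List.range 19) 39 69 9 36 Data.leavesA) 4 112 = true := by decide +kernel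

theorem srchA : allBelow 7 114 (lev0 pA pA (List.range 19) 39 69 9 36 Data.leavesA) = true :=
  allBelow_of_upto (hi := 128)
    (Upto.trans (mid := 64) (Upto.trans (mid := 32) (Upto.trans (mid := 16) ((Upto.of_pow srchA_c0 (Nat.le_refl _)) : Upto _ _ 0 (0 + 2 ^ 4))
    ((Upto.of_pow srchA_c1 (Nat.le_refl _)) : Upto _ _ 16 (16 + 2 ^ 4)))
    (Upto.trans (mid := 48) ((Upto.of_pow srchA_c2 (Nat.le_refl _)) : Upto _ _ 32 (32 + 2 ^ 4))
    ((Upto.of_pow srchA_c3 (Nat.le_refl _)) : Upto _ _ 48 (48 + 2 ^ 4))))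
    (Upto.trans (mid := 96) (Upto.trans (mid := 80) ((Upto.of_pow srchA_c4 (Nat.le_refl _)) : Upto _ _ 64 (64 + 2 ^ 4))
    ((Upto.of_pow srchA_c5 (Nat.le_refl _)) : Upto _ _ 80 (80 + 2 ^ 4)))
    (Upto.trans (mid := 112) ((Upto.of_pow srchA_c6 (Nat.le_refl _)) : Upto _ _ 96 (96 + 2 ^ 4))
    ((Upto.of_pow srchA_c7 (Nat.le_refl _)) : Upto _ _ 112 (112 + 2 ^ 4)))))
    (by decide) (by decide)

theorem srchB_c0 : allPow 114 (lev0 pB pB (List.range 6) 15 99 12 52 Data.leavesB) 4 0 = true := by decide +kernel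
theorem srchB_c1 : allPow 114 (lev0 pB pB (List.range 6) 15 99 12 52 Data.leavesB) 4 16 = true := by decide +kernel
theorem srchB_c2 : allPow 114 (lev0 pB pB (List.range 6) 15 99 12 52 Data.leavesB) 4 32 = true := by decide +kernel
theorem srchB_c3 : allPow 114 (lev0 pB pB (List.range 6) 15 99 12 52 Data.leavesB) 4 48 = true := by decide +kernel
theorem srchB_c4 : allPow 114 (lev0 pB pB (List.range 6) 15 99 12 52 Data.leavesB) 4 64 = true := by decide +kernel
theorem srchB_c5 : allPow 114 (lev0 pB pB (List.range 6) 15 99 12 52 Data.leavesB) 4 80 = true := by decide +kernel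
theorem srchB_c6 : allPow 114 (lev0 pB pB (List.range 6) 15 99 12 52 Data.leavesB) 4 96 = true := by decide +kernel
theorem srchB_c7 : allPow 114 (lev0 pB pB (List.range 6) 15 99 12 52 Data.leavesB) 4 112 = true := by decide +kernel

theorem srchB : allBelow 7 114 (lev0 pB pB (List.range 6) 15 99 12 52 Data.leavesB) = true :=
  allBelow_of_upto (hi := 128)
    (Upto.trans (mid := 64) (Upto.trans (mid := 32) (Upto.trans (mid := 16) ((Upto.of_pow srchB_c0 (Nat.le_refl _)) : Upto _ _ 0 (0 + 2 ^ 4))
    ((Upto.of_pow srchB_c1 (Nat.le_refl _)) : Upto _ _ 16 (16 + 2 ^ 4)))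
    (Upto.trans (mid := 48) ((Upto.of_pow srchB_c2 (Nat.le_refl _)) : Upto _ _ 32 (32 + 2 ^ 4))
    ((Upto.of_pow srchB_c3 (Nat.le_refl _)) : Upto _ _ 48 (48 + 2 ^ 4))))
    (Upto.trans (mid := 96) (Upto.trans (mid := 80) ((Upto.of_pow srchB_c4 (Nat.le_refl _)) : Upto _ _ 64 (64 + 2 ^ 4))
    ((Upto.of_pow srchB_c5 (Nat.le_refl _)) : Upto _ _ 80 (80 + 2 ^ 4)))
    (Upto.trans (mid := 112) ((Upto.of_pow srchB_c6 (Nat.le_refl _)) : Upto _ _ 96 (96 + 2 ^ 4))
    ((Upto.of_pow srchB_c7 (Nat.le_refl _)) : Upto _ _ 112 (112 + 2 ^ 4)))))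
    (by decide) (by decide)

theorem srchQ_c0 : allPow 114 (lev0 pB pQ (List.range 6) 15 99 12 52 []) 5 0 = true := by decide +kernel
theorem srchQ_c1 : allPow 114 (lev0 pB pQ (List.range 6) 15 99 12 52 []) 5 32 = true := by decide +kernel
theorem srchQ_c2 : allPow 114 (lev0 pB pQ (List.range 6) 15 99 12 52 []) 5 64 = true := by decide +kernel
theorem srchQ_c3 : allPow 114 (lev0 pB pQ (List.range 6) 15 99 12 52 []) 5 96 = true := by decide +kernel

theorem srchQ : allBelow 7 114 (lev0 pB pQ (List.range 6) 15 99 12 52 []) = true :=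
  allBelow_of_upto (hi := 128)
    (Upto.trans (mid := 64) (Upto.trans (mid := 32) ((Upto.of_pow srchQ_c0 (Nat.le_refl _)) : Upto _ _ 0 (0 + 2 ^ 5))
    ((Upto.of_pow srchQ_c1 (Nat.le_refl _)) : Upto _ _ 32 (32 + 2 ^ 5)))
    (Upto.trans (mid := 96) ((Upto.of_pow srchQ_c2 (Nat.le_refl _)) : Upto _ _ 64 (64 + 2 ^ 5))
    ((Upto.of_pow srchQ_c3 (Nat.le_refl _)) : Upto _ _ 96 (96 + 2 ^ 5))))
    (by decide) (by decide)

theorem certA : Cert pA pA (List.range 19) wA wA 39 69 9 36 powAW Data.leavesA Data.stepsA where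
  no_g := by decide +kernel
  powP := fun i hi => List.all_eq_true.mp (show (List.range 19).all (powStep wA pA) = true by decide +kernel) i hi
  powQ := fun i hi => List.all_eq_true.mp (show (List.range 19).all (powStep wA pA) = true by decide +kernel) i hi
  search := allBelow_spec srchA
  closed := by decide +kernel
  frame := by decide +kernel
  leaf_words := by decide +kernel
  leaf_codes := by decide +kernel

theorem certB : Cert pB pB (List.range 6) wB wB 15 99 12 52 hbW Data.leavesB Data.stepsB where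
  no_g := by decide +kernel
  powP := fun i hi => List.all_eq_true.mp (show (List.range 6).all (powStep wB pB) = true by decide +kernel) i hi
  powQ := fun i hi => List.all_eq_true.mp (show (List.range 6).all (powStep wB pB) = true by decide +kernel) i hi
  search := allBelow_spec srchB
  closed := by decide +kernel
  frame := by decide +kernel
  leaf_words := by decide +kernel
  leaf_codes := by decide +kernel

theorem certQ : Cert pB pQ (List.range 6) wB wQ 15 99 12 52 [] [] Data.stepsB where
  no_g := by decide +kernel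
  powP := fun i hi => List.all_eq_true.mp (show (List.range 6).all (powStep wB pB) = true by decide +kernel) i hi
  powQ := fun i hi => List.all_eq_true.mp (show (List.range 6).all (powStep wQ pQ) = true by decide +kernel) i hi
  search := allBelow_spec srchQ
  closed := by decide +kernel
  frame := by decide +kernel
  leaf_words := by decide +kernel
  leaf_codes := rfl

end CfsgLib.FusionExamples.ONOut
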