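import Cfsg.Agent.Lib.FusionExamples.ONOutDefs

/-! The new generators satisfy the relators. -/

set_option autoImplicit false
set_option maxRecDepth 40000
set_option linter.all false
set_option Elab.async false

namespace CfsgLib.FusionExamples.ONOut

open CfsgLib.SporRecognition.CosetCert

theorem sigma_c0 : (((CfsgLib.SporRecognition.Cert.ON122760.relW).drop 0).take 4).all (fun w =>
    sameW (substW (genW 1 wS) w) []) = true := by decide +kernel
theorem sigma_c4 : (((CfsgLib.SporRecognition.Cert.ON122760.relW).drop 4).take 4).all (fun w =>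
    sameW (substW (genW 1 wS) w) []) = true := by decide +kernel
theorem sigma_c8 : (((CfsgLib.SporRecognition.Cert.ON122760.relW).drop 8).take 4).all (fun w =>
    sameW (substW (genW 1 wS) w) []) = true := by decide +kernel
theorem sigma_c12 : (((CfsgLib.SporRecognition.Cert.ON122760.relW).drop 12).take 1).all (fun w =>
    sameW (substW (genW 1 wS) w) []) = true := by decide +kernel
theorem sigma_c13 : (((CfsgLib.SporRecognition.Cert.ON122760.relW).drop 13).take 4).all (fun w =>
    sameW (substW (genW 1 wS) w) []) = true := by decide +kernel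
theorem sigma_c17 : (((CfsgLib.SporRecognition.Cert.ON122760.relW).drop 17).take 4).all (fun w =>
    sameW (substW (genW 1 wS) w) []) = true := by decide +kernel
theorem sigma_c21 : (((CfsgLib.SporRecognition.Cert.ON122760.relW).drop 21).take 2).all (fun w =>
    sameW (substW (genW 1 wS) w) []) = true := by decide +kernel
theorem sigma_c23 : (((CfsgLib.SporRecognition.Cert.ON122760.relW).drop 23).take 1).all (fun w =>
    sameW (substW (genW 1 wS) w) []) = true := by decide +kernel
theorem sigma_c24 : (((CfsgLib.SporRecognition.Cert.ON122760.relW).drop 24).take 1).all (fun w =>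
    sameW (substW (genW 1 wS) w) []) = true := by decide +kernel
theorem sigma_c25 : (((CfsgLib.SporRecognition.Cert.ON122760.relW).drop 25).take 1).all (fun w =>
    sameW (substW (genW 1 wS) w) []) = true := by decide +kernel
theorem sigma_c26 : (((CfsgLib.SporRecognition.Cert.ON122760.relW).drop 26).take 1).all (fun w =>
    sameW (substW (genW 1 wS) w) []) = true := by decide +kernel
theorem sigma_c27 : (((CfsgLib.SporRecognition.Cert.ON122760.relW).drop 27).take 1).all (fun w =>
    sameW (substW (genW 1 wS) w) []) = true := by decide +kernel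

theorem sigma_rels : (CfsgLib.SporRecognition.Cert.ON122760.relW.all fun w =>
    sameW (substW (genW 1 wS) w) []) = true := by
  have e : CfsgLib.SporRecognition.Cert.ON122760.relW = (CfsgLib.SporRecognition.Cert.ON122760.relW.drop 0).take 4 ++
    (CfsgLib.SporRecognition.Cert.ON122760.relW.drop 4).take 4 ++
    (CfsgLib.SporRecognition.Cert.ON122760.relW.drop 8).take 4 ++
    (CfsgLib.SporRecognition.Cert.ON122760.relW.drop 12).take 1 ++
    (CfsgLib.SporRecognition.Cert.ON122760.relW.drop 13).take 4 ++
    (CfsgLib.SporRecognition.Cert.ON122760.relW.drop 17).take 4 ++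
    (CfsgLib.SporRecognition.Cert.ON122760.relW.drop 21).take 2 ++
    (CfsgLib.SporRecognition.Cert.ON122760.relW.drop 23).take 1 ++
    (CfsgLib.SporRecognition.Cert.ON122760.relW.drop 24).take 1 ++
    (CfsgLib.SporRecognition.Cert.ON122760.relW.drop 25).take 1 ++
    (CfsgLib.SporRecognition.Cert.ON122760.relW.drop 26).take 1 ++
    (CfsgLib.SporRecognition.Cert.ON122760.relW.drop 27).take 1 := by decide +kernel
  rw [e]
  simp only [List.all_append, sigma_c0, sigma_c4, sigma_c8, sigma_c12, sigma_c13, sigma_c17, sigma_c21, sigma_c23, sigma_c24, sigma_c25, sigma_c26, sigma_c27, Bool.and_self]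

theorem sigma_valA : sameW (substW (genW 1 wS) wA) wA = true := by decide +kernel

theorem sigma_valB : sameW (substW (genW 1 wS) wB) wB = true := by decide +kernel

theorem sigma_valX0 : Nat.beq (btr (substW (genW 1 wS) wX) 0) (btr wS 0) = true := by decide +kernel
theorem sigma_valX1 : Nat.beq (btr (substW (genW 1 wS) wX) 1) (btr wS 1) = true := by decide +kernel
theorem sigma_valX2 : Nat.beq (btr (substW (genW 1 wS) wX) 2) (btr wS 2) = true := by decide +kernel
theorem sigma_valX7 : Nat.beq (btr (substW (genW 1 wS) wX) 7) (btr wS 7) = true := by decide +kernel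
theorem sigma_valX21 : Nat.beq (btr (substW (genW 1 wS) wX) 21) (btr wS 21) = true := by decide +kernel

theorem sigma_vals : (sameW (substW (genW 1 wS) wA) wA && sameW (substW (genW 1 wS) wB) wB &&
    sameW (substW (genW 1 wS) wX) wS) = true := by
  have h : sameW (substW (genW 1 wS) wX) wS = true := by
    simp only [sameW, baseL, List.all_cons, List.all_nil, sigma_valX0, sigma_valX1, sigma_valX2, sigma_valX7,
      sigma_valX21, Bool.and_self]
  simp only [sigma_valA, sigma_valB, h, Bool.and_self]

end CfsgLib.FusionExamples.ONOut
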