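import Cfsg.Agent.Lib.FusionExamples.ONOutFixA
import Cfsg.Agent.Lib.FusionExamples.ONOutFixB1
import Cfsg.Agent.Lib.FusionExamples.ONOutFixB2
import Cfsg.Agent.Lib.FusionExamples.ONOutSearch
import Cfsg.Agent.Lib.FusionExamples.ONOutChecks
import Cfsg.Agent.Lib.FusionExamples.ONOutSigma
import Cfsg.Agent.Lib.SporadicOut.Rigid

/-!
The outer automorphism group of O'Nan's group has order two. After an inner automorphism an automorphism fixes an
element of order six and raises a normalised element of order 19 to a listed power; the image of a third generator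
then lies in a centraliser of order 72, and all but two of the candidates break a relator.
-/

set_option autoImplicit false
set_option maxRecDepth 20000
set_option linter.all false

namespace CfsgLib.FusionExamples.ONOut

open CfsgLib.SporRecognition.CosetCert CfsgLib.SporadicOut
open Cfsg.Spor.ON (Gen)

local instance fact_prime_nineteen_onout : Fact (Nat.Prime 19) := ⟨by norm_num⟩

theorem ev_invW (w : List (Gen × Bool)) : ev (invW w) = (ev w)⁻¹ := by
  rw [ev, ev, evalW, evalW, invW, ← FreeGroup.inv_mk, map_inv]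

theorem ev_letter (a : Gen) : ev [(a, true)] = PresentedGroup.of (rels := RON) a := by
  simp [ev, evalW_eq_prod]

theorem ev_ne_of_sameW {v w : List (Gen × Bool)} (h : sameW v w = false) : ev v ≠ ev w := by
  intro he
  have : sameW v w = true := by
    rw [sameW, List.all_eq_true]
    intro p hp
    have hp' : p < 122760 := by
      simp only [baseL, List.mem_cons, List.not_mem_nil, or_false] at hp
      omega
    have h1 := act_ev v ⟨p, hp'⟩
    rw [he, act_ev] at h1
    simp only at h1
    rw [h1]
    simp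
  rw [h] at this
  simp at this

theorem evalW_subst (f : Gen → List (Gen × Bool)) (w : List (Gen × Bool)) :
    evalW (fun a => ev (f a)) w = ev (substW f w) := by
  induction w with
  | nil => rw [substW, List.flatMap_nil, ev_nil, evalW_eq_prod]; rfl
  | cons x w ih =>
    rw [evalW_eq_prod] at ih
    rw [substW, List.flatMap_cons, ev_append, evalW_eq_prod, List.map_cons, List.prod_cons, ih, substW]
    congr 1
    rcases x with ⟨a, _ | _⟩ <;> simp [ev_invW]

theorem map_evalW_ON {M : Type*} [Group M] (φ : G0 →* M) (w : List (Gen × Bool)) :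
    φ (ev w) = evalW (fun a => φ (PresentedGroup.of (rels := RON) a)) w := by
  rw [ev, evalW_eq_prod, evalW_eq_prod, map_list_prod, List.map_map]
  congr 1
  refine List.map_congr_left fun x _ => ?_
  rcases x with ⟨a, _ | _⟩ <;> simp

/-! ### Centralisers -/

theorem fix_of_commute {g : G0} {w : List (Gen × Bool)} (hg : g * ev w = ev w * g) {p : Fin 122760}
    (hp : btr w p = p) : btr w (act g p : Fin 122760) = ((act g p : Fin 122760) : Nat) := by
  rw [← act_ev, ← Equiv.Perm.mul_apply, ← map_mul, ← hg, map_mul, Equiv.Perm.mul_apply]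
  congr 2
  exact Fin.ext (by rw [act_ev, hp])

theorem btr_zero {w : List (Gen × Bool)} (h : noG w = true) : btr w ((0 : Fin 122760) : Nat) = ((0 : Fin 122760) : Nat) := by
  have hmem : ev w ∈ Hs := by
    rw [← toH_ev6 w h]; exact Subtype.coe_prop _
  obtain ⟨e, he, he0⟩ := CfsgLib.SporRecognition.Cert.ON122760.certified.exists_equiv
  have h1 := he (ev w) ((1 : G0) : G0 ⧸ wordSubgroup RON CfsgLib.SporRecognition.Cert.ON122760.subW)
  rw [MulAction.Quotient.smul_coe, smul_eq_mul, mul_one, QuotientGroup.eq.mpr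
    (show (ev w)⁻¹ * (1 : G0) ∈ wordSubgroup RON CfsgLib.SporRecognition.Cert.ON122760.subW by
      rw [mul_one]; exact inv_mem hmem), he0] at h1
  rw [← act_ev]
  exact congrArg Fin.val h1.symm

theorem cent_a (g : G0) (hg : g * ev wA = ev wA * g) : ∃ i < 19, g = ev (powAW.getD i []) ∧ g = ev wA ^ i := by
  have h0 : act g 0 = 0 := by
    have h1 := fix_of_commute hg (btr_zero certA.no_g.1)
    have h2 := allBelow_spec fixA _ (act g 0).2
    rw [fixAStep, h1] at h2
    simp at h2
    exact h2
  obtain ⟨w, hw, rfl⟩ := certA.mem pA pA (List.range 19) h0 hg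
  obtain ⟨i, hi, rfl⟩ := List.getElem_of_mem hw
  have hi' : i < 19 := by
    have : powAW.length = 19 := by decide
    omega
  refine ⟨i, hi', by rw [List.getD_eq_getElem _ _ hi], ?_⟩
  have h := List.all_eq_true.mp powA_list i (List.mem_range.mpr hi')
  rw [List.getD_eq_getElem _ _ hi] at h
  rw [ev_eq h, ev_flatten_replicate]

theorem cent_b (g : G0) (hg : g * ev wB = ev wB * g) : ∃ i < 72, g = ev (elsW.getD i []) := by
  have h1 := fix_of_commute hg (btr_zero certB.no_g.1)
  have h2 : fixBStep (act g 0 : Fin 122760) = true := by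
    rcases Nat.lt_or_ge ((act g 0 : Fin 122760) : Nat) 61440 with hlt | hge
    · exact fixB1 _ (Nat.zero_le _) hlt (act g 0).2
    · exact fixB2 _ hge (lt_of_lt_of_le (act g 0).2 (by norm_num)) (act g 0).2
  have hb : ∀ x : Nat, Nat.beq x x = true := fun x => by simp
  simp only [fixBStep, h1, hb, Bool.not_true, Bool.false_or, List.any_eq_true, List.mem_append] at h2
  obtain ⟨e, he, hef⟩ := h2
  have hef' : e.1 = ((act g 0 : Fin 122760) : Nat) := Nat.eq_of_beq_eq_true (by simpa using hef)
  rcases he with he | he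
  · -- in the orbit of the centraliser
    have h := List.all_eq_true.mp reps_ok e he
    rw [Bool.and_eq_true] at h
    have hc : ev (toW e.2) * ev wB = ev wB * ev (toW e.2) := by rw [← ev_append, ← ev_append, ev_eq h.1]
    have hk0 : act ((ev (toW e.2))⁻¹ * g) 0 = 0 := by
      rw [map_mul, map_inv, Equiv.Perm.mul_apply, Equiv.Perm.inv_eq_iff_eq]
      refine Fin.ext ?_
      rw [act_ev, ← hef']
      exact (Nat.eq_of_beq_eq_true h.2).symm
    have hkc : (ev (toW e.2))⁻¹ * g * ev wB = ev wB * ((ev (toW e.2))⁻¹ * g) := by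
      have e1 : (ev (toW e.2))⁻¹ * ev wB = ev wB * (ev (toW e.2))⁻¹ := by
        rw [inv_mul_eq_iff_eq_mul, ← mul_assoc, hc, mul_inv_cancel_right]
      rw [mul_assoc, hg, ← mul_assoc, e1, mul_assoc]
    obtain ⟨w, hw, hk⟩ := certB.mem pB pB (List.range 6) hk0 hkc
    obtain ⟨h', hh', rfl⟩ := List.mem_map.mp hw
    have hmem : toW e.2 ++ toW h' ∈ elsW :=
      List.mem_flatMap.mpr ⟨e, he, List.mem_map.mpr ⟨h', hh', rfl⟩⟩
    obtain ⟨i, hi, hie⟩ := List.getElem_of_mem hmem
    refine ⟨i, ?_, ?_⟩
    · have : elsW.length = 72 := by decide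
      omega
    · rw [List.getD_eq_getElem _ _ hi, hie, ev_append, ← hk, mul_inv_cancel_left]
  · -- the other fixed points
    exfalso
    have h := List.all_eq_true.mp other_ok e he
    rw [Bool.and_eq_true] at h
    have hF := wF_ok
    rw [Bool.and_eq_true] at hF
    have hd : ev (toW e.2) * ev wB = ev wB * ev (toW e.2) := by rw [← ev_append, ← ev_append, ev_eq h.1]
    have hk0 : act ((ev wF)⁻¹ * ev (toW e.2) * g) 0 = 0 := by
      rw [map_mul, map_mul, map_inv, Equiv.Perm.mul_apply, Equiv.Perm.mul_apply, Equiv.Perm.inv_eq_iff_eq]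
      refine Fin.ext ?_
      rw [act_ev, act_ev, ← hef', Nat.eq_of_beq_eq_true h.2]
      exact (Nat.eq_of_beq_eq_true hF.1).symm
    have hconj : (ev wF)⁻¹ * ev wB * ev wF = ev wQ := by
      rw [← ev_invW, ← ev_append, ← ev_append, ev_eq hF.2]
    have hkc : (ev wF)⁻¹ * ev (toW e.2) * g * ev wB = ev wQ * ((ev wF)⁻¹ * ev (toW e.2) * g) := by
      calc (ev wF)⁻¹ * ev (toW e.2) * g * ev wB = (ev wF)⁻¹ * ev (toW e.2) * (g * ev wB) := by group
        _ = (ev wF)⁻¹ * (ev (toW e.2) * ev wB) * g := by rw [hg]; group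
        _ = ((ev wF)⁻¹ * ev wB * ev wF) * ((ev wF)⁻¹ * ev (toW e.2) * g) := by rw [hd]; group
        _ = _ := by rw [hconj]
    obtain ⟨w, hw, -⟩ := certQ.mem pB pQ (List.range 6) hk0 hkc
    simp at hw

/-! ### Automorphisms -/

theorem orderOf_a : orderOf (ev wA) = 19 := by
  refine orderOf_eq_prime ?_ ?_
  · rw [← ev_flatten_replicate, ev_eq powA19, ev_nil]
  · intro he
    refine ev_ne (v := wA) (w := []) (u := 1) (by norm_num) ?_ (by rw [he, ev_nil])
    exact wA_moves

theorem conj_ba : ev wB * ev wA * (ev wB)⁻¹ = ev wA ^ 12 := by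
  rw [← ev_invW, ← ev_append, ← ev_append, ev_eq conj_eq, ev_flatten_replicate]

theorem gen_val (a : Gen) : ev (genW 1 wX a) = PresentedGroup.of (rels := RON) a := by
  rw [← ev_letter]
  exact ev_eq (List.all_eq_true.mp gen_ok a (by cases a <;> simp))

theorem vals_map (ψ : G0 →* G0) (k : Nat) (c : List (Gen × Bool)) (ha : ψ (ev wA) = ev wA ^ k)
    (hb : ψ (ev wB) = ev wB) (hx : ψ (ev wX) = ev c) (z : Nat) :
    ψ (ev ((valsW 1 wX).getD z [])) = ev ((valsW k c).getD z []) := by
  have hai : ψ (ev (List.replicate 1 wA).flatten) = ev (List.replicate k wA).flatten := by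
    rw [ev_flatten_replicate, ev_flatten_replicate, pow_one, ha]
  rcases z with _ | _ | _ | _ | _ | _ | z <;>
    simp only [valsW, List.getD_cons_zero, List.getD_cons_succ, List.getD_nil, ev_invW, map_inv, hai, hb, hx,
      ev_nil, map_one]

theorem psi_gen (ψ : G0 →* G0) (k : Nat) (c : List (Gen × Bool)) (ha : ψ (ev wA) = ev wA ^ k)
    (hb : ψ (ev wB) = ev wB) (hx : ψ (ev wX) = ev c) (a : Gen) :
    ψ (PresentedGroup.of (rels := RON) a) = ev (genW k c a) := by
  rw [← gen_val, genW, genW]
  induction Data.cGen.getD (gIdx a) [] with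
  | nil => simp [ev_nil]
  | cons z l ih =>
    rw [List.flatMap_cons, List.flatMap_cons, ev_append, ev_append, map_mul, ih, vals_map ψ k c ha hb hx]

/-- The images of the generators under the outer automorphism. -/
def sImg (a : Gen) : G0 := ev (genW 1 wS a)

theorem sImg_rels : ∀ r ∈ RON, FreeGroup.lift sImg r = 1 := by
  refine lift_eq_one_of_coxW (edges := Cfsg.Spor.ON.edges)
    (pairs := CfsgLib.SporRecognition.Cert.ON122760.pairs) (extra := Cfsg.Spor.ON.extra)
    (extraW := CfsgLib.SporRecognition.Cert.ON122760.extraW) (by decide +kernel) rfl _ fun w hw => ?_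
  have he : coxW Cfsg.Spor.ON.edges CfsgLib.SporRecognition.Cert.ON122760.pairs
      CfsgLib.SporRecognition.Cert.ON122760.extraW = CfsgLib.SporRecognition.Cert.ON122760.relW := by
    decide +kernel
  rw [he] at hw
  unfold sImg
  rw [evalW_subst, ev_eq (List.all_eq_true.mp sigma_rels w hw), ev_nil]

/-- The endomorphism. -/
def sHom : G0 →* G0 := PresentedGroup.toGroup sImg_rels

theorem sHom_abx : sHom (ev wA) = ev wA ∧ sHom (ev wB) = ev wB ∧ sHom (ev wX) = ev wS := by
  have h := sigma_vals
  simp only [Bool.and_eq_true] at h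
  have key : ∀ w, sHom (ev w) = ev (substW (genW 1 wS) w) := by
    intro w
    rw [map_evalW_ON, ← evalW_subst]
    congr 1
    funext a
    exact PresentedGroup.toGroup.of _
  exact ⟨(key _).trans (ev_eq h.1.1), (key _).trans (ev_eq h.1.2), (key _).trans (ev_eq h.2)⟩

theorem sHom_bijective : Function.Bijective sHom := by
  refine (Finite.injective_iff_bijective).mp ?_
  rw [← MonoidHom.ker_eq_bot_iff]
  refine (simpleON.eq_bot_or_eq_top_of_normal sHom.ker inferInstance).resolve_right fun htop => ?_
  have h : sHom (ev wA) = 1 := MonoidHom.mem_ker.mp (htop ▸ Subgroup.mem_top _)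
  rw [sHom_abx.1] at h
  exact absurd (h ▸ orderOf_a : orderOf (1 : G0) = 19) (by simp)

/-- The outer automorphism. -/
noncomputable def sAut : MulAut G0 := MulEquiv.ofBijective sHom sHom_bijective

theorem eq_of_vals {ψ χ : MulAut G0} {k : Nat} {c : List (Gen × Bool)}
    (ha : ψ (ev wA) = ev wA ^ k) (hb : ψ (ev wB) = ev wB) (hx : ψ (ev wX) = ev c)
    (ha' : χ (ev wA) = ev wA ^ k) (hb' : χ (ev wB) = ev wB) (hx' : χ (ev wX) = ev c) : ψ = χ := by
  have : (ψ : G0 →* G0) = (χ : G0 →* G0) := PresentedGroup.ext fun a => by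
    rw [psi_gen (ψ : G0 →* G0) k c ha hb hx, psi_gen (χ : G0 →* G0) k c ha' hb' hx']
  exact MulEquiv.ext fun g => DFunLike.congr_fun this g

theorem rel_holds (w : List (Gen × Bool)) (hw : w ∈ CfsgLib.SporRecognition.Cert.ON122760.relW) : ev w = 1 := by
  refine act_injective (Equiv.ext fun u => Fin.ext ?_)
  rw [act_ev, map_one, btr, CfsgLib.SporRecognition.Cert.ON122760.relW_ok w hw u u.2]
  rfl

theorem natCard_out_ON : Nat.card (Cfsg.Out G0) = 2 := by
  refine natCard_out_eq_two sAut ?_ fun φ => ?_
  · rintro ⟨g, hg⟩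
    have hga : g * ev wA = ev wA * g := by
      have := DFunLike.congr_fun hg (ev wA)
      rw [MulAut.conj_apply, show sAut (ev wA) = ev wA from sHom_abx.1] at this
      exact mul_inv_eq_iff_eq_mul.mp this
    obtain ⟨i, hi, hgi, -⟩ := cent_a g hga
    have hgb : g * ev wB = ev wB * g := by
      have := DFunLike.congr_fun hg (ev wB)
      rw [MulAut.conj_apply, show sAut (ev wB) = ev wB from sHom_abx.2.1] at this
      exact mul_inv_eq_iff_eq_mul.mp this
    have hnc := List.all_eq_true.mp powA_noncomm i (List.mem_range.mpr hi)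
    rw [Bool.or_eq_true] at hnc
    rcases hnc with hi0 | hnc
    · have hi0' : i = 0 := Nat.eq_of_beq_eq_true hi0
      subst hi0'
      have h1 : g = 1 := by
        rw [hgi, ← ev_nil]
        exact ev_eq (by decide +kernel)
      subst h1
      have := DFunLike.congr_fun hg (ev wX)
      rw [MulAut.conj_apply, show sAut (ev wX) = ev wS from sHom_abx.2.2] at this
      exact ev_ne_of_sameW wS_ne (by rw [← this]; group)
    · refine ev_ne_of_sameW (by rw [Bool.not_eq_true'] at hnc; exact hnc) ?_
      rw [ev_append, ev_append, ← hgi, hgb]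
  · obtain ⟨g, hgb, k, hk, hga⟩ := exists_normalised_pow (p := 19) (r := 12) orderOf_a
      (by rw [card_ON]; norm_num) conj_ba
      (fun x hx => by obtain ⟨i, -, -, rfl⟩ := cent_a x hx; exact Subgroup.npow_mem_zpowers _ i)
      kL (by decide) (by decide) (by decide) φ
    refine ⟨g, ?_⟩
    set ψ := MulAut.conj g * φ with hψ
    have hxc : ev wX * ev wB = ev wB * ev wX := by rw [← ev_append, ← ev_append, ev_eq wX_comm]
    obtain ⟨i, hi, hψx⟩ := cent_b (ψ (ev wX)) (by
      have := congrArg ψ hxc
      rwa [map_mul, map_mul, hgb] at this)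
    obtain ⟨j, hj, rfl⟩ := List.getElem_of_mem hk
    have hjl : j < 3 := hj
    have hn : j * 72 + i < 216 := by omega
    have hcov := allBelow_spec covered _ hn
    simp only [Bool.or_eq_true, Nat.beq_eq, List.any_eq_true] at hcov
    rcases hcov with (hX | hS) | ⟨e, he, hen⟩
    · have hX' : j * 72 + i = Data.iX := by simpa using hX
      obtain ⟨rfl, rfl⟩ : j = 0 ∧ i = Data.iX := by
        simp only [Data.iX] at hX' ⊢
        omega
      left
      refine eq_of_vals (k := 1) (c := wX) hga hgb (hψx.trans (ev_eq elsX)) (by rw [pow_one]; rfl) rfl rfl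
    · have hS' : j * 72 + i = Data.iS := by simpa using hS
      obtain ⟨rfl, rfl⟩ : j = 0 ∧ i = Data.iS := by
        simp only [Data.iS] at hS' ⊢
        omega
      right
      exact eq_of_vals (k := 1) (c := wS) hga hgb hψx (by rw [pow_one]; exact sHom_abx.1) sHom_abx.2.1 sHom_abx.2.2
    · exfalso
      have hen' : e.1 = j * 72 + i := by simpa using hen
      have hb := List.all_eq_true.mp break_ok e he
      rw [breakStep, Bool.and_eq_true, Nat.blt_eq, Bool.not_eq_true'] at hb
      rw [show e.1 / 72 = j by omega, show e.1 % 72 = i by omega, List.getD_eq_getElem _ _ hj] at hb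
      set rw_ := CfsgLib.SporRecognition.Cert.ON122760.relW.getD e.2.1 [] with hrw
      have h1 : ev rw_ = 1 := by
        rcases Nat.lt_or_ge e.2.1 CfsgLib.SporRecognition.Cert.ON122760.relW.length with hl | hl
        · rw [hrw, List.getD_eq_getElem _ _ hl]
          exact rel_holds _ (List.getElem_mem hl)
        · rw [hrw, List.getD_eq_default _ _ hl, ev_nil]
      have h2 : ev (substW (genW kL[j] (elsW.getD i [])) rw_) = 1 := by
        rw [← map_one (ψ : G0 →* G0), ← h1, map_evalW_ON, ← evalW_subst]
        congr 1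
        funext a
        exact (psi_gen (ψ : G0 →* G0) kL[j] (elsW.getD i []) hga hgb hψx a).symm
      refine ev_ne (w := []) hb.1 ?_ (h2.trans ev_nil.symm)
      exact hb.2

end CfsgLib.FusionExamples.ONOut
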