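import Cfsg.Agent.Lib.FusionExamples.ONOutModel

/-! The listed elements of O'Nan's group as words and tables. -/

set_option autoImplicit false
set_option maxRecDepth 20000
set_option linter.all false

namespace CfsgLib.FusionExamples.ONOut

open CfsgLib.SporRecognition.CosetCert
open Cfsg.Spor.ON (Gen)

/-- A word from the numbers of its letters. -/
def toW (l : List Nat) : List (Gen × Bool) :=
  l.map fun i => CfsgLib.SporRecognition.Cert.ON122760.lets.getD i (.g, true)

/-- The inverse word. -/
def invW (w : List (Gen × Bool)) : List (Gen × Bool) := FreeGroup.invRev w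

def wA : List (Gen × Bool) := toW Data.cA
def wB : List (Gen × Bool) := toW Data.cB
def wX : List (Gen × Bool) := toW Data.cX
def wF : List (Gen × Bool) := toW Data.cF
def wQ : List (Gen × Bool) := toW Data.cQ

def powAW : List (List (Gen × Bool)) := Data.cPowA.map toW
def hbW : List (List (Gen × Bool)) := Data.cHB.map toW

/-- The centraliser of the second element. -/
def elsW : List (List (Gen × Bool)) :=
  Data.cReps.flatMap fun e => Data.cHB.map fun h => toW e.2 ++ toW h

noncomputable def pA (i u : Nat) : Nat :=
  Nat.land (Nat.shiftRight Data.pwALit (Nat.mul 7 (Nat.add (Nat.mul i 114) u))) 127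
noncomputable def pB (i u : Nat) : Nat :=
  Nat.land (Nat.shiftRight Data.pwBLit (Nat.mul 7 (Nat.add (Nat.mul i 114) u))) 127
noncomputable def pQ (i u : Nat) : Nat :=
  Nat.land (Nat.shiftRight Data.pwQLit (Nat.mul 7 (Nat.add (Nat.mul i 114) u))) 127

/-- The exponents. -/
def kL : List Nat := [1, 2, 4]

/-- The values of the letters of the new generators. -/
def valsW (k : Nat) (c : List (Gen × Bool)) : List (List (Gen × Bool)) :=
  [(List.replicate k wA).flatten, invW (List.replicate k wA).flatten, wB, invW wB, c, invW c]

/-- The number of a generator. -/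
def gIdx : Gen → Nat
  | .g => 0
  | .a => 1
  | .b => 2
  | .c => 3
  | .d => 4
  | .e => 5
  | .f => 6

/-- The image of a generator. -/
def genW (k : Nat) (c : List (Gen × Bool)) (a : Gen) : List (Gen × Bool) :=
  (Data.cGen.getD (gIdx a) []).flatMap fun z => (valsW k c).getD z []

/-- Substitution in a word. -/
def substW (f : Gen → List (Gen × Bool)) (w : List (Gen × Bool)) : List (Gen × Bool) :=
  w.flatMap fun x => bif x.2 then f x.1 else invW (f x.1)

/-- The third generator's image. -/
def wS : List (Gen × Bool) := elsW.getD Data.iS []

/-- The failing relator listed in an entry moves the listed point. -/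
noncomputable def breakStep (e : Nat × Nat × Nat) : Bool :=
  Nat.blt e.2.2 122760 &&
    !(Nat.beq (btr (substW (genW (kL.getD (e.1 / 72) 1) (elsW.getD (e.1 % 72) []))
      (CfsgLib.SporRecognition.Cert.ON122760.relW.getD e.2.1 [])) e.2.2) e.2.2)

/-- Only the base point is fixed by the first element. -/
noncomputable def fixAStep (u : Nat) : Bool := !(Nat.beq (btr wA u) u) || Nat.beq u 0

/-- The listed points are the only ones fixed by the second element. -/
noncomputable def fixBStep (u : Nat) : Bool :=
  !(Nat.beq (btr wB u) u) || (Data.cReps ++ Data.cOther).any fun e => Nat.beq e.1 u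

end CfsgLib.FusionExamples.ONOut
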