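import Cfsg.Agent.Lib.FusionExamples.ONOutDefs

/-! The fixed points of the element of order 19. -/

set_option autoImplicit false
set_option maxRecDepth 40000
set_option linter.all false
set_option Elab.async false

namespace CfsgLib.FusionExamples.ONOut

open CfsgLib.SporRecognition.CosetCert

theorem fixA_c0 : allPow 122760 (fixAStep) 12 0 = true := by decide +kernel
theorem fixA_c1 : allPow 122760 (fixAStep) 12 4096 = true := by decide +kernel
theorem fixA_c2 : allPow 122760 (fixAStep) 12 8192 = true := by decide +kernel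
theorem fixA_c3 : allPow 122760 (fixAStep) 12 12288 = true := by decide +kernel
theorem fixA_c4 : allPow 122760 (fixAStep) 12 16384 = true := by decide +kernel
theorem fixA_c5 : allPow 122760 (fixAStep) 12 20480 = true := by decide +kernel
theorem fixA_c6 : allPow 122760 (fixAStep) 12 24576 = true := by decide +kernel
theorem fixA_c7 : allPow 122760 (fixAStep) 12 28672 = true := by decide +kernel
theorem fixA_c8 : allPow 122760 (fixAStep) 12 32768 = true := by decide +kernel
theorem fixA_c9 : allPow 122760 (fixAStep) 12 36864 = true := by decide +kernel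
theorem fixA_c10 : allPow 122760 (fixAStep) 12 40960 = true := by decide +kernel
theorem fixA_c11 : allPow 122760 (fixAStep) 12 45056 = true := by decide +kernel
theorem fixA_c12 : allPow 122760 (fixAStep) 12 49152 = true := by decide +kernel
theorem fixA_c13 : allPow 122760 (fixAStep) 12 53248 = true := by decide +kernel
theorem fixA_c14 : allPow 122760 (fixAStep) 12 57344 = true := by decide +kernel
theorem fixA_c15 : allPow 122760 (fixAStep) 12 61440 = true := by decide +kernel
theorem fixA_c16 : allPow 122760 (fixAStep) 12 65536 = true := by decide +kernel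
theorem fixA_c17 : allPow 122760 (fixAStep) 12 69632 = true := by decide +kernel
theorem fixA_c18 : allPow 122760 (fixAStep) 12 73728 = true := by decide +kernel
theorem fixA_c19 : allPow 122760 (fixAStep) 12 77824 = true := by decide +kernel
theorem fixA_c20 : allPow 122760 (fixAStep) 12 81920 = true := by decide +kernel
theorem fixA_c21 : allPow 122760 (fixAStep) 12 86016 = true := by decide +kernel
theorem fixA_c22 : allPow 122760 (fixAStep) 12 90112 = true := by decide +kernel
theorem fixA_c23 : allPow 122760 (fixAStep) 12 94208 = true := by decide +kernel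
theorem fixA_c24 : allPow 122760 (fixAStep) 12 98304 = true := by decide +kernel
theorem fixA_c25 : allPow 122760 (fixAStep) 12 102400 = true := by decide +kernel
theorem fixA_c26 : allPow 122760 (fixAStep) 12 106496 = true := by decide +kernel
theorem fixA_c27 : allPow 122760 (fixAStep) 12 110592 = true := by decide +kernel
theorem fixA_c28 : allPow 122760 (fixAStep) 12 114688 = true := by decide +kernel
theorem fixA_c29 : allPow 122760 (fixAStep) 12 118784 = true := by decide +kernel

theorem fixA : allBelow 17 122760 (fixAStep) = true :=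
  allBelow_of_upto (hi := 122880)
    (Upto.trans (mid := 61440) (Upto.trans (mid := 28672) (Upto.trans (mid := 12288) (Upto.trans (mid := 4096) ((Upto.of_pow fixA_c0 (Nat.le_refl _)) : Upto _ _ 0 (0 + 2 ^ 12))
    (Upto.trans (mid := 8192) ((Upto.of_pow fixA_c1 (Nat.le_refl _)) : Upto _ _ 4096 (4096 + 2 ^ 12))
    ((Upto.of_pow fixA_c2 (Nat.le_refl _)) : Upto _ _ 8192 (8192 + 2 ^ 12))))
    (Upto.trans (mid := 20480) (Upto.trans (mid := 16384) ((Upto.of_pow fixA_c3 (Nat.le_refl _)) : Upto _ _ 12288 (12288 + 2 ^ 12))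
    ((Upto.of_pow fixA_c4 (Nat.le_refl _)) : Upto _ _ 16384 (16384 + 2 ^ 12)))
    (Upto.trans (mid := 24576) ((Upto.of_pow fixA_c5 (Nat.le_refl _)) : Upto _ _ 20480 (20480 + 2 ^ 12))
    ((Upto.of_pow fixA_c6 (Nat.le_refl _)) : Upto _ _ 24576 (24576 + 2 ^ 12)))))
    (Upto.trans (mid := 45056) (Upto.trans (mid := 36864) (Upto.trans (mid := 32768) ((Upto.of_pow fixA_c7 (Nat.le_refl _)) : Upto _ _ 28672 (28672 + 2 ^ 12))
    ((Upto.of_pow fixA_c8 (Nat.le_refl _)) : Upto _ _ 32768 (32768 + 2 ^ 12)))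
    (Upto.trans (mid := 40960) ((Upto.of_pow fixA_c9 (Nat.le_refl _)) : Upto _ _ 36864 (36864 + 2 ^ 12))
    ((Upto.of_pow fixA_c10 (Nat.le_refl _)) : Upto _ _ 40960 (40960 + 2 ^ 12))))
    (Upto.trans (mid := 53248) (Upto.trans (mid := 49152) ((Upto.of_pow fixA_c11 (Nat.le_refl _)) : Upto _ _ 45056 (45056 + 2 ^ 12))
    ((Upto.of_pow fixA_c12 (Nat.le_refl _)) : Upto _ _ 49152 (49152 + 2 ^ 12)))
    (Upto.trans (mid := 57344) ((Upto.of_pow fixA_c13 (Nat.le_refl _)) : Upto _ _ 53248 (53248 + 2 ^ 12))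
    ((Upto.of_pow fixA_c14 (Nat.le_refl _)) : Upto _ _ 57344 (57344 + 2 ^ 12))))))
    (Upto.trans (mid := 90112) (Upto.trans (mid := 73728) (Upto.trans (mid := 65536) ((Upto.of_pow fixA_c15 (Nat.le_refl _)) : Upto _ _ 61440 (61440 + 2 ^ 12))
    (Upto.trans (mid := 69632) ((Upto.of_pow fixA_c16 (Nat.le_refl _)) : Upto _ _ 65536 (65536 + 2 ^ 12))
    ((Upto.of_pow fixA_c17 (Nat.le_refl _)) : Upto _ _ 69632 (69632 + 2 ^ 12))))
    (Upto.trans (mid := 81920) (Upto.trans (mid := 77824) ((Upto.of_pow fixA_c18 (Nat.le_refl _)) : Upto _ _ 73728 (73728 + 2 ^ 12))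
    ((Upto.of_pow fixA_c19 (Nat.le_refl _)) : Upto _ _ 77824 (77824 + 2 ^ 12)))
    (Upto.trans (mid := 86016) ((Upto.of_pow fixA_c20 (Nat.le_refl _)) : Upto _ _ 81920 (81920 + 2 ^ 12))
    ((Upto.of_pow fixA_c21 (Nat.le_refl _)) : Upto _ _ 86016 (86016 + 2 ^ 12)))))
    (Upto.trans (mid := 106496) (Upto.trans (mid := 98304) (Upto.trans (mid := 94208) ((Upto.of_pow fixA_c22 (Nat.le_refl _)) : Upto _ _ 90112 (90112 + 2 ^ 12))
    ((Upto.of_pow fixA_c23 (Nat.le_refl _)) : Upto _ _ 94208 (94208 + 2 ^ 12)))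
    (Upto.trans (mid := 102400) ((Upto.of_pow fixA_c24 (Nat.le_refl _)) : Upto _ _ 98304 (98304 + 2 ^ 12))
    ((Upto.of_pow fixA_c25 (Nat.le_refl _)) : Upto _ _ 102400 (102400 + 2 ^ 12))))
    (Upto.trans (mid := 114688) (Upto.trans (mid := 110592) ((Upto.of_pow fixA_c26 (Nat.le_refl _)) : Upto _ _ 106496 (106496 + 2 ^ 12))
    ((Upto.of_pow fixA_c27 (Nat.le_refl _)) : Upto _ _ 110592 (110592 + 2 ^ 12)))
    (Upto.trans (mid := 118784) ((Upto.of_pow fixA_c28 (Nat.le_refl _)) : Upto _ _ 114688 (114688 + 2 ^ 12))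
    ((Upto.of_pow fixA_c29 (Nat.le_refl _)) : Upto _ _ 118784 (118784 + 2 ^ 12)))))))
    (by decide) (by decide)

end CfsgLib.FusionExamples.ONOut
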