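import Cfsg.Agent.S1693
import Cfsg.Agent.Lib.SporadicOut.Auto
import Cfsg.Agent.Lib.SporRecognition.ONSmall.Base
import Cfsg.Agent.Lib.FusionExamples.ONOutData

/-!
O'Nan's group through its base and through the points and lines of the plane of order seven: when two elements
agree, and a certified search for the elements of the point stabiliser which carry one listed element to another.
-/

set_option autoImplicit false
set_option maxRecDepth 20000
set_option linter.all false

namespace CfsgLib.FusionExamples.ONOut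

open CfsgLib.SporRecognition.CosetCert CfsgLib.SporadicOut
open CfsgLib.SporRecognition.ONSub (SL invT onSide side Induces pvec)
open Cfsg.Spor.ON (Gen)
open scoped Matrix

abbrev RON : Set (FreeGroup Gen) := Cfsg.Agent.S1693.RON

abbrev G0 : Type := PresentedGroup RON

abbrev P6 : Type := Cfsg.Agent.S1693.P6

theorem simpleON : IsSimpleGroup G0 := (Cfsg.Agent.S1699.result).1

theorem card_ON : Nat.card G0 = 460815505920 := (Cfsg.Agent.S1699.result).2

instance finiteON : Finite G0 := Nat.finite_of_card_ne_zero (by rw [card_ON]; decide)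

/-- The action on the cosets. -/
noncomputable abbrev act : G0 →* Equiv.Perm (Fin 122760) :=
  CfsgLib.SporRecognition.Cert.ON122760.certified.hom

/-- The value of a word. -/
def ev (w : List (Gen × Bool)) : G0 := evalW (PresentedGroup.of (rels := RON)) w

theorem act_injective : Function.Injective act :=
  hom_injective CfsgLib.SporRecognition.Cert.ON122760.certified simpleON (by decide)

/-- The trace of a word on the cosets. -/
noncomputable def btr (w : List (Gen × Bool)) (u : Nat) : Nat :=
  trace (wordTabs CfsgLib.SporRecognition.Cert.ON122760.tabs w) u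

theorem act_ev (w : List (Gen × Bool)) (u : Fin 122760) : ((act (ev w) u : Fin 122760) : Nat) = btr w u := by
  rw [act, ev, CfsgLib.SporRecognition.CosetCert.Certified.hom_evalW, evalW_tabPerm]
  rfl

theorem ev_append (v w : List (Gen × Bool)) : ev (v ++ w) = ev v * ev w := evalW_append _ _ _

theorem ev_nil : ev [] = 1 := by simp [ev, evalW_eq_prod]

theorem ev_flatten_replicate (w : List (Gen × Bool)) (k : Nat) : ev (List.replicate k w).flatten = ev w ^ k := by
  induction k with
  | zero => rw [List.replicate_zero, List.flatten_nil, ev_nil, pow_zero]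
  | succ k ih => rw [List.replicate_succ, List.flatten_cons, ev_append, ih, pow_succ']

/-- The base. -/
abbrev basePts : List (Fin 122760) :=
  [⟨0, by decide⟩, ⟨1, by decide⟩, ⟨2, by decide⟩, ⟨7, by decide⟩, ⟨21, by decide⟩]

/-- The base points as numbers. -/
def baseL : List Nat := [0, 1, 2, 7, 21]

/-- The five base points determine an element. -/
theorem eq_of_base {g h : G0} (hb : ∀ p ∈ basePts, act g p = act h p) : g = h := by
  refine act_injective (mul_left_cancel (a := (act h)⁻¹) ?_)
  rw [inv_mul_cancel]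
  have hQ : ∀ t ∈ CfsgLib.SporRecognition.Cert.ON122760.seedT, Realised act.range t := by
    intro t ht
    obtain ⟨j, hj, rfl⟩ := List.getElem_of_mem ht
    have hj' : j < CfsgLib.SporRecognition.Cert.ON122760.seedW.length := hj
    refine ⟨_, ⟨ev CfsgLib.SporRecognition.Cert.ON122760.seedW[j], rfl⟩, fun u => ?_⟩
    rw [act_ev, btr, ← (CfsgLib.SporRecognition.Cert.ON122760.seed_ok j hj' u u.2).1, sel_eq,
      List.getElem?_eq_getElem hj]
    rfl
  have h1 := CfsgLib.SporRecognition.ONSmall.lower_base act.range hQ (Nat.card (ptsStab act.range basePts)) le_rfl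
  have h2 : Nat.card act.range = 460815505920 := by
    rw [← card_ON]; exact (Nat.card_congr (MonoidHom.ofInjective act_injective).toEquiv).symm
  rw [h2] at h1
  have h3 : Nat.card (ptsStab act.range basePts) ≤ 1 :=
    Nat.le_of_mul_le_mul_left (by simpa using h1) (show 0 < 460815505920 by norm_num)
  have hm : (act h)⁻¹ * act g ∈ ptsStab act.range basePts :=
    ⟨mul_mem (inv_mem ⟨h, rfl⟩) ⟨g, rfl⟩, fun p hp => by
      rw [Equiv.Perm.mul_apply, hb p hp, Equiv.Perm.inv_def, Equiv.symm_apply_apply]⟩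
  haveI : Subsingleton (ptsStab act.range basePts) := (Finite.card_le_one_iff_subsingleton).mp h3
  exact congrArg Subtype.val (Subsingleton.elim (⟨_, hm⟩ : ptsStab act.range basePts) 1)

/-- Two words have the same value when they agree on the base. -/
noncomputable def sameW (v w : List (Gen × Bool)) : Bool := baseL.all fun p => Nat.beq (btr v p) (btr w p)

theorem ev_eq {v w : List (Gen × Bool)} (h : sameW v w = true) : ev v = ev w := by
  refine eq_of_base fun p hp => Fin.ext ?_
  rw [act_ev, act_ev]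
  have hp' : (p : Nat) ∈ baseL := by
    simp only [basePts, List.mem_cons, List.not_mem_nil, or_false] at hp
    rcases hp with rfl | rfl | rfl | rfl | rfl <;> simp [baseL]
  exact Nat.eq_of_beq_eq_true (List.all_eq_true.mp h _ hp')

theorem ev_ne {v w : List (Gen × Bool)} {u : Nat} (hu : u < 122760) (h : Nat.beq (btr v u) (btr w u) = false) :
    ev v ≠ ev w := by
  intro he
  have h1 := act_ev v ⟨u, hu⟩
  rw [he, act_ev] at h1
  simp only at h1
  rw [h1] at h
  simp at h

/-! ### The stabiliser of the base point -/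

/-- The subgroup on `a, …, f`. -/
abbrev Hs : Subgroup G0 := Cfsg.Agent.S1693.H

theorem mem_Hs_of_fix {g : G0} (h0 : act g 0 = 0) : g ∈ Hs := by
  obtain ⟨e, he, he0⟩ := CfsgLib.SporRecognition.Cert.ON122760.certified.exists_equiv
  have h1 := he g ((1 : G0) : G0 ⧸ wordSubgroup RON CfsgLib.SporRecognition.Cert.ON122760.subW)
  rw [he0, h0, ← he0, e.injective.eq_iff, MulAction.Quotient.smul_coe, smul_eq_mul, mul_one,
    QuotientGroup.eq, mul_one, Subgroup.inv_mem_iff] at h1
  exact h1

/-- The trace of a word on points and lines. -/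
noncomputable def str (w : List (Gen × Bool)) (u : Nat) : Nat :=
  trace (wordTabs CfsgLib.SporRecognition.Cert.ONL37.tabs w) u

/-- No letter `g`. -/
def noG (w : List (Gen × Bool)) : Bool := w.all fun x => decide (x.1 ≠ Gen.g)

/-- The value of a word in the model. -/
def ev6 (w : List (Gen × Bool)) : P6 :=
  evalW (PresentedGroup.of (rels := CfsgLib.SporRecognition.ONSub.R6)) w

theorem toH_ev6 (w : List (Gen × Bool)) (hw : noG w = true) :
    ((Cfsg.Agent.S1693.toH (ev6 w) : Hs) : G0) = ev w := by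
  have h : Cfsg.Agent.S1693.toH (ev6 w) = evalW Cfsg.Agent.S1693.gh w := by
    rw [ev6, evalW_eq_prod, evalW_eq_prod, map_list_prod, List.map_map]
    congr 1
    refine List.map_congr_left fun x _ => ?_
    rcases x with ⟨a, _ | _⟩ <;> simp [Cfsg.Agent.S1693.toH]
  rw [h]
  exact Cfsg.Agent.S1693.coe_evalW_gh w hw

theorem toH_bijective : Function.Bijective Cfsg.Agent.S1693.toH := by
  obtain ⟨hfin, hc, -⟩ := Cfsg.Agent.S1693.card_P6
  haveI := hfin
  exact (Nat.bijective_iff_surjective_and_card _).mpr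
    ⟨Cfsg.Agent.S1693.toH_surjective, by rw [hc, Cfsg.Agent.S1693.card_H]⟩

theorem θ_injective : Function.Injective Cfsg.Agent.S1693.θ := Cfsg.Agent.S1693.card_P6.2.2

/-! ### Incidence -/

/-- Incidence of a point and a line. -/
noncomputable def inc (u v : Nat) : Nat :=
  Nat.land (Nat.shiftRight Data.incLit (Nat.add (Nat.mul u 114) v)) 1

/-- The generators preserve incidence at `u`. -/
noncomputable def incStep (u : Nat) : Bool :=
  allBelow 7 114 fun v => ([.g, .a, .b, .c, .d, .e, .f] : List Gen).all fun a =>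
    Nat.beq (inc (CfsgLib.SporRecognition.Cert.ONL37.tabs a true u)
      (CfsgLib.SporRecognition.Cert.ONL37.tabs a true v)) (inc u v)

theorem inc_gen : allBelow 7 114 incStep = true := by decide +kernel

theorem inc_inv (x : P6) : ∀ u v : Fin 114,
    inc (Cfsg.Agent.S1693.θ x u : Fin 114) (Cfsg.Agent.S1693.θ x v : Fin 114) = inc u v := by
  have hx : x ∈ Subgroup.closure (Set.range (PresentedGroup.of (rels := CfsgLib.SporRecognition.ONSub.R6))) := by
    rw [PresentedGroup.closure_range_of]; trivial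
  induction hx using Subgroup.closure_induction with
  | mem y hy =>
    obtain ⟨a, rfl⟩ := hy
    intro u v
    rw [show Cfsg.Agent.S1693.θ (PresentedGroup.of a) =
      tabPerm CfsgLib.SporRecognition.Cert.ONL37.tablesOK a from PresentedGroup.toGroup.of _,
      tabPerm_val, tabPerm_val]
    have h := List.all_eq_true.mp (allBelow_spec (allBelow_spec inc_gen u u.2) v v.2) a
      (by cases a <;> simp)
    exact Nat.eq_of_beq_eq_true h
  | one => intro u v; rw [map_one]; rfl
  | mul p q _ _ hp hq => intro u v; rw [map_mul, Equiv.Perm.mul_apply, Equiv.Perm.mul_apply, hp, hq]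
  | inv p _ hp =>
    intro u v
    have h := hp ((Cfsg.Agent.S1693.θ p)⁻¹ u) ((Cfsg.Agent.S1693.θ p)⁻¹ v)
    rw [Equiv.Perm.inv_def, Equiv.apply_symm_apply, Equiv.apply_symm_apply] at h
    rw [map_inv, Equiv.Perm.inv_def]
    exact h.symm

/-! ### An invariant of a triangle and a line -/

/-- A coordinate. -/
noncomputable def cd (u k : Nat) : Nat := CfsgLib.SporRecognition.Cert.ONL37.coord (Nat.mod u 57) k

/-- The determinant of three points, modulo 7. -/
noncomputable def detN (p q r : Nat) : Nat :=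
  (cd p 0 * (cd q 1 * cd r 2 + 6 * (cd q 2 * cd r 1)) + cd p 1 * (cd q 2 * cd r 0 + 6 * (cd q 0 * cd r 2)) +
    cd p 2 * (cd q 0 * cd r 1 + 6 * (cd q 1 * cd r 0))) % 7

/-- The value of a line at a point, modulo 7. -/
noncomputable def dotN (l p : Nat) : Nat := (cd l 0 * cd p 0 + cd l 1 * cd p 1 + cd l 2 * cd p 2) % 7

/-- The invariant, modulo 7. -/
noncomputable def invFour (p l q r : Nat) : Nat :=
  (detN p q r ^ 2 * dotN l p * dotN l q * dotN l r) ^ 2 % 7

/-- The determinant of three vectors. -/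
def det3 (a b c : Fin 3 → ZMod 7) : ZMod 7 :=
  a 0 * (b 1 * c 2 - b 2 * c 1) + a 1 * (b 2 * c 0 - b 0 * c 2) + a 2 * (b 0 * c 1 - b 1 * c 0)

/-- The invariant. -/
noncomputable def fourZ (p l q r : Nat) : ZMod 7 :=
  (det3 (pvec p) (pvec q) (pvec r) ^ 2 * (pvec l ⬝ᵥ pvec p) * (pvec l ⬝ᵥ pvec q) * (pvec l ⬝ᵥ pvec r)) ^ 2

theorem six_eq : (6 : ZMod 7) = -1 := by decide

theorem invFour_cast (p l q r : Nat) : (invFour p l q r : ZMod 7) = fourZ p l q r := by
  have hd : ∀ p q r, (detN p q r : ZMod 7) = det3 (pvec p) (pvec q) (pvec r) := by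
    intro p q r
    simp only [detN, ZMod.natCast_mod, Nat.cast_add, Nat.cast_mul, Nat.cast_ofNat, det3, pvec, cd,
      show ∀ a b, Nat.mod a b = a % b from fun _ _ => rfl, Fin.val_zero, Fin.val_one, Fin.val_two]
    rw [six_eq]
    ring
  have hl : ∀ l p, (dotN l p : ZMod 7) = pvec l ⬝ᵥ pvec p := by
    intro l p
    simp only [dotN, ZMod.natCast_mod, Nat.cast_add, Nat.cast_mul, dotProduct, Fin.sum_univ_three, pvec, cd,
      show ∀ a b, Nat.mod a b = a % b from fun _ _ => rfl, Fin.val_zero, Fin.val_one, Fin.val_two]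
  simp only [invFour, ZMod.natCast_mod, Nat.cast_mul, Nat.cast_pow, fourZ, hd, hl]

theorem det3_mulVec (M : SL) (a b c : Fin 3 → ZMod 7) :
    det3 (M.1 *ᵥ a) (M.1 *ᵥ b) (M.1 *ᵥ c) = det3 a b c := by
  have h : det3 (M.1 *ᵥ a) (M.1 *ᵥ b) (M.1 *ᵥ c) = M.1.det * det3 a b c := by
    simp only [det3, Matrix.det_fin_three, Matrix.mulVec, dotProduct, Fin.sum_univ_three]
    ring
  rw [h, M.2, one_mul]

theorem dot_invT (M : SL) (l p : Fin 3 → ZMod 7) : ((invT M).1 *ᵥ l) ⬝ᵥ (M.1 *ᵥ p) = l ⬝ᵥ p := by
  have e : (invT M).1 = (M⁻¹ : SL).1ᵀ := rfl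
  rw [e, Matrix.mulVec_transpose, Matrix.dotProduct_mulVec, Matrix.vecMul_vecMul,
    ← Matrix.SpecialLinearGroup.coe_mul, inv_mul_cancel]
  simp

theorem det3_smul (a b c : Fin 3 → ZMod 7) (x y z : ZMod 7) :
    det3 (x • a) (y • b) (z • c) = x * y * z * det3 a b c := by
  simp only [det3, Pi.smul_apply, smul_eq_mul]
  ring

theorem pow_six_eq_one : ∀ c : ZMod 7, c ≠ 0 → c ^ 6 = 1 := by decide

theorem fourZ_inv {ε : Bool} {A : SL} {π : Equiv.Perm (Fin 114)} (hA : Induces ε A π) (p l q r : Fin 114)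
    (hp : side p = false) (hl : side l = true) (hq : side q = false) (hr : side r = false) :
    fourZ (π p : Fin 114) (π l : Fin 114) (π q : Fin 114) (π r : Fin 114) = fourZ p l q r := by
  obtain ⟨-, cp, hcp, ep⟩ := hA p
  obtain ⟨-, cl, hcl, el⟩ := hA l
  obtain ⟨-, cq, hcq, eq⟩ := hA q
  obtain ⟨-, cr, hcr, er⟩ := hA r
  rw [hp] at ep
  rw [hl] at el
  rw [hq] at eq
  rw [hr] at er
  simp only [onSide, cond_true, cond_false] at ep el eq er
  have hd : det3 (pvec p) (pvec q) (pvec r) =
      cp * cq * cr * det3 (pvec (π p : Fin 114)) (pvec (π q : Fin 114)) (pvec (π r : Fin 114)) := by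
    rw [← det3_mulVec A, ep, eq, er, det3_smul]
  have hdot : ∀ (t : Fin 114) (ct : ZMod 7), A.1 *ᵥ pvec t = ct • pvec (π t : Fin 114) →
      pvec l ⬝ᵥ pvec t = cl * ct * (pvec (π l : Fin 114) ⬝ᵥ pvec (π t : Fin 114)) := by
    intro t ct et
    rw [← dot_invT A, el, et, smul_dotProduct, dotProduct_smul, smul_eq_mul, smul_eq_mul]
    ring
  have hC : (cp * cq * cr * cl) ^ 6 = 1 := pow_six_eq_one _ (by simp [hcp, hcq, hcr, hcl])
  rw [fourZ, fourZ, hd, hdot p cp ep, hdot q cq eq, hdot r cr er]
  generalize det3 (pvec (π p : Fin 114)) (pvec (π q : Fin 114)) (pvec (π r : Fin 114)) = D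
  generalize pvec (π l : Fin 114) ⬝ᵥ pvec (π p : Fin 114) = X
  generalize pvec (π l : Fin 114) ⬝ᵥ pvec (π q : Fin 114) = Y
  generalize pvec (π l : Fin 114) ⬝ᵥ pvec (π r : Fin 114) = Z
  linear_combination -((D ^ 2 * X * Y * Z) ^ 2) * hC

/-! ### The search -/

/-- A code for four points. -/
noncomputable def code4 (a b c d : Nat) : Nat :=
  Nat.add (Nat.mul (Nat.add (Nat.mul (Nat.add (Nat.mul a 114) b) 114) c) 114) d

variable (P Q : Nat → Nat → Nat) (I : List Nat)

/-- Compatibility of two images. -/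
noncomputable def compat (bk qk bj tj : Nat) : Bool :=
  I.all fun i => Nat.beq (inc (P i bk) bj) (inc (Q i qk) tj)

/-- The last level. -/
noncomputable def lev3 (p l q r : Nat) (leaves : List Nat) (t0 t1 t2 t3 : Nat) : Bool :=
  !(compat P Q I r t3 p t0 && compat P Q I r t3 l t1 && compat P Q I r t3 q t2 && compat P Q I r t3 r t3) ||
    !(Nat.beq (invFour t0 t1 t2 t3) (invFour p l q r)) || leaves.any fun s => Nat.beq s (code4 t0 t1 t2 t3)

/-- The third level. -/
noncomputable def lev2 (p l q r : Nat) (leaves : List Nat) (t0 t1 t2 : Nat) : Bool :=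
  !(compat P Q I q t2 p t0 && compat P Q I q t2 l t1 && compat P Q I q t2 q t2) ||
    allBelow 7 114 (lev3 P Q I p l q r leaves t0 t1 t2)

/-- The second level. -/
noncomputable def lev1 (p l q r : Nat) (leaves : List Nat) (t0 t1 : Nat) : Bool :=
  !(compat P Q I l t1 p t0 && compat P Q I l t1 l t1) || allBelow 7 114 (lev2 P Q I p l q r leaves t0 t1)

/-- The first level. -/
noncomputable def lev0 (p l q r : Nat) (leaves : List Nat) (t0 : Nat) : Bool :=
  !(compat P Q I p t0 p t0) || allBelow 7 114 (lev1 P Q I p l q r leaves t0)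

theorem compat_of {π : Equiv.Perm (Fin 114)} (hinc : ∀ u v : Fin 114, inc (π u : Fin 114) (π v : Fin 114) = inc u v)
    (hcomm : ∀ i ∈ I, ∀ u : Fin 114, ∃ v : Fin 114, P i u = (v : Nat) ∧ Q i (π u : Fin 114) = ((π v : Fin 114) : Nat))
    (u w : Fin 114) : compat P Q I u (π u : Fin 114) w (π w : Fin 114) = true := by
  rw [compat, List.all_eq_true]
  intro i hi
  obtain ⟨v, hv, hv'⟩ := hcomm i hi u
  rw [hv, hv', hinc, Nat.beq_eq]

theorem search_sound {π : Equiv.Perm (Fin 114)} (hinc : ∀ u v : Fin 114, inc (π u : Fin 114) (π v : Fin 114) = inc u v)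
    (hcomm : ∀ i ∈ I, ∀ u : Fin 114, ∃ v : Fin 114, P i u = (v : Nat) ∧ Q i (π u : Fin 114) = ((π v : Fin 114) : Nat))
    (p l q r : Fin 114) (hinv : invFour (π p : Fin 114) (π l : Fin 114) (π q : Fin 114) (π r : Fin 114) = invFour p l q r)
    (leaves : List Nat) (h : ∀ t0, t0 < 114 → lev0 P Q I p l q r leaves t0 = true) :
    code4 (π p : Fin 114) (π l : Fin 114) (π q : Fin 114) (π r : Fin 114) ∈ leaves := by
  have hc := compat_of P Q I hinc hcomm
  have h0 := h _ (π p).2
  simp only [lev0, hc, Bool.not_true, Bool.false_or] at h0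
  have h1 := allBelow_spec h0 _ (π l).2
  simp only [lev1, hc, Bool.and_self, Bool.not_true, Bool.false_or] at h1
  have h2 := allBelow_spec h1 _ (π q).2
  simp only [lev2, hc, Bool.and_self, Bool.not_true, Bool.false_or] at h2
  have h3 := allBelow_spec h2 _ (π r).2
  have hb : ∀ x : Nat, Nat.beq x x = true := fun x => by simp
  simp only [lev3, hc, hinv, hb, Bool.and_self, Bool.not_true, Bool.false_or,
    List.any_eq_true] at h3
  obtain ⟨s, hs, he⟩ := h3
  have he' : s = code4 (π p : Fin 114) (π l : Fin 114) (π q : Fin 114) (π r : Fin 114) := Nat.eq_of_beq_eq_true he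
  exact he' ▸ hs

/-- A step of the closure: the point with the two given incidences is the only one. -/
noncomputable def uniq (u x y : Nat) : Bool :=
  Nat.beq (inc x u) 1 && Nat.beq (inc y u) 1 &&
    allBelow 7 114 fun v => !(Nat.beq (inc x v) 1 && Nat.beq (inc y v) 1) || Nat.beq v u

/-- The closure of a list. -/
noncomputable def grow : List (Nat × Nat × Nat) → List Nat → Bool
  | [], acc => allBelow 7 114 fun v => acc.contains v
  | (u, x, y) :: rest, acc =>
      Nat.blt x 114 && Nat.blt y 114 && Nat.blt u 114 && acc.contains x && acc.contains y && uniq u x y &&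
        grow rest (u :: acc)

theorem grow_sound {π : Equiv.Perm (Fin 114)} (hinc : ∀ u v : Fin 114, inc (π u : Fin 114) (π v : Fin 114) = inc u v) :
    ∀ (steps : List (Nat × Nat × Nat)) (acc : List Nat), grow steps acc = true →
      (∀ u : Fin 114, (u : Nat) ∈ acc → π u = u) → π = 1 := by
  intro steps
  induction steps with
  | nil =>
    intro acc h hfix
    refine Equiv.ext fun u => hfix u ?_
    simpa using allBelow_spec h u u.2
  | cons s rest ih =>
    obtain ⟨u, x, y⟩ := s
    intro acc h hfix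
    simp only [grow, Bool.and_eq_true, Nat.blt_eq, List.contains_iff_mem] at h
    obtain ⟨⟨⟨⟨⟨⟨hx, hy⟩, hu⟩, hxa⟩, hya⟩, huq⟩, hrest⟩ := h
    refine ih _ hrest fun v hv => ?_
    rcases List.mem_cons.mp hv with hv | hv
    · simp only [uniq, Bool.and_eq_true] at huq
      obtain ⟨⟨h1, h2⟩, h3⟩ := huq
      have hxf := hfix ⟨x, hx⟩ hxa
      have hyf := hfix ⟨y, hy⟩ hya
      have e1 := hinc ⟨x, hx⟩ v
      have e2 := hinc ⟨y, hy⟩ v
      rw [hxf] at e1
      rw [hyf] at e2
      simp only [hv] at e1 e2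
      rw [Nat.eq_of_beq_eq_true h1] at e1
      rw [Nat.eq_of_beq_eq_true h2] at e2
      have h4 := allBelow_spec h3 _ (π v).2
      rw [e1, e2] at h4
      simp at h4
      exact Fin.ext (h4.trans hv.symm)
    · exact hfix v hv

/-- The table holds the powers of a word. -/
noncomputable def powStep (w : List (Gen × Bool)) (P : Nat → Nat → Nat) (i : Nat) : Bool :=
  allBelow 7 114 fun u => Nat.beq (P i u) (iter (str w) i u)

/-- A certificate for the conjugating elements inside the stabiliser. -/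
structure Cert (wb wq : List (Gen × Bool)) (p l q r : Nat) (leafW : List (List (Gen × Bool))) (leaves : List Nat)
    (steps : List (Nat × Nat × Nat)) : Prop where
  no_g : noG wb = true ∧ noG wq = true
  powP : ∀ i ∈ I, powStep wb P i = true
  powQ : ∀ i ∈ I, powStep wq Q i = true
  search : ∀ t0, t0 < 114 → lev0 P Q I p l q r leaves t0 = true
  closed : grow steps [p, l, q, r] = true
  frame : (Nat.blt p 57 && (Nat.blt l 114 && Nat.ble 57 l) && Nat.blt q 57 && Nat.blt r 57) = true
  leaf_words : (leafW.all noG) = true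
  leaf_codes : (leafW.map fun w => code4 (str w p) (str w l) (str w q) (str w r)) = leaves

theorem Cert.mem {wb wq : List (Gen × Bool)} {p l q r : Nat} {leafW : List (List (Gen × Bool))}
    {leaves : List Nat} {steps : List (Nat × Nat × Nat)}
    (C : Cert P Q I wb wq p l q r leafW leaves steps) {g : G0} (hg0 : act g 0 = 0)
    (hgc : g * ev wb = ev wq * g) : ∃ w ∈ leafW, g = ev w := by
  obtain ⟨x, hx⟩ := toH_bijective.2 ⟨g, mem_Hs_of_fix hg0⟩
  have hgx : ((Cfsg.Agent.S1693.toH x : Hs) : G0) = g := by rw [hx]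
  have hcomm6 : x * ev6 wb = ev6 wq * x := by
    refine toH_bijective.1 (Subtype.ext ?_)
    rw [map_mul, map_mul, Subgroup.coe_mul, Subgroup.coe_mul, toH_ev6 _ C.no_g.1, toH_ev6 _ C.no_g.2, hgx, hgc]
  set π := Cfsg.Agent.S1693.θ x with hπ
  have hθ : ∀ w : List (Gen × Bool), ∀ u : Fin 114, ((Cfsg.Agent.S1693.θ (ev6 w) u : Fin 114) : Nat) = str w u :=
    fun w u => Cfsg.Agent.S1693.θ_evalW w u
  have hiter : ∀ (w : List (Gen × Bool)) (i : Nat) (u : Fin 114),
      (((Cfsg.Agent.S1693.θ (ev6 w)) ^ i) u : Nat) = iter (str w) i u := by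
    intro w i
    induction i with
    | zero => exact fun u => rfl
    | succ i ih => intro u; rw [pow_succ, Equiv.Perm.mul_apply, ih, iter_succ, hθ]
  have hinc : ∀ u v : Fin 114, inc (π u : Fin 114) (π v : Fin 114) = inc u v := inc_inv x
  have hc : ∀ i ∈ I, ∀ u : Fin 114,
      ∃ v : Fin 114, P i u = (v : Nat) ∧ Q i (π u : Fin 114) = ((π v : Fin 114) : Nat) := by
    intro i hi u
    refine ⟨((Cfsg.Agent.S1693.θ (ev6 wb)) ^ i) u, ?_, ?_⟩
    · rw [Nat.eq_of_beq_eq_true (allBelow_spec (C.powP i hi) u u.2), hiter]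
    · rw [Nat.eq_of_beq_eq_true (allBelow_spec (C.powQ i hi) _ (π u).2), ← hiter]
      refine congrArg Fin.val ?_
      have e : x * (ev6 wb) ^ i = (ev6 wq) ^ i * x := (SemiconjBy.pow_right hcomm6 i)
      have e2 := congrArg (fun y => Cfsg.Agent.S1693.θ y u) e
      simp only [map_mul, map_pow, Equiv.Perm.mul_apply] at e2
      exact e2.symm
  have hf := C.frame
  simp only [Bool.and_eq_true, Nat.blt_eq, Nat.ble_eq] at hf
  obtain ⟨⟨⟨hp, hl, hl'⟩, hq⟩, hr⟩ := hf
  obtain ⟨A, hA⟩ := Cfsg.Agent.S1693.exists_induces x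
  have hs : ∀ t, t < 57 → side t = false := fun t ht => decide_eq_false (by omega)
  have hinvZ := fourZ_inv hA ⟨p, by omega⟩ ⟨l, hl⟩ ⟨q, by omega⟩ ⟨r, by omega⟩ (hs p hp)
    (decide_eq_true hl') (hs q hq) (hs r hr)
  have hinv : invFour (π ⟨p, by omega⟩ : Fin 114) (π ⟨l, hl⟩ : Fin 114) (π ⟨q, by omega⟩ : Fin 114)
      (π ⟨r, by omega⟩ : Fin 114) = invFour p l q r := by
    have h := hinvZ
    rw [← invFour_cast, ← invFour_cast, ZMod.natCast_eq_natCast_iff'] at h
    simpa [invFour] using h
  have hmem := search_sound P Q I hinc hc ⟨p, by omega⟩ ⟨l, hl⟩ ⟨q, by omega⟩ ⟨r, by omega⟩ hinv leaves C.search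
  rw [← C.leaf_codes, List.mem_map] at hmem
  obtain ⟨w, hw, hcode⟩ := hmem
  refine ⟨w, hw, ?_⟩
  have hwg := List.all_eq_true.mp C.leaf_words w hw
  have hxw : x = ev6 w := by
    apply θ_injective
    have hkey : ∀ {a b c d a' b' c' d' : Fin 114}, code4 a b c d = code4 a' b' c' d' →
        a = a' ∧ b = b' ∧ c = c' ∧ d = d' := by
      intro a b c d a' b' c' d' h
      have := a.2; have := b.2; have := c.2; have := d.2
      have := a'.2; have := b'.2; have := c'.2; have := d'.2
      simp only [code4, show ∀ m n, Nat.add m n = m + n from fun _ _ => rfl,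
        show ∀ m n, Nat.mul m n = m * n from fun _ _ => rfl] at h
      exact ⟨Fin.ext (by omega), Fin.ext (by omega), Fin.ext (by omega), Fin.ext (by omega)⟩
    rw [← hθ w ⟨p, by omega⟩, ← hθ w ⟨l, hl⟩, ← hθ w ⟨q, by omega⟩, ← hθ w ⟨r, by omega⟩] at hcode
    obtain ⟨e1, e2, e3, e4⟩ := hkey hcode
    have h1 : (Cfsg.Agent.S1693.θ (ev6 w))⁻¹ * π = 1 := by
      refine grow_sound (fun u v => ?_) _ _ C.closed fun u hu => ?_
      · rw [← map_inv, hπ, ← map_mul]; exact inc_inv _ u v
      · rw [Equiv.Perm.mul_apply, Equiv.Perm.inv_eq_iff_eq]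
        simp only [List.mem_cons, List.not_mem_nil, or_false] at hu
        rcases hu with hu | hu | hu | hu
        · rw [show u = ⟨p, by omega⟩ from Fin.ext hu]; exact e1.symm
        · rw [show u = ⟨l, hl⟩ from Fin.ext hu]; exact e2.symm
        · rw [show u = ⟨q, by omega⟩ from Fin.ext hu]; exact e3.symm
        · rw [show u = ⟨r, by omega⟩ from Fin.ext hu]; exact e4.symm
    exact (inv_mul_eq_one.mp h1).symm
  rw [← hgx, hxw, toH_ev6 w hwg]

end CfsgLib.FusionExamples.ONOut
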