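import Cfsg.Agent.Lib.FusionExamples.Hyperfocal
import Cfsg.Agent.Lib.Alperin.Theorem

/-!
Small abelian subgroups of the hyperfocal subgroup control fusion (Benson–Grodal–Henke).
-/

set_option autoImplicit false
set_option linter.style.haveILetI false
set_option linter.unusedSectionVars false

namespace CfsgLib.FusionExamples.SmallControl

open Cfsg Cfsg.FusionSystem CfsgLib.Alperin

/-! ### Group theory -/

/-- A normal subgroup of a `p`-group contains an abelian normal subgroup that is its own centralizer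
inside it. -/
theorem exists_abelian_selfcentralizing {p : ℕ} [Fact p.Prime] {G : Type*} [Group G] [Finite G]
    (hG : IsPGroup p G) (V : Subgroup G) [V.Normal] :
    ∃ W : Subgroup G, W ≤ V ∧ W.Normal ∧ (∀ x ∈ W, ∀ y ∈ W, x * y = y * x) ∧
      ∀ v ∈ V, (∀ w ∈ W, Commute v w) → v ∈ W := by
  obtain ⟨W, ⟨hWV, hWn, hWab⟩, hmax⟩ :=
    (Set.toFinite {W : Subgroup G | W ≤ V ∧ W.Normal ∧ ∀ x ∈ W, ∀ y ∈ W, x * y = y * x}).exists_maximal
      ⟨⊥, bot_le, inferInstance, fun x hx y hy => by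
        rw [Subgroup.mem_bot.mp hx, Subgroup.mem_bot.mp hy]⟩
  refine ⟨W, hWV, hWn, hWab, ?_⟩
  by_contra! hcon
  obtain ⟨v, hv, hvW, hvn⟩ := hcon
  haveI := hWn
  set C : Subgroup G := V ⊓ Subgroup.centralizer (W : Set G)
  set π := QuotientGroup.mk' W
  haveI : (Subgroup.centralizer (W : Set G)).Normal := Subgroup.normal_centralizer
  haveI hCn : (C.map π).Normal :=
    Subgroup.Normal.map inferInstance _ (QuotientGroup.mk'_surjective W)
  have hne : C.map π ≠ ⊥ := fun h => hvn ((QuotientGroup.eq_one_iff v).mp (Subgroup.mem_bot.mp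
    (h ▸ Subgroup.mem_map_of_mem π (show v ∈ C from ⟨hv, fun w hw => (hvW w hw).eq.symm⟩))))
  haveI : Nontrivial (C.map π) := (C.map π).nontrivial_iff_ne_bot.mpr hne
  have hq : IsPGroup p (G ⧸ W) := hG.to_quotient W
  have hdvd : p ∣ Nat.card (C.map π) := by
    obtain ⟨k, hk, hcard⟩ := (hq.to_subgroup (C.map π)).nontrivial_iff_card.mp inferInstance
    exact hcard ▸ dvd_pow_self p hk.ne'
  obtain ⟨u, hufix, hu1⟩ := (hq.of_equiv ConjAct.toConjAct).exists_fixed_point_of_prime_dvd_card_of_fixed_point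
    (C.map π) hdvd (a := 1) (fun g => smul_one g)
  obtain ⟨c, hc, hcu⟩ := u.2
  have hcW : c ∉ W := fun h => hu1 (Subtype.ext
    (((hcu.symm).trans ((QuotientGroup.eq_one_iff c).mpr h)).symm))
  have hconj : ∀ g : G, c⁻¹ * (g * c * g⁻¹) ∈ W := by
    intro g
    have h := congrArg Subtype.val (hufix (ConjAct.toConjAct (π g)))
    rw [ConjAct.Subgroup.val_conj_smul, ConjAct.smul_def, ConjAct.ofConjAct_toConjAct, ← hcu] at h
    refine (QuotientGroup.eq_one_iff _).mp ?_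
    show π (c⁻¹ * (g * c * g⁻¹)) = 1
    rw [map_mul, map_mul, map_mul, map_inv, map_inv, h, inv_mul_cancel]
  have hcen : ∀ x ∈ insert c (W : Set G), ∀ y ∈ insert c (W : Set G), x * y = y * x := by
    rintro x (rfl | hx) y (rfl | hy)
    · rfl
    · exact (hc.2 y hy).symm
    · exact hc.2 x hx
    · exact hWab x hx y hy
  set W' := Subgroup.closure (insert c (W : Set G))
  have hle : W ≤ W' := fun w hw => Subgroup.subset_closure (Or.inr hw)
  have hcW' : c ∈ W' := Subgroup.subset_closure (Or.inl rfl)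
  have hW'n : W'.Normal := by
    refine ⟨fun n hn g => ?_⟩
    have hle' : W' ≤ W'.comap (MulAut.conj g).toMonoidHom := by
      refine (Subgroup.closure_le _).mpr ?_
      rintro x (rfl | hx)
      · show g * x * g⁻¹ ∈ W'
        have := W'.mul_mem hcW' (hle (hconj g))
        simpa using this
      · exact hle (hWn.conj_mem x hx g)
    exact hle' hn
  have hW'ab : ∀ x ∈ W', ∀ y ∈ W', x * y = y * x := by
    haveI := Subgroup.isMulCommutative_closure hcen
    exact fun x hx y hy => congrArg Subtype.val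
      (IsMulCommutative.is_comm.comm (⟨x, hx⟩ : W') ⟨y, hy⟩)
  exact hcW (hmax ⟨(Subgroup.closure_le _).mpr (Set.insert_subset hc.1 hWV), hW'n, hW'ab⟩ hle hcW')

/-- An automorphism of order prime to `p` fixing a self-centralizing subgroup `W` of `V` fixes `V`. -/
theorem fixes_of_fixes_selfcentralizing {p : ℕ} [Fact p.Prime] {G : Type*} [Group G] [Finite G]
    (hG : IsPGroup p G) {V W : Subgroup G} [hWn : W.Normal]
    (hW : ∀ v ∈ V, (∀ w ∈ W, Commute v w) → v ∈ W)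
    {a : MulAut G} {m : ℕ} (ham : a ^ m = 1) (hm : m.Coprime p) (hfix : ∀ w ∈ W, a w = w)
    (hV : ∀ v ∈ V, v⁻¹ * a v ∈ V) : ∀ v ∈ V, a v = v := by
  intro v hv
  refine eq_of_stable hG a ham hm (hfix _ (hW _ (hV v hv) fun w hw => ?_))
  have h1 : a (v * w * v⁻¹) = v * w * v⁻¹ := hfix _ (hWn.conj_mem w hw v)
  rw [map_mul, map_mul, map_inv, hfix w hw] at h1
  show v⁻¹ * a v * w = w * (v⁻¹ * a v)
  calc v⁻¹ * a v * w = v⁻¹ * (a v * w * (a v)⁻¹) * a v := by group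
    _ = v⁻¹ * (v * w * v⁻¹) * a v := by rw [h1]
    _ = w * (v⁻¹ * a v) := by group

/-! ### Fusion -/

variable {Ω : Type*} [Group Ω] {S : Subgroup Ω} [Finite S] {p : ℕ} [Fact p.Prime]

/-- The members of `Aut(Q)` fixing `W` pointwise. -/
def fixing {G : Type*} [Group G] (A : Subgroup (MulAut G)) (W : Subgroup G) : Subgroup A where
  carrier := {a | ∀ w ∈ W, (a : MulAut G) w = w}
  one_mem' := fun _ _ => rfl
  mul_mem' := fun {a b} ha hb w hw => by
    show (a : MulAut G) ((b : MulAut G) w) = w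
    rw [hb w hw, ha w hw]
  inv_mem' := fun {a} ha w hw => by
    show (a : MulAut G).symm w = w
    rw [MulEquiv.symm_apply_eq, ha w hw]

theorem autGroup_le {E F : FusionSystem S} (hEF : E.IsSubsystemOf F) {P : Subgroup Ω} (hP : P ≤ S) :
    E.autGroup P ≤ F.autGroup P := fun α hα =>
  (mem_autGroup_iff F hP).mpr (hEF P ((mem_autGroup_iff E hP).mp hα))

theorem isConj_mono {E F : FusionSystem S} (hEF : E.IsSubsystemOf F) {P Q : Subgroup Ω}
    (h : E.IsConj P Q) : F.IsConj P Q := by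
  obtain ⟨φ, hφ, hr⟩ := h
  exact ⟨φ, hEF P hφ, hr⟩

variable {E F : FusionSystem S}

/-- An automorphism conjugating a non-inner induced automorphism to an induced one lies in `E` as
soon as `E` and `F` agree above `Q`. -/
theorem mem_of_conj_induced (hS : IsPGroup p S) (hF : F.IsSaturated p) {Q : Subgroup Ω}
    (hQ : F.IsFullyNormalized Q)
    (hmax : ∀ R : Subgroup Ω, Nat.card Q < Nat.card R → F.Hom R ⊆ E.Hom R)
    {δ x : MulAut Q} (hδ : δ ∈ F.autGroup Q) (hx : x ∈ autInducedBy S Q) (hxI : x ∉ Inn Q)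
    (hy : δ * x * δ⁻¹ ∈ autInducedBy S Q) : δ ∈ E.autGroup Q := by
  obtain ⟨g, hg, hgx⟩ := mem_autInducedBy_iff.mp hx
  obtain ⟨h, hh, hhx⟩ := mem_autInducedBy_iff.mp hy
  have hgQ : g ∉ Q := fun hgQ => hxI ⟨⟨g, hgQ⟩, MulEquiv.ext fun z => Subtype.ext (hgx z).symm⟩
  have hgE : g ∈ extender S Q (Q.subtype.comp δ.toMonoidHom) := by
    refine mem_extender_iff.mpr ⟨hg, normalizer_of_induced hgx, h, hh, fun z hz => ?_⟩
    have e : (⟨g * z * g⁻¹, hz⟩ : Q) = x z := Subtype.ext (hgx z).symm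
    show ((δ ⟨g * z * g⁻¹, hz⟩ : Q) : Ω) = _
    rw [e]
    refine Eq.trans ?_ (hhx (δ z))
    simp
  have hδH := (mem_autGroup_iff F hQ.1).mp hδ
  obtain ⟨ψ, hψ, hx'⟩ := (receptive_of_fullyNormalized hS hF hQ).2 Q _ hδH (by
    rw [MonoidHom.range_comp, MonoidHom.range_eq_top.mpr δ.surjective,
      ← MonoidHom.range_eq_map, Subgroup.range_subtype])
  have hlt : Q < extender S Q (Q.subtype.comp δ.toMonoidHom) :=
    lt_of_le_of_ne (le_extender hδH) fun he => hgQ (he ▸ hgE)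
  haveI := finite_of_le (extender_le (S := S) Q (Q.subtype.comp δ.toMonoidHom))
  have hcard : Nat.card Q < Nat.card (extender S Q (Q.subtype.comp δ.toMonoidHom)) :=
    lt_of_le_of_ne (Subgroup.card_le_of_le hlt.le)
      fun he => hlt.ne (Subgroup.eq_of_le_of_card_ge hlt.le he.ge)
  exact (mem_autGroup_iff E hQ.1).mpr (restrict_mem_apply (hmax _ hcard hψ) hlt.le
    fun z => (hx' z z.2 _).symm)

/-- The key step: `Aut_E(Q) = Aut_F(Q)` for a fully normalized centric `Q` once the systems agree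
above `Q`. -/
theorem autGroup_le_of_max (hS : IsPGroup p S) (hE : E.IsSaturated p) (hF : F.IsSaturated p)
    (hEF : E.IsSubsystemOf F)
    (hsmall : ∀ A : Subgroup Ω, A ≤ F.hyperfocalSubgroup p → (∀ a ∈ A, ∀ b ∈ A, a * b = b * a) →
      (∀ a ∈ A, SmallElt p a) → ∀ φ ∈ F.Hom A, (∀ x : A, φ x ∈ F.hyperfocalSubgroup p) →
      φ ∈ E.Hom A)
    {Q : Subgroup Ω} (hQ : F.IsFullyNormalized Q) (hQc : F.IsCentric Q)
    (hmax : ∀ R : Subgroup Ω, Nat.card Q < Nat.card R → F.Hom R ⊆ E.Hom R) :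
    F.autGroup Q ≤ E.autGroup Q := by
  classical
  haveI := finite_of_le hQ.1
  have hQp : IsPGroup p Q := isPGroup_of_le hS hQ.1
  haveI := finite_autGroup F hQ.1
  haveI := finite_autGroup E hQ.1
  set A := F.autGroup Q with hA
  set hyp := F.hyperfocalSubgroup p with hhyp
  set H : Subgroup Q := hyp.subgroupOf Q
  haveI hHn : H.Normal := ⟨fun n hn g => hyperfocal_conj_mem (hQ.1 g.2) hn⟩
  obtain ⟨D, hDc, hDs, hDd⟩ := exists_small_detecting Q hQp
  haveI := hDc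
  obtain ⟨W₁, hW₁V, hW₁n, hW₁ab, hW₁c⟩ := exists_abelian_selfcentralizing hQp (D ⊓ H)
  haveI := hW₁n
  -- elements fixing `W₁` form a `p`-group
  have hK : IsPGroup p (fixing A W₁) := by
    rintro ⟨a, ha⟩
    obtain ⟨k, m, hkm, hm⟩ := exists_coprime_power (p := p) a
    refine ⟨k, Subtype.ext ?_⟩
    show a ^ p ^ k = 1
    have hbK : ∀ w ∈ W₁, ((a ^ p ^ k : A) : MulAut Q) w = w := (fixing A W₁).pow_mem ha _
    set b := a ^ p ^ k with hb
    have hbm : (b : MulAut Q) ^ m = 1 := congrArg Subtype.val hkm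
    have hbH : ∀ x : Q, x⁻¹ * (b : MulAut Q) x ∈ H := fun x => by
      have := hyperfocal_gen_mem hQ.1 (mem_pResidual_of_pow_eq_one hkm hm) x
      simpa [H, Subgroup.mem_subgroupOf] using this
    have hbD : ∀ x ∈ D, (b : MulAut Q) x ∈ D := fun x hx =>
      (Subgroup.characteristic_iff_le_comap.mp hDc (b : MulAut Q)) hx
    have hV := fixes_of_fixes_selfcentralizing hQp hW₁c hbm hm hbK fun v hv =>
      ⟨D.mul_mem (D.inv_mem hv.1) (hbD v hv.1), hbH v⟩
    refine Subtype.ext (hDd _ m hbm hm fun x hx => ?_)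
    exact eq_of_stable hQp _ hbm hm (hV _ ⟨D.mul_mem (D.inv_mem hx) (hbD x hx), hbH x⟩)
  -- move `W₁` so that its stabilizer lies in `Aut_S(Q)`
  obtain ⟨-, -, R, hR⟩ := centralized_automized_of_fullyNormalized hS hF hQ
  obtain ⟨T, hT⟩ := hK.exists_le_sylow
  obtain ⟨g, hg⟩ := MulAction.exists_smul_eq A T R
  set W : Subgroup Q := W₁.map (g : MulAut Q).toMonoidHom with hW
  have hWn : W.Normal := hW₁n.map _ (g : MulAut Q).surjective
  have hWhyp : ∀ w ∈ W, (w : Ω) ∈ hyp := by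
    rintro _ ⟨w, hw, rfl⟩
    exact hyperfocal_aut_mem hS hF hQ g.2 (hW₁V hw).2
  have hWsmall : ∀ w ∈ W, SmallElt p w := by
    rintro _ ⟨w, hw, rfl⟩
    exact (smallElt_map_iff (g : MulAut Q).toMonoidHom (g : MulAut Q).injective).mpr
      (hDs w (hW₁V hw).1)
  have hWab : ∀ x ∈ W, ∀ y ∈ W, x * y = y * x := by
    rintro _ ⟨x, hx, rfl⟩ _ ⟨y, hy, rfl⟩
    rw [← map_mul, ← map_mul, hW₁ab x hx y hy]
  have hKR : ∀ a : A, a ∈ fixing A W → (a : MulAut Q) ∈ autInducedBy S Q := by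
    intro a ha
    have h1 : g⁻¹ * a * g ∈ fixing A W₁ := by
      intro w hw
      show (g : MulAut Q).symm ((a : MulAut Q) ((g : MulAut Q) w)) = w
      rw [show (a : MulAut Q) ((g : MulAut Q) w) = (g : MulAut Q) w from ha _ ⟨w, hw, rfl⟩,
        MulEquiv.symm_apply_apply]
    have h2 : g * (g⁻¹ * a * g) * g⁻¹ ∈ (R : Subgroup A) := by
      rw [← hg, Sylow.coe_subgroup_smul]
      exact ⟨_, hT h1, rfl⟩
    rw [show g * (g⁻¹ * a * g) * g⁻¹ = a by group, hR] at h2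
    exact Subgroup.mem_subgroupOf.mp h2
  have hindE : autInducedBy S Q ≤ E.autGroup Q := autInducedBy_le_autGroup E hQ.1
  intro α hα
  by_contra hαE
  set W' : Subgroup Q := W.map α.toMonoidHom with hW'
  haveI hW'n : W'.Normal := hWn.map _ α.surjective
  -- the map `W → W'` lies in `E`
  set WΩ : Subgroup Ω := W.map Q.subtype with hWΩ
  set W'Ω : Subgroup Ω := W'.map Q.subtype with hW'Ω
  have hWΩQ : WΩ ≤ Q := Subgroup.map_subtype_le _
  have hW'ΩQ : W'Ω ≤ Q := Subgroup.map_subtype_le _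
  have hmemW : ∀ x : WΩ, Subgroup.inclusion hWΩQ x ∈ W := by
    rintro ⟨_, w, hw, rfl⟩
    exact hw
  let φ : WΩ →* Ω := (Q.subtype.comp α.toMonoidHom).comp (Subgroup.inclusion hWΩQ)
  have hφF : φ ∈ F.Hom WΩ := restrict_mem ((mem_autGroup_iff F hQ.1).mp hα) hWΩQ
  have hφE : φ ∈ E.Hom WΩ := by
    refine hsmall WΩ ?_ ?_ ?_ φ hφF fun x => hyperfocal_aut_mem hS hF hQ hα (hWhyp _ (hmemW x))
    · rintro _ ⟨w, hw, rfl⟩
      exact hWhyp w hw
    · rintro _ ⟨a, ha, rfl⟩ _ ⟨b, hb, rfl⟩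
      rw [← map_mul, ← map_mul, hWab a ha b hb]
    · rintro _ ⟨a, ha, rfl⟩
      exact (smallElt_map_iff Q.subtype Q.subtype_injective).mpr (hWsmall a ha)
  obtain ⟨Ws, hWs', hWs⟩ := exists_isFullyNormalized E (hW'ΩQ.trans hQ.1)
  obtain ⟨γ, hγ, hγN, hγW⟩ := exists_hom_normalizerIn_of_fullyNormalized hS hE hWs hWs'
  have hQN : Q ≤ normalizerIn S W'Ω := by
    refine fun x hx => ⟨hQ.1 hx, Subgroup.mem_normalizer_iff.mpr fun y => ⟨?_, ?_⟩⟩
    · rintro ⟨w, hw, rfl⟩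
      exact ⟨⟨x, hx⟩ * w * ⟨x, hx⟩⁻¹, hW'n.conj_mem w hw _, rfl⟩
    · rintro ⟨w, hw, hwy⟩
      refine ⟨⟨x, hx⟩⁻¹ * w * ⟨x, hx⟩⁻¹⁻¹, hW'n.conj_mem w hw _, ?_⟩
      show x⁻¹ * (w : Ω) * x⁻¹⁻¹ = y
      rw [show (w : Ω) = x * y * x⁻¹ from hwy]
      group
  let γQ : Q →* Ω := γ.comp (Subgroup.inclusion hQN)
  have hγQ : γQ ∈ E.Hom Q := restrict_mem hγ hQN
  set Qs := γQ.range with hQs
  have hQsS : Qs ≤ S := range_le hγQ
  set e := isoOfHom γQ (E.injective_of_mem hγQ) rfl with he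
  have hWsmem : ∀ w : Q, w ∈ W' → γQ w ∈ Ws := fun w hw =>
    hγW.le ⟨Subgroup.inclusion hQN w, ⟨w, hw, rfl⟩, rfl⟩
  have hWsex : ∀ y ∈ Ws, ∃ w : Q, w ∈ W' ∧ γQ w = y := by
    intro y hy
    obtain ⟨z, ⟨w, hw, hwz⟩, hzy⟩ := hγW.ge hy
    refine ⟨w, hw, ?_⟩
    rw [← hzy]
    exact congrArg γ (Subtype.ext hwz)
  have hQsN : Qs ≤ Subgroup.normalizer (Ws : Set Ω) := by
    rintro _ ⟨x, rfl⟩
    exact (hγN _).2
  have hcent : centralizerIn S Qs ≤ Qs := hQc.2 Qs (isConj_mono hEF ⟨γQ, hγQ, rfl⟩)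
  -- centralizing elements normalizing `Qs` lie in it
  have hkey : ∀ c ∈ centralizerIn S Ws, c ∈ Subgroup.normalizer (Qs : Set Ω) → c ∈ Qs := by
    intro c hc hcN
    set cs := conjAut Qs c hcN
    have hcsI : cs ∈ autInducedBy S Qs := conjAut_mem hc.1 hcN
    obtain ⟨y, hyE, hye⟩ : ∃ y ∈ E.autGroup Q, MulAut.congr e y = cs := by
      have := (autGroup_map_congr hγQ rfl).ge (autInducedBy_le_autGroup E hQsS hcsI)
      obtain ⟨y, hy, hy'⟩ := this
      exact ⟨y, hy, hy'⟩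
    have hyfix : ∀ w ∈ W', y w = w := by
      intro w hw
      apply e.injective
      have h1 : MulAut.congr e y (e w) = e (y w) := by
        show e (y (e.symm (e w))) = _
        rw [MulEquiv.symm_apply_apply]
      rw [← h1, hye]
      refine Subtype.ext ?_
      show c * γQ w * c⁻¹ = γQ w
      rw [← hc.2 _ (hWsmem w hw), mul_inv_cancel_right]
    -- `y` is a `p`-element
    obtain ⟨k, hk⟩ := isPGroup_autInducedBy hS Qs ⟨cs, hcsI⟩
    have hyk : y ^ p ^ k = 1 := by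
      apply (MulAut.congr e).injective
      rw [map_pow, hye, map_one]
      exact congrArg Subtype.val hk
    have hQE : E.IsFullyNormalized Q := ⟨hQ.1, fun P hP => hQ.2 P (isConj_mono hEF hP)⟩
    obtain ⟨-, -, RE, hRE⟩ := centralized_automized_of_fullyNormalized hS hE hQE
    have hzp : IsPGroup p (Subgroup.zpowers (⟨y, hyE⟩ : E.autGroup Q)) := by
      refine IsPGroup.of_card_dvd_pow (n := k) ?_
      rw [Nat.card_zpowers]
      exact orderOf_dvd_of_pow_eq_one (Subtype.ext hyk)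
    obtain ⟨T', hT'⟩ := hzp.exists_le_sylow
    obtain ⟨h, hh⟩ := MulAction.exists_smul_eq (E.autGroup Q) T' RE
    have hconj : (h : MulAut Q) * y * (h : MulAut Q)⁻¹ ∈ autInducedBy S Q := by
      have h2 : h * ⟨y, hyE⟩ * h⁻¹ ∈ (RE : Subgroup (E.autGroup Q)) := by
        rw [← hh, Sylow.coe_subgroup_smul]
        exact ⟨_, hT' (Subgroup.mem_zpowers _), rfl⟩
      rw [hRE] at h2
      exact Subgroup.mem_subgroupOf.mp h2
    set δ : MulAut Q := (h : MulAut Q) * α with hδ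
    have hδF : δ ∈ A := A.mul_mem (autGroup_le hEF hQ.1 h.2) hα
    set z : MulAut Q := δ⁻¹ * ((h : MulAut Q) * y * (h : MulAut Q)⁻¹) * δ with hz
    have hz' : z = α⁻¹ * y * α := by rw [hz, hδ]; group
    have hzA : z ∈ A := by
      rw [hz']
      exact A.mul_mem (A.mul_mem (A.inv_mem hα) (autGroup_le hEF hQ.1 hyE)) hα
    have hzR : z ∈ autInducedBy S Q := hKR ⟨z, hzA⟩ fun w hw => by
      show z w = w
      rw [hz']
      show α.symm (y (α w)) = w
      rw [hyfix (α w) ⟨w, hw, rfl⟩, MulEquiv.symm_apply_apply]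
    by_cases hzI : z ∈ Inn Q
    · refine mem_of_conjAut_mem_inn hQsS hcent hc.1 (α := cs) (fun _ => rfl) ?_
      have hyI : y ∈ Inn Q := by
        have hn : (Inn Q).Normal := inferInstance
        have := hn.conj_mem z hzI α
        rwa [hz', show α * (α⁻¹ * y * α) * α⁻¹ = y by group] at this
      obtain ⟨u, rfl⟩ := hyI
      rw [← hye]
      refine ⟨e u, MulEquiv.ext fun x => ?_⟩
      show e u * x * (e u)⁻¹ = e (u * e.symm x * u⁻¹)
      rw [map_mul, map_mul, map_inv, MulEquiv.apply_symm_apply]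
    · exfalso
      apply hαE
      have hδE := mem_of_conj_induced hS hF hQ hmax hδF hzR hzI (by
        rwa [hz, show δ * (δ⁻¹ * ((h : MulAut Q) * y * (h : MulAut Q)⁻¹) * δ) * δ⁻¹ =
          (h : MulAut Q) * y * (h : MulAut Q)⁻¹ by group])
      have := (E.autGroup Q).mul_mem ((E.autGroup Q).inv_mem h.2) hδE
      rwa [hδ, inv_mul_cancel_left] at this
  have hCQ : centralizerIn S Ws ≤ Qs := by
    set C := centralizerIn S Ws
    have hQC : Qs ≤ Subgroup.normalizer (C : Set Ω) := by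
      intro x hx
      have hxS := hQsS hx
      have key : ∀ x ∈ Qs, ∀ c ∈ C, x * c * x⁻¹ ∈ C := by
        intro x hx c hc
        refine ⟨S.mul_mem (S.mul_mem (hQsS hx) hc.1) (S.inv_mem (hQsS hx)), fun w hw => ?_⟩
        have hw' : x⁻¹ * w * x⁻¹⁻¹ ∈ Ws :=
          mem_normalizer_conj (Subgroup.inv_mem _ (hQsN hx)) hw
        have h1 := hc.2 _ hw'
        calc w * (x * c * x⁻¹) = x * (x⁻¹ * w * x⁻¹⁻¹ * c) * x⁻¹ := by group
          _ = x * (c * (x⁻¹ * w * x⁻¹⁻¹)) * x⁻¹ := by rw [h1]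
          _ = x * c * x⁻¹ * w := by group
      refine Subgroup.mem_normalizer_iff.mpr fun c => ⟨key x hx c, fun hc => ?_⟩
      have := key x⁻¹ (Qs.inv_mem hx) _ hc
      simpa [mul_assoc] using this
    set M := Qs ⊔ C
    have hMS : M ≤ S := sup_le hQsS (centralizerIn_le S Ws)
    by_contra hnot
    have hlt : Qs < M := lt_of_le_of_ne le_sup_left fun he => hnot (he ▸ le_sup_right)
    haveI := finite_of_le hMS
    obtain ⟨x, hxN, hxQ⟩ := SetLike.exists_of_lt (lt_normalizerIn (isPGroup_of_le hS hMS) hlt)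
    obtain ⟨q, hq, c, hc, hqc⟩ :=
      (Set.ext_iff.mp (Subgroup.coe_mul_of_left_le_normalizer_right Qs C hQC).symm x).mpr hxN.1
    have hcN : c ∈ Subgroup.normalizer (Qs : Set Ω) := by
      have := Subgroup.mul_mem _ (Subgroup.inv_mem _ (Subgroup.le_normalizer hq)) hxN.2
      rwa [← show q * c = x from hqc, inv_mul_cancel_left] at this
    exact hxQ ((show q * c = x from hqc) ▸ Qs.mul_mem hq (hkey c hc hcN))
  -- extend `W → W' → Ws` to `Q`
  have hφr : ∀ x : WΩ, φ x ∈ W'Ω := fun x => ⟨α (Subgroup.inclusion hWΩQ x), ⟨_, hmemW x, rfl⟩, rfl⟩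
  let φ₂ : WΩ →* Ω := γQ.comp (α.toMonoidHom.comp (Subgroup.inclusion hWΩQ))
  have hφ₂ : φ₂ ∈ E.Hom WΩ :=
    comp_mem_apply hφE hγQ (fun x => hW'ΩQ (hφr x)) fun x => rfl
  have hφ₂r : φ₂.range = Ws := by
    ext y
    constructor
    · rintro ⟨x, rfl⟩
      exact hWsmem _ ⟨_, hmemW x, rfl⟩
    · intro hy
      obtain ⟨w', ⟨w, hw, rfl⟩, hwy⟩ := hWsex y hy
      exact ⟨⟨(w : Ω), w, hw, rfl⟩, hwy⟩
  obtain ⟨ψ, hψ, hψx⟩ := (receptive_of_fullyNormalized hS hE hWs).2 WΩ φ₂ hφ₂ hφ₂r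
  have hQext : Q ≤ extender S WΩ φ₂ := by
    intro x hx
    refine mem_extender_iff.mpr ⟨hQ.1 hx, ?_, γQ (α ⟨x, hx⟩), apply_mem hγQ _, fun z hz => ?_⟩
    · refine Subgroup.mem_normalizer_iff.mpr fun y => ⟨?_, ?_⟩
      · rintro ⟨w, hw, rfl⟩
        exact ⟨⟨x, hx⟩ * w * ⟨x, hx⟩⁻¹, hWn.conj_mem w hw _, rfl⟩
      · rintro ⟨w, hw, hwy⟩
        refine ⟨⟨x, hx⟩⁻¹ * w * ⟨x, hx⟩⁻¹⁻¹, hWn.conj_mem w hw _, ?_⟩
        show x⁻¹ * (w : Ω) * x⁻¹⁻¹ = y
        rw [show (w : Ω) = x * y * x⁻¹ from hwy]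
        group
    · show γQ (α ⟨x * z * x⁻¹, _⟩) = _
      rw [show (⟨x * z * x⁻¹, hWΩQ hz⟩ : Q) = ⟨x, hx⟩ * Subgroup.inclusion hWΩQ z * ⟨x, hx⟩⁻¹ from rfl]
      simp only [map_mul, map_inv]
      rfl
  let ψQ : Q →* Ω := ψ.comp (Subgroup.inclusion hQext)
  have hψQ : ψQ ∈ E.Hom Q := restrict_mem hψ hQext
  have hψW : ∀ w : Q, w ∈ W → ψQ w = γQ (α w) := fun w hw => hψx w ⟨w, hw, rfl⟩ _
  have hψmem : ∀ q : Q, ψQ q ∈ Qs := by
    intro q
    have hC : (γQ (α q))⁻¹ * ψQ q ∈ centralizerIn S Ws := by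
      refine ⟨S.mul_mem (S.inv_mem (apply_mem hγQ _)) (apply_mem hψQ _), fun y hy => ?_⟩
      obtain ⟨w', ⟨w, hw, rfl⟩, rfl⟩ := hWsex y hy
      have h1 := hψW (q * w * q⁻¹) (hWn.conj_mem w hw q)
      simp only [map_mul, map_inv, hψW w hw] at h1
      show γQ (α w) * ((γQ (α q))⁻¹ * ψQ q) = (γQ (α q))⁻¹ * ψQ q * γQ (α w)
      calc γQ (α w) * ((γQ (α q))⁻¹ * ψQ q)
          = (γQ (α q))⁻¹ * (γQ (α q) * γQ (α w) * (γQ (α q))⁻¹) * ψQ q := by group
        _ = (γQ (α q))⁻¹ * (ψQ q * γQ (α w) * (ψQ q)⁻¹) * ψQ q := by rw [h1]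
        _ = (γQ (α q))⁻¹ * ψQ q * γQ (α w) := by group
    have := Qs.mul_mem (show γQ (α q) ∈ Qs from ⟨_, rfl⟩) (hCQ hC)
    rwa [mul_inv_cancel_left] at this
  have hβmem : Q.subtype.comp (e.symm.toMonoidHom.comp (ψQ.codRestrict Qs hψmem)) ∈ E.Hom Q :=
    comp_mem_apply hψQ (isoOfHom_symm_mem hγQ rfl) hψmem fun x => rfl
  obtain ⟨β, hβ, hβx⟩ := exists_aut_of_hom' E hβmem fun x => (e.symm _).2
  have hβW : ∀ w ∈ W, β w = α w := by
    intro w hw
    refine Subtype.ext ?_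
    rw [hβx]
    show ((e.symm ⟨ψQ w, hψmem w⟩ : Q) : Ω) = _
    rw [show (⟨ψQ w, hψmem w⟩ : Qs) = e (α w) from Subtype.ext (hψW w hw),
      MulEquiv.symm_apply_apply]
  have hfix : (⟨β⁻¹ * α, A.mul_mem (A.inv_mem (autGroup_le hEF hQ.1 hβ)) hα⟩ : A) ∈ fixing A W :=
    fun w hw => by
      show β.symm (α w) = w
      rw [← hβW w hw, MulEquiv.symm_apply_apply]
  apply hαE
  have := (E.autGroup Q).mul_mem hβ (hindE (hKR _ hfix))
  rwa [show β * (β⁻¹ * α) = α from mul_inv_cancel_left β α] at this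

/-- The maps of `F` with small source, together with all maps of `E`. -/
def aboveSystem (E F : FusionSystem S) (hEF : E.IsSubsystemOf F) (k : ℕ) : FusionSystem S where
  Hom P := {φ | φ ∈ F.Hom P ∧ (Nat.card P ≤ k ∨ φ ∈ E.Hom P)}
  le_of_mem h := F.le_of_mem h.1
  injective_of_mem h := F.injective_of_mem h.1
  conj_mem := fun hP hg => ⟨F.conj_mem hP hg, Or.inr (E.conj_mem hP hg)⟩
  comp_mem := by
    rintro P Q φ ψ ⟨hφ, hφ'⟩ ⟨hψ, hψ'⟩ h
    refine ⟨F.comp_mem hφ hψ h, ?_⟩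
    rcases hφ' with hφ' | hφ'
    · exact Or.inl hφ'
    rcases hψ' with hψ' | hψ'
    · refine Or.inl (le_trans ?_ hψ')
      haveI := finite_of_le (dom_le hψ)
      rw [← card_range_eq (F.injective_of_mem hφ)]
      exact Subgroup.card_le_of_le (by rintro _ ⟨x, rfl⟩; exact h x)
    · exact Or.inr (E.comp_mem hφ' hψ' h)
  inv_mem := by
    rintro P φ ⟨hφ, hφ'⟩
    obtain ⟨ψ, hψ, hψx⟩ := F.inv_mem hφ
    refine ⟨ψ, ⟨hψ, ?_⟩, hψx⟩
    rcases hφ' with hφ' | hφ'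
    · exact Or.inl ((card_range_eq (F.injective_of_mem hφ)).le.trans hφ')
    · obtain ⟨χ, hχ, hχx⟩ := E.inv_mem hφ'
      refine Or.inr (mem_of_apply_eq hχ ?_)
      rintro ⟨_, x, rfl⟩
      exact (hψx x).trans (hχx x).symm

/-- Control of fusion by small abelian subgroups of the hyperfocal subgroup. -/
theorem hom_le (hS : IsPGroup p S) (hE : E.IsSaturated p) (hF : F.IsSaturated p)
    (hEF : E.IsSubsystemOf F)
    (hsmall : ∀ A : Subgroup Ω, A ≤ F.hyperfocalSubgroup p → (∀ a ∈ A, ∀ b ∈ A, a * b = b * a) →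
      (∀ a ∈ A, SmallElt p a) → ∀ φ ∈ F.Hom A, (∀ x : A, φ x ∈ F.hyperfocalSubgroup p) →
      φ ∈ E.Hom A) :
    ∀ P : Subgroup Ω, F.Hom P ⊆ E.Hom P := by
  suffices h : ∀ n k : ℕ, Nat.card S ≤ k + n → ∀ R : Subgroup Ω, k < Nat.card R → F.Hom R ⊆ E.Hom R by
    intro P φ hφ
    haveI := finite_of_le (dom_le hφ)
    exact h (Nat.card S) 0 (by omega) P Nat.card_pos hφ
  intro n
  induction n with
  | zero =>
    intro k hk R hR φ hφ
    haveI := finite_of_le (dom_le hφ)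
    have := Subgroup.card_le_of_le (dom_le hφ)
    omega
  | succ n ih =>
    intro k hk
    have hnext := ih (k + 1) (by omega)
    have hall : ∀ P, F.Hom P ⊆ (aboveSystem E F hEF k).Hom P := by
      refine alperin hS hF _ fun Q hQ α hα => ?_
      have hQn : F.IsFullyNormalized Q ∧ F.IsCentric Q := by
        rcases hQ with rfl | hess
        · exact ⟨isFullyNormalized_top F, isCentric_top F⟩
        · exact ⟨hess.2.1, hess.1⟩
      refine (mem_autGroup_iff _ hQn.1.1).mpr ⟨(mem_autGroup_iff F hQn.1.1).mp hα, ?_⟩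
      by_cases hle : Nat.card Q ≤ k
      · exact Or.inl hle
      · exact Or.inr ((mem_autGroup_iff E hQn.1.1).mp
          (autGroup_le_of_max hS hE hF hEF hsmall hQn.1 hQn.2 (fun R hR => hnext R (by omega)) hα))
    intro R hR φ hφ
    exact (hall R hφ).2.resolve_left (by omega)

end CfsgLib.FusionExamples.SmallControl
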