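import Cfsg.Agent.Lib.Alperin.Theorem
import Cfsg.Agent.Lib.PGroups.MaximalClass

/-!
Automorphism groups of an elementary abelian group of order `p ^ 3` with a strongly `p`-embedded
subgroup and a transvection central in a Sylow subgroup.
-/

set_option autoImplicit false
set_option linter.style.haveILetI false
set_option linter.unusedSectionVars false

namespace CfsgLib.FusionExamples.Transvection

open Cfsg CfsgLib.Alperin

variable {p : ℕ} [hp : Fact p.Prime]

/-- An element conjugating a nontrivial `p`-element of `Y` into `Y` lies in `Y`. -/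
theorem mem_of_conj_mem {X : Type*} [Group X] [Finite X] {Y : Subgroup X} {T : Sylow p X}
    (hY : kGeneratedCore p 1 (T : Subgroup X) ≤ Y) (hT : (T : Subgroup X) ≠ ⊥) {u x : X} (hu : u ∈ Y)
    (hu1 : u ≠ 1) (hup : ∃ r, u ^ p ^ r = 1) (hxu : x * u * x⁻¹ ∈ Y) : x ∈ Y := by
  have hTY : (T : Subgroup X) ≤ Y :=
    Subgroup.le_normalizer.trans (normalizer_le_of_core_le hY le_rfl hT)
  obtain ⟨r, hr⟩ := hup
  have key : ∀ v ∈ Y, v ^ p ^ r = 1 → ∃ e ∈ Y, e * v * e⁻¹ ∈ (T : Subgroup X) := by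
    intro v hv hvr
    have hpg : IsPGroup p (Subgroup.zpowers (⟨v, hv⟩ : Y)) := by
      refine IsPGroup.of_card_dvd_pow (n := r) ?_
      rw [Nat.card_zpowers]
      exact orderOf_dvd_of_pow_eq_one (Subtype.ext hvr)
    obtain ⟨R, hR⟩ := hpg.exists_le_sylow
    obtain ⟨e, he⟩ := MulAction.exists_smul_eq Y R (T.subtype hTY)
    refine ⟨e, e.2, ?_⟩
    have h1 : e * ⟨v, hv⟩ * e⁻¹ ∈ (T.subtype hTY : Subgroup Y) := by
      rw [← he, Sylow.coe_subgroup_smul]
      exact ⟨_, hR (Subgroup.mem_zpowers _), rfl⟩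
    exact h1
  obtain ⟨e₁, he₁, h₁⟩ := key u hu hr
  obtain ⟨e₂, he₂, h₂⟩ := key _ hxu (by rw [conj_pow, hr, mul_one, mul_inv_cancel])
  have h3 : e₂ * x * e₁⁻¹ ∈ Y := by
    refine mem_of_conj_mem_of_core_le hY h₁ (fun h => hu1 (conj_eq_one_iff.mp h)) ?_
    convert h₂ using 1
    group
  have := Y.mul_mem (Y.mul_mem (Y.inv_mem he₂) h3) he₁
  simpa [mul_assoc] using this

variable {V : Type*} [CommGroup V] [Finite V]

/-- Automorphisms fixing each other's displacements commute. -/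
theorem commute_of_fixed {v v' : MulAut V} (h : ∀ x, v' (x⁻¹ * v x) = x⁻¹ * v x)
    (h' : ∀ x, v (x⁻¹ * v' x) = x⁻¹ * v' x) : Commute v v' := by
  refine MulEquiv.ext fun x => ?_
  have e : v (v' x) = x * (x⁻¹ * v x) * (x⁻¹ * v' x) := by
    rw [mul_inv_cancel_left, ← h' x, ← map_mul, mul_inv_cancel_left]
  have e' : v' (v x) = x * (x⁻¹ * v' x) * (x⁻¹ * v x) := by
    rw [mul_inv_cancel_left, ← h x, ← map_mul, mul_inv_cancel_left]
  show v (v' x) = v' (v x)
  rw [e, e', mul_right_comm]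

/-- Powers of an automorphism fixing its displacements. -/
theorem pow_apply {v : MulAut V} (h : ∀ x, v (x⁻¹ * v x) = x⁻¹ * v x) (r : ℕ) (x : V) :
    (v ^ r) x = x * (x⁻¹ * v x) ^ r := by
  induction r with
  | zero => simp
  | succ r ih =>
    rw [pow_succ', MulAut.mul_apply, ih, map_mul, map_pow, h, pow_succ', ← mul_assoc,
      mul_inv_cancel_left]

theorem pow_prime_eq_one (hexp : ∀ x : V, x ^ p = 1) {v : MulAut V}
    (h : ∀ x, v (x⁻¹ * v x) = x⁻¹ * v x) : v ^ p = 1 :=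
  MulEquiv.ext fun x => by rw [pow_apply h, hexp, mul_one]; rfl

/-- In exponent `p`, a nontrivial element generates the cyclic subgroup containing it. -/
theorem mem_zpowers_of_mem {G : Type*} [Group G] {c d : G} (hc : c ^ p = 1)
    (hd : d ∈ Subgroup.zpowers c) (hd1 : d ≠ 1) : c ∈ Subgroup.zpowers d := by
  obtain ⟨i, rfl⟩ := Subgroup.mem_zpowers_iff.mp hd
  have hi : ¬ (p : ℤ) ∣ i := by
    rintro ⟨k, rfl⟩
    exact hd1 (by rw [zpow_mul, zpow_natCast, hc, one_zpow])
  obtain ⟨a, b, hab⟩ := (Int.prime_iff_natAbs_prime.mpr (by simpa using hp.out) :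
    Prime (p : ℤ)).coprime_iff_not_dvd.mpr hi
  refine ⟨b, ?_⟩
  calc (c ^ i) ^ b = c ^ (a * (p : ℤ) + b * i) := by
        rw [zpow_add, mul_comm a, zpow_mul, zpow_natCast, hc, one_zpow, one_mul, ← zpow_mul, mul_comm]
    _ = c := by rw [hab, zpow_one]

/-- The data: `t` is a transvection with fixed subgroup `A` and displacements in `zpowers c`. -/
structure Data (p : ℕ) (X : Subgroup (MulAut V)) (T : Sylow p X) (Y : Subgroup X) (t : X)
    (A : Subgroup V) (c : V) : Prop where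
  exp : ∀ x : V, x ^ p = 1
  card_V : Nat.card V = p ^ 3
  card_A : Nat.card A = p ^ 2
  core_le : kGeneratedCore p 1 (T : Subgroup X) ≤ Y
  ne_top : Y ≠ ⊤
  mem : t ∈ (T : Subgroup X)
  central : ∀ q ∈ (T : Subgroup X), q * t = t * q
  ne_one : t ≠ 1
  c_mem : c ∈ A
  fix : ∀ a ∈ A, (t : MulAut V) a = a
  disp : ∀ x, x⁻¹ * (t : MulAut V) x ∈ Subgroup.zpowers c

variable {X : Subgroup (MulAut V)} {T : Sylow p X} {Y : Subgroup X} {t : X} {A : Subgroup V} {c : V}

theorem Data.mem_of_fixed (D : Data p X T Y t A c) {a : V} (ha : (t : MulAut V) a = a) : a ∈ A := by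
  by_contra hA
  apply D.ne_one
  let U : Subgroup V :=
    { carrier := {x | (t : MulAut V) x = x}
      one_mem' := map_one _
      mul_mem' := fun {x y} hx hy => by
        show (t : MulAut V) (x * y) = x * y
        rw [map_mul, hx, hy]
      inv_mem' := fun {x} hx => by
        show (t : MulAut V) x⁻¹ = x⁻¹
        rw [map_inv, hx] }
  have hlt : A < U := lt_of_le_of_ne (fun x hx => D.fix x hx) fun he => hA (he ▸ ha)
  have htop : U = ⊤ := Subgroup.eq_of_le_of_card_ge le_top (by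
    rw [Subgroup.card_top, D.card_V, pow_succ', ← D.card_A]
    exact CfsgLib.PGroups.prime_mul_card_le (IsPGroup.of_card D.card_V) hlt)
  exact Subtype.ext (MulEquiv.ext fun x => htop.ge (Subgroup.mem_top x))

theorem Data.T_ne_bot (D : Data p X T Y t A c) : (T : Subgroup X) ≠ ⊥ := fun h =>
  D.ne_one (by simpa [h] using D.mem)

theorem Data.T_le (D : Data p X T Y t A c) : (T : Subgroup X) ≤ Y :=
  Subgroup.le_normalizer.trans (normalizer_le_of_core_le D.core_le le_rfl D.T_ne_bot)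

theorem Data.fix_zpowers (D : Data p X T Y t A c) {x : V} (hx : x ∈ Subgroup.zpowers c) :
    (t : MulAut V) x = x :=
  D.fix x ((Subgroup.zpowers_le.mpr D.c_mem) hx)

theorem Data.pow_prime (D : Data p X T Y t A c) : t ^ p = 1 :=
  Subtype.ext (pow_prime_eq_one D.exp fun x => D.fix_zpowers (D.disp x))

theorem Data.exists_disp_ne (D : Data p X T Y t A c) {y : V} (hy : y ∉ A) :
    y⁻¹ * (t : MulAut V) y ≠ 1 := fun h => hy (D.mem_of_fixed (inv_mul_eq_one.mp h).symm)

/-- Conjugates of `t` outside `Y` are in general position. -/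
theorem Data.apply_not_mem (D : Data p X T Y t A c) {x : X} (hx : x ∉ Y) : (x : MulAut V) c ∉ A := by
  intro hxc
  set t' : X := x * t * x⁻¹ with ht'
  have htY := D.T_le D.mem
  have hcomm : ∀ u : X, u ∈ Y → u ≠ 1 → (∃ r, u ^ p ^ r = 1) → Commute u t' → False := by
    intro u hu hu1 hur hc
    have h1 : t' ∈ Y := mem_of_conj_mem D.core_le D.T_ne_bot hu hu1 hur (by
      rw [← hc.eq, mul_inv_cancel_right]
      exact hu)
    exact hx (mem_of_conj_mem D.core_le D.T_ne_bot htY D.ne_one ⟨1, by rw [pow_one]; exact D.pow_prime⟩ h1)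
  have ht'app : ∀ y, (t' : MulAut V) y = (x : MulAut V) ((t : MulAut V) ((x : MulAut V).symm y)) :=
    fun y => rfl
  have hfix' : ∀ y, (x : MulAut V).symm y ∈ A → (t' : MulAut V) y = y := fun y hy => by
    rw [ht'app, D.fix _ hy, MulEquiv.apply_symm_apply]
  have hdisp' : ∀ y, y⁻¹ * (t' : MulAut V) y ∈ Subgroup.zpowers ((x : MulAut V) c) := fun y => by
    obtain ⟨z, rfl⟩ := (x : MulAut V).surjective y
    rw [ht'app, MulEquiv.symm_apply_apply, ← map_inv, ← map_mul]
    obtain ⟨i, hi⟩ := Subgroup.mem_zpowers_iff.mp (D.disp z)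
    exact ⟨i, by rw [← hi]; exact (map_zpow _ _ _).symm⟩
  have hxcA : Subgroup.zpowers ((x : MulAut V) c) ≤ A := Subgroup.zpowers_le.mpr hxc
  have hfixxc : ∀ z ∈ Subgroup.zpowers ((x : MulAut V) c), (t' : MulAut V) z = z := by
    rintro z ⟨i, rfl⟩
    refine hfix' _ ?_
    show (x : MulAut V).symm ((x : MulAut V) c ^ i) ∈ A
    rw [← map_zpow, MulEquiv.symm_apply_apply]
    exact A.zpow_mem D.c_mem i
  by_cases hcx : (x : MulAut V).symm c ∈ A
  · refine hcomm t htY D.ne_one ⟨1, by rw [pow_one]; exact D.pow_prime⟩ (Subtype.ext ?_)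
    refine (commute_of_fixed (v := (t : MulAut V)) (v' := (t' : MulAut V)) (fun y => ?_) fun y => ?_).eq
    · refine hfix' _ ?_
      obtain ⟨i, hi⟩ := Subgroup.mem_zpowers_iff.mp (D.disp y)
      rw [← hi, map_zpow]
      exact A.zpow_mem hcx i
    · exact D.fix _ (hxcA (hdisp' y))
  · set u : X := (t * t')⁻¹ * (t' * t) with hu
    let d : V → V := fun y => (y⁻¹ * (t : MulAut V) y)⁻¹ * (t' : MulAut V) (y⁻¹ * (t : MulAut V) y)
    have hd : ∀ y, d y ∈ Subgroup.zpowers ((x : MulAut V) c) := fun y => hdisp' _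
    have huy : ∀ y, (u : MulAut V) y = y * d y := by
      intro y
      have h1 : (t : MulAut V) ((t' : MulAut V) (y * d y)) = (t' : MulAut V) ((t : MulAut V) y) := by
        rw [map_mul, map_mul, hfixxc _ (hd y), D.fix _ (hxcA (hd y))]
        have e1 : (t : MulAut V) ((t' : MulAut V) y) =
            (t : MulAut V) y * (y⁻¹ * (t' : MulAut V) y) := by
          rw [← D.fix _ (hxcA (hdisp' y)), ← map_mul, mul_inv_cancel_left]
        rw [e1]
        simp only [d, map_mul (t' : MulAut V), map_inv (t' : MulAut V)]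
        rw [mul_left_comm ((t : MulAut V) y) y⁻¹, ← mul_assoc y⁻¹, mul_mul_mul_comm, mul_inv_cancel,
          one_mul, mul_inv_cancel_left]
      show ((t : MulAut V) * (t' : MulAut V))⁻¹ ((t' : MulAut V) ((t : MulAut V) y)) = _
      rw [← h1]
      exact ((t : MulAut V) * (t' : MulAut V)).symm_apply_apply (y * d y)
    have hufix : ∀ a ∈ A, (u : MulAut V) a = a := fun a ha => by
      rw [huy]
      simp [d, D.fix a ha]
    have hudisp : ∀ y, y⁻¹ * (u : MulAut V) y ∈ Subgroup.zpowers ((x : MulAut V) c) := fun y => by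
      rw [huy, inv_mul_cancel_left]
      exact hd y
    have hup : u ^ p = 1 :=
      Subtype.ext (pow_prime_eq_one D.exp fun y => hufix _ (hxcA (hudisp y)))
    have hu1 : u ≠ 1 := by
      intro h
      apply hcx
      obtain ⟨y, -, hy⟩ := SetLike.exists_of_lt (lt_top_iff_ne_top.mpr (fun htop : A = ⊤ => by
        have h1 := D.card_A
        rw [htop, Subgroup.card_top, D.card_V] at h1
        exact absurd (Nat.pow_right_injective hp.out.two_le h1) (by omega)))
      have h1 := huy y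
      rw [h] at h1
      have h2 : (t' : MulAut V) (y⁻¹ * (t : MulAut V) y) = y⁻¹ * (t : MulAut V) y :=
        (inv_mul_eq_one.mp (left_eq_mul.mp h1)).symm
      have h3 : (t : MulAut V) ((x : MulAut V).symm c) = (x : MulAut V).symm c := by
        obtain ⟨i, hi⟩ := Subgroup.mem_zpowers_iff.mp
          (mem_zpowers_of_mem (p := p) (D.exp c) (D.disp y) (D.exists_disp_ne hy))
        have h4 : (t' : MulAut V) c = c := by rw [← hi, map_zpow, h2]
        rw [ht'app] at h4
        exact (x : MulAut V).injective (by rw [h4, MulEquiv.apply_symm_apply])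
      exact D.mem_of_fixed h3
    have huY : u ∈ Y := by
      refine mem_of_conj_mem D.core_le D.T_ne_bot htY D.ne_one ⟨1, by rw [pow_one]; exact D.pow_prime⟩ ?_
      have hc : Commute u t := Subtype.ext (commute_of_fixed (fun y => D.fix _ (hxcA (hudisp y)))
        fun y => hufix _ ((Subgroup.zpowers_le.mpr D.c_mem) (D.disp y))).eq
      rw [hc.eq, mul_inv_cancel_right]
      exact htY
    exact hcomm u huY hu1 ⟨1, by rw [pow_one]; exact hup⟩ (Subtype.ext
      (commute_of_fixed (fun y => hfixxc _ (hudisp y)) fun y => hufix _ (hxcA (hdisp' y))).eq)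

/-- A complement to `x A`. -/
theorem Data.sup_eq_top (D : Data p X T Y t A c) {x : X} {v : V} (hv : v ∉ A.map (x : MulAut V).toMonoidHom) :
    A.map (x : MulAut V).toMonoidHom ⊔ Subgroup.zpowers v = ⊤ := by
  refine Subgroup.eq_of_le_of_card_ge le_top ?_
  rw [Subgroup.card_top, D.card_V]
  refine le_trans (le_of_eq ?_) (CfsgLib.PGroups.prime_mul_card_le (IsPGroup.of_card D.card_V)
    (lt_of_le_of_ne le_sup_left fun he => hv (he ▸ Subgroup.mem_sup_right (Subgroup.mem_zpowers v))))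
  rw [Subgroup.card_map_of_injective (x : MulAut V).injective, D.card_A, pow_succ']

theorem Data.exists_decomp (D : Data p X T Y t A c) {x : X} {v : V}
    (hv : v ∉ A.map (x : MulAut V).toMonoidHom) (y : V) :
    ∃ a ∈ A.map (x : MulAut V).toMonoidHom, ∃ i : ℤ, y = a * v ^ i := by
  obtain ⟨a, ha, b, hb, hab⟩ := Subgroup.mem_sup.mp ((D.sup_eq_top hv).ge (Subgroup.mem_top y))
  obtain ⟨i, hi⟩ := Subgroup.mem_zpowers_iff.mp hb
  exact ⟨a, ha, i, by rw [hi, hab]⟩

/-- The Sylow subgroup is generated by the transvection. -/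
theorem Data.sylow_le (D : Data p X T Y t A c) : (T : Subgroup X) ≤ Subgroup.zpowers t := by
  intro q hq
  by_contra hqt
  obtain ⟨x, -, hx⟩ := SetLike.exists_of_lt (lt_top_iff_ne_top.mpr D.ne_top)
  have hc' := D.apply_not_mem hx
  have hcA : c ∉ A.map (x : MulAut V).toMonoidHom := by
    rintro ⟨a, ha, hac⟩
    refine D.apply_not_mem (x := x⁻¹) (fun h => hx (inv_mem_iff.mp h)) ?_
    show (x : MulAut V).symm c ∈ A
    rw [← hac]
    exact ((x : MulAut V).symm_apply_apply a).symm ▸ ha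
  set v := (q : MulAut V) ((x : MulAut V) c) with hv
  have hvA : v ∉ A := by
    intro h
    refine hc' (D.mem_of_fixed ((q : MulAut V).injective ?_))
    have h1 := DFunLike.congr_fun (congrArg Subtype.val (D.central q hq)) ((x : MulAut V) c)
    exact h1.trans (D.fix v h)
  obtain ⟨a, ha, i, hai⟩ := D.exists_decomp hcA v
  obtain ⟨j, hj⟩ := Subgroup.mem_zpowers_iff.mp
    (mem_zpowers_of_mem (p := p) (D.exp c) (D.disp v) (D.exists_disp_ne hvA))
  obtain ⟨m, hm⟩ : ∃ m : ℕ, (v⁻¹ * (t : MulAut V) v) ^ m = c ^ (-i) := by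
    have hmem : c ^ (-i) ∈ Subgroup.zpowers (v⁻¹ * (t : MulAut V) v) :=
      Subgroup.zpow_mem _ (Subgroup.mem_zpowers_iff.mpr ⟨j, hj⟩) _
    rwa [← mem_powers_iff_mem_zpowers, Submonoid.mem_powers_iff] at hmem
  set g : X := t ^ m * q
  have hg1 : g ≠ 1 := fun h => hqt (by
    have e : q = (t ^ m)⁻¹ := eq_inv_of_mul_eq_one_right h
    rw [e]
    exact inv_mem (pow_mem (Subgroup.mem_zpowers t) m))
  have hgT : g ∈ (T : Subgroup X) := Subgroup.mul_mem _ (Subgroup.pow_mem _ D.mem m) hq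
  have hx2 : x⁻¹ * g * x ∈ Y := by
    by_contra h
    refine D.apply_not_mem h ?_
    have hgc : (g : MulAut V) ((x : MulAut V) c) = a := by
      show (((t ^ m : X) : MulAut V)) v = a
      rw [Subgroup.coe_pow, pow_apply (fun y => D.fix_zpowers (D.disp y)), hm, hai, zpow_neg,
        mul_inv_cancel_right]
    obtain ⟨a', ha', rfl⟩ := ha
    show (x : MulAut V).symm ((g : MulAut V) ((x : MulAut V) c)) ∈ A
    rw [hgc]
    exact ((x : MulAut V).symm_apply_apply a').symm ▸ ha'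
  obtain ⟨r, hr⟩ := T.2 ⟨g, hgT⟩
  have hr' : g ^ p ^ r = 1 := congrArg Subtype.val hr
  refine hx (mem_of_conj_mem D.core_le D.T_ne_bot hx2 (fun h => hg1 ?_) ⟨r, ?_⟩ ?_)
  · calc g = x * (x⁻¹ * g * x) * x⁻¹ := by group
      _ = 1 := by rw [h]; group
  · calc (x⁻¹ * g * x) ^ p ^ r = x⁻¹ * g ^ p ^ r * x := by
          conv_lhs => rw [show x⁻¹ * g * x = x⁻¹ * g * x⁻¹⁻¹ by rw [inv_inv]]
          rw [conj_pow, inv_inv]
      _ = 1 := by rw [hr', mul_one, inv_mul_cancel]
  · rw [show x * (x⁻¹ * g * x) * x⁻¹ = g by group]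
    exact D.T_le hgT

/-- The central involution of the subgroup generated by two transvections. -/
theorem Data.exists_involution (D : Data p X T Y t A c) :
    ∃ h : X, (h : MulAut V) c = c⁻¹ ∧ (∀ a ∈ A, a⁻¹ * (h : MulAut V) a ∈ Subgroup.zpowers c) ∧
      (∀ x, (h : MulAut V) x * x ∈ A) ∧ h * t = t * h ∧
      (∃ d ∈ A, d ∉ Subgroup.zpowers c ∧ (h : MulAut V) d = d) ∧
      ∀ x, (h : MulAut V) ((h : MulAut V) x) = x := by
  obtain ⟨x, -, hx⟩ := SetLike.exists_of_lt (lt_top_iff_ne_top.mpr D.ne_top)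
  have hc' := D.apply_not_mem hx
  have hcA : c ∉ A.map (x : MulAut V).toMonoidHom := by
    rintro ⟨a, ha, hac⟩
    refine D.apply_not_mem (x := x⁻¹) (fun h => hx (inv_mem_iff.mp h)) ?_
    show (x : MulAut V).symm c ∈ A
    rw [← hac]
    exact ((x : MulAut V).symm_apply_apply a).symm ▸ ha
  set c' := (x : MulAut V) c with hc'd
  set t' : X := x * t * x⁻¹ with ht'
  have hxcA : (x : MulAut V).symm c ∉ A := fun h => hcA ⟨_, h, (x : MulAut V).apply_symm_apply c⟩
  obtain ⟨ia, hia⟩ := Subgroup.mem_zpowers_iff.mp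
    (mem_zpowers_of_mem (p := p) (D.exp c) (D.disp c') (D.exists_disp_ne hc'))
  obtain ⟨ib, hib⟩ := Subgroup.mem_zpowers_iff.mp
    (mem_zpowers_of_mem (p := p) (D.exp c) (D.disp _) (D.exists_disp_ne hxcA))
  have hnat : ∀ {d e : V}, e ∈ Subgroup.zpowers d → ∃ r : ℕ, d ^ r = e := fun {d e} h => by
    rwa [← mem_powers_iff_mem_zpowers, Submonoid.mem_powers_iff] at h
  obtain ⟨ra, hra⟩ := hnat ⟨ia, hia⟩
  obtain ⟨rb, hrb⟩ := hnat (Subgroup.inv_mem _ ⟨ib, hib⟩)
  set t₁ : X := t ^ ra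
  set t₂ : X := t' ^ rb
  have ht1 : ∀ y, (t₁ : MulAut V) y = y * (y⁻¹ * (t : MulAut V) y) ^ ra := fun y => by
    rw [Subgroup.coe_pow, pow_apply fun y => D.fix_zpowers (D.disp y)]
  have ht2 : ∀ y, (t₂ : MulAut V) ((x : MulAut V) y) = (x : MulAut V) (y * (y⁻¹ * (t : MulAut V) y) ^ rb) := by
    intro y
    have e : (t₂ : MulAut V) = (x : MulAut V) * (t : MulAut V) ^ rb * (x : MulAut V)⁻¹ := by
      show ((x * t * x⁻¹) ^ rb : X).1 = _
      rw [conj_pow]
      rfl
    rw [e]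
    show (x : MulAut V) (((t : MulAut V) ^ rb) ((x : MulAut V).symm ((x : MulAut V) y))) = _
    rw [MulEquiv.symm_apply_apply, pow_apply fun y => D.fix_zpowers (D.disp y)]
  have h1A : ∀ a ∈ A, (t₁ : MulAut V) a = a := fun a ha => by
    rw [ht1, D.fix a ha, inv_mul_cancel, one_pow, mul_one]
  have h2A : ∀ a ∈ A.map (x : MulAut V).toMonoidHom, (t₂ : MulAut V) a = a := by
    rintro _ ⟨a, ha, rfl⟩
    show (t₂ : MulAut V) ((x : MulAut V) a) = (x : MulAut V) a
    rw [ht2, D.fix a ha, inv_mul_cancel, one_pow, mul_one]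
  have h1c' : (t₁ : MulAut V) c' = c' * c := by rw [ht1, hra]
  have h2c : (t₂ : MulAut V) c = c * c'⁻¹ := by
    have h := ht2 ((x : MulAut V).symm c)
    rw [MulEquiv.apply_symm_apply] at h
    rw [h, hrb, map_mul, MulEquiv.apply_symm_apply, map_inv]
  have h2c' : (t₂ : MulAut V) c' = c' := h2A _ ⟨c, D.c_mem, rfl⟩
  set w : X := t₁ * t₂ * t₁
  have hwc : (w : MulAut V) c = c'⁻¹ := by
    show (t₁ : MulAut V) ((t₂ : MulAut V) ((t₁ : MulAut V) c)) = _
    rw [h1A c D.c_mem, h2c, map_mul, map_inv, h1A c D.c_mem, h1c', mul_inv_rev, mul_inv_cancel_left]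
  have hwc' : (w : MulAut V) c' = c := by
    show (t₁ : MulAut V) ((t₂ : MulAut V) ((t₁ : MulAut V) c')) = _
    rw [h1c', map_mul, h2c', h2c, mul_left_comm, mul_inv_cancel, mul_one, h1A c D.c_mem]
  have hwB : ∀ b ∈ A, b ∈ A.map (x : MulAut V).toMonoidHom → (w : MulAut V) b = b := by
    intro b hb hb'
    show (t₁ : MulAut V) ((t₂ : MulAut V) ((t₁ : MulAut V) b)) = _
    rw [h1A b hb, h2A b hb', h1A b hb]
  have hhc : (w * w : X).1 c = c⁻¹ := by
    show (w : MulAut V) ((w : MulAut V) c) = _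
    rw [hwc, map_inv, hwc']
  have hhc' : (w * w : X).1 c' = c'⁻¹ := by
    show (w : MulAut V) ((w : MulAut V) c') = _
    rw [hwc', hwc]
  have hdec : ∀ a ∈ A, ∃ b ∈ A, ∃ i : ℤ, a = b * c ^ i ∧ (w * w : X).1 b = b ∧
      (w * w : X).1 a = b * c ^ (-i) := by
    intro a ha
    obtain ⟨b, hb, i, hbi⟩ := D.exists_decomp hcA a
    have hbA : b ∈ A := by
      have := A.mul_mem ha (A.zpow_mem D.c_mem (-i))
      rwa [hbi, zpow_neg, mul_inv_cancel_right] at this
    have hwb : (w * w : X).1 b = b := by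
      show (w : MulAut V) ((w : MulAut V) b) = b
      rw [hwB b hbA hb, hwB b hbA hb]
    refine ⟨b, hbA, i, hbi, hwb, ?_⟩
    rw [hbi, map_mul, map_zpow, hwb, hhc, inv_zpow']
  have hgen : ∀ y : V, ∃ a ∈ A, ∃ i : ℤ, y = a * c' ^ i := by
    intro y
    have hmap : A.map ((1 : X) : MulAut V).toMonoidHom = A := by
      ext z
      exact ⟨fun ⟨z', hz', he⟩ => by rw [← he]; exact hz', fun hz => ⟨z, hz, rfl⟩⟩
    obtain ⟨a, ha, i, hai⟩ := D.exists_decomp (x := 1) (v := c') (by rw [hmap]; exact hc') y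
    exact ⟨a, by rw [hmap] at ha; exact ha, i, hai⟩
  have hA : ∀ a ∈ A, (w * w : X).1 a ∈ A := by
    intro a ha
    obtain ⟨b, hb, i, -, -, he⟩ := hdec a ha
    rw [he]
    exact A.mul_mem hb (A.zpow_mem D.c_mem _)
  refine ⟨w * w, hhc, fun a ha => ?_, fun y => ?_, ?_, ?_, fun y => ?_⟩
  · obtain ⟨b, -, i, hai, -, he⟩ := hdec a ha
    refine ⟨-i - i, ?_⟩
    rw [he, hai, mul_inv_rev, mul_assoc, inv_mul_cancel_left, ← zpow_neg, ← zpow_add, sub_eq_add_neg]
  · obtain ⟨a, ha, i, rfl⟩ := hgen y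
    rw [map_mul, map_zpow, hhc', mul_mul_mul_comm, inv_zpow, inv_mul_cancel, mul_one]
    exact A.mul_mem (hA a ha) ha
  · refine Subtype.ext (MulEquiv.ext fun y => ?_)
    obtain ⟨a, ha, i, rfl⟩ := hgen y
    show (w * w : X).1 ((t : MulAut V) (a * c' ^ i)) = (t : MulAut V) ((w * w : X).1 (a * c' ^ i))
    obtain ⟨k, hk⟩ := Subgroup.mem_zpowers_iff.mp (D.disp c')
    have htc' : (t : MulAut V) c' = c' * c ^ k := by rw [hk, mul_inv_cancel_left]
    rw [map_mul, map_zpow, D.fix a ha, htc', map_mul (w * w : X).1, map_zpow, map_mul (w * w : X).1,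
      map_zpow, hhc', hhc, map_mul (w * w : X).1, map_zpow, hhc', map_mul, D.fix _ (hA a ha),
      map_zpow, map_inv, htc', inv_zpow', mul_inv_rev, zpow_neg, mul_comm (c ^ k)⁻¹]
  · obtain ⟨a, ha, ha'⟩ : ∃ a ∈ A, a ∉ Subgroup.zpowers c := by
      by_contra! hle
      have h1 := Subgroup.card_le_of_le (show A ≤ Subgroup.zpowers c from hle)
      rw [D.card_A, Nat.card_zpowers] at h1
      have h2 := Nat.le_of_dvd hp.out.pos (orderOf_dvd_of_pow_eq_one (D.exp c))
      nlinarith [hp.out.two_le]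
    obtain ⟨b, hb, i, hai, hwb, -⟩ := hdec a ha
    exact ⟨b, hb, fun h => ha' (hai ▸ Subgroup.mul_mem _ h
      (Subgroup.zpow_mem _ (Subgroup.mem_zpowers c) i)), hwb⟩
  · obtain ⟨a, ha, i, rfl⟩ := hgen y
    obtain ⟨b, -, j, hab, hwb, he⟩ := hdec a ha
    rw [map_mul, map_zpow, hhc', map_mul (w * w : X).1, map_zpow, map_inv, hhc', inv_inv, he, map_mul,
      map_zpow, hwb, hhc, inv_zpow', neg_neg, ← hab]

end CfsgLib.FusionExamples.Transvection
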