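import Cfsg.Agent.Lib.FusionExamples.MaxClassLayers
import Cfsg.Agent.Lib.FusionExamples.Transvection
import Cfsg.Agent.Lib.FusionExamples.Hyperfocal
import Cfsg.Agent.Lib.PGroups.Frattini
import Cfsg.Agent.Lib.PGroups.ClassTwo
import Cfsg.Agent.Lib.CoprimeAction.Basic
import Mathlib.GroupTheory.Nilpotent

/-!
Essential subgroups of order at most `p ^ 3` of a fusion system over a `p`-group of maximal class.
-/

set_option autoImplicit false
set_option linter.style.haveILetI false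
set_option linter.unusedSectionVars false

open scoped commutatorElement

namespace CfsgLib.FusionExamples.SmallEssential

open Cfsg Cfsg.FusionSystem CfsgLib.Alperin CfsgLib.FusionExamples.MaxClass

variable {p : ℕ} [hp : Fact p.Prime]

theorem mem_normalizer {G : Type*} [Group G] {P : Subgroup G} [Finite P] {g : G}
    (h : ∀ x ∈ P, g * x * g⁻¹ ∈ P) : g ∈ Subgroup.normalizer (P : Set G) :=
  Subgroup.mem_normalizer_iff_map_conj_eq.mpr (Subgroup.eq_of_le_of_card_ge
    (by rintro _ ⟨x, hx, rfl⟩; exact h x hx)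
    (by rw [Subgroup.card_map_of_injective (MulEquiv.injective _)]))

/-! ### Groups of order at most `p ^ 3` -/

section Classify

variable {V : Type*} [Group V] [Finite V]

theorem normal_of_inv {K : Subgroup V} (h : ∀ a : MulAut V, ∀ x ∈ K, a x ∈ K) : K.Normal :=
  ⟨fun x hx g => h (MulAut.conj g) x hx⟩

theorem commutative_of_card_le_sq (hV : IsPGroup p V) (h : Nat.card V ≤ p ^ 2) (x y : V) : x * y = y * x := by
  obtain ⟨k, hk⟩ := IsPGroup.iff_card.mp hV
  rw [hk] at h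
  have hk2 := (Nat.pow_le_pow_iff_right hp.out.one_lt).mp h
  rcases Nat.lt_or_ge k 2 with h1 | h2
  · have hdvd : Nat.card V ∣ p := hk ▸ (Nat.pow_dvd_pow p (show k ≤ 1 by omega)).trans (by rw [pow_one])
    rcases (Nat.dvd_prime hp.out).mp hdvd with h0 | h0
    · haveI := (Nat.card_eq_one_iff_unique.mp h0).1
      exact Subsingleton.elim _ _
    · haveI := isCyclic_of_prime_card h0
      letI := IsCyclic.commGroup (α := V)
      exact mul_comm x y
  · haveI : IsMulCommutative V :=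
      IsPGroup.isMulCommutative_of_card_eq_prime_sq (p := p) (by rw [hk]; congr 1; omega)
    exact (IsMulCommutative.is_comm.comm x y)

/-- In a nonabelian group of order `p ^ 3` commutators are central of order dividing `p`. -/
theorem commutator_facts (hV : IsPGroup p V) (hcard : Nat.card V ≤ p ^ 3) {a b : V}
    (hab : a * b ≠ b * a) :
    Nat.card (Subgroup.center V) = p ∧ ∀ x y : V, ⁅x, y⁆ ∈ Subgroup.center V := by
  haveI : Nontrivial V := ⟨⟨a, b, fun h => hab (by rw [h])⟩⟩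
  have hZ : Nontrivial (Subgroup.center V) := hV.center_nontrivial
  obtain ⟨i, hi, hic⟩ := (hV.to_subgroup (Subgroup.center V)).nontrivial_iff_card.mp hZ
  have hmul := Subgroup.card_eq_card_quotient_mul_card_subgroup (Subgroup.center V)
  have hi1 : i = 1 := by
    by_contra hne
    refine hab ?_
    have hle : p ^ 2 ≤ Nat.card (Subgroup.center V) := hic ▸ Nat.pow_le_pow_right hp.out.pos (by omega)
    have hq : Nat.card (V ⧸ Subgroup.center V) ≤ p := by
      have h1 : Nat.card (V ⧸ Subgroup.center V) * p ^ 2 ≤ p * p ^ 2 := by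
        rw [← pow_succ']
        exact le_trans (Nat.mul_le_mul_left _ hle) (hmul ▸ hcard)
      exact Nat.le_of_mul_le_mul_right h1 (pow_pos hp.out.pos 2)
    haveI : IsCyclic (V ⧸ Subgroup.center V) := by
      obtain ⟨j, hj⟩ := IsPGroup.iff_card.mp (hV.to_quotient (Subgroup.center V))
      rw [hj] at hq
      have hj1 : j ≤ 1 := (Nat.pow_le_pow_iff_right hp.out.one_lt).mp (le_of_le_of_eq hq (pow_one p).symm)
      rcases Nat.le_one_iff_eq_zero_or_eq_one.mp hj1 with rfl | rfl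
      · haveI := (Nat.card_eq_one_iff_unique.mp (hj.trans (pow_zero p))).1
        exact isCyclic_of_subsingleton
      · exact isCyclic_of_prime_card (hj.trans (pow_one p))
    exact commutative_of_cyclic_center_quotient (QuotientGroup.mk' (Subgroup.center V))
      (by simp) a b
  refine ⟨by rw [hic, hi1, pow_one], fun x y => ?_⟩
  have hq : Nat.card (V ⧸ Subgroup.center V) ≤ p ^ 2 := by
    rw [hmul, hic, hi1, pow_one, pow_succ] at hcard
    exact Nat.le_of_mul_le_mul_right hcard hp.out.pos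
  exact mk_commutator_eq_one_iff.mp (commutative_of_card_le_sq (hV.to_quotient _) hq _ _)

/-- A group of order at most `p ^ 3` has a short invariant chain or exponent `p`. -/
theorem exists_chain_or_exp (hp2 : p ≠ 2) (hV : IsPGroup p V) (hcard : Nat.card V ≤ p ^ 3) :
    (∃ K₁ K₂ : Subgroup V, IsShortChain p K₁ K₂) ∨
      (p < Nat.card V ∧ ∀ x : V, x ^ p = 1) := by
  by_cases hsmall : Nat.card V ≤ p
  · refine Or.inl ⟨⊤, ⊤, le_rfl, fun _ x _ => Subgroup.mem_top _, fun _ x _ => Subgroup.mem_top _, ?_, ?_, ?_⟩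
    all_goals rw [Subgroup.card_top]
    · exact hsmall
    all_goals exact Nat.le_mul_of_pos_left _ hp.out.pos
  by_cases hexp : ∀ x : V, x ^ p = 1
  · exact Or.inr ⟨Nat.not_le.mp hsmall, hexp⟩
  push_neg at hexp
  obtain ⟨x₀, hx₀⟩ := hexp
  have hcom : ∀ x y : V, (∀ g, Commute ⁅y, x⁆ g) ∧ ⁅y, x⁆ ^ p = 1 := by
    intro x y
    by_cases hab : ∀ a b : V, a * b = b * a
    · rw [commutatorElement_eq_one_iff_mul_comm.mpr (hab y x)]
      exact ⟨Commute.one_left, one_pow p⟩
    push_neg at hab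
    obtain ⟨a, b, hab⟩ := hab
    obtain ⟨hc, hcen⟩ := commutator_facts hV hcard hab
    refine ⟨fun g => (Subgroup.mem_center_iff.mp (hcen y x) g).symm, ?_⟩
    exact orderOf_dvd_iff_pow_eq_one.mp (hc ▸ Subgroup.orderOf_dvd_natCard _ (hcen y x))
  let π : V →* V :=
    { toFun := fun x => x ^ p
      map_one' := one_pow p
      map_mul' := fun x y => by
        show (x * y) ^ p = x ^ p * y ^ p
        rw [CfsgLib.PGroups.mul_pow_of_commute ((hcom x y).1 x) ((hcom x y).1 y)]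
        obtain ⟨k, hk⟩ := CfsgLib.PGroups.dvd_choose_two_of_odd (hp.out.odd_of_ne_two hp2)
        rw [hk, pow_mul, (hcom x y).2, one_pow, mul_one] }
  have hπ : ∀ x, π x = x ^ p := fun _ => rfl
  have hRne : π.range ≠ ⊥ := fun h => hx₀ (by
    have : π x₀ ∈ π.range := ⟨x₀, rfl⟩
    rwa [h, Subgroup.mem_bot] at this)
  have hkey : ∀ H : Subgroup V, H ≠ ⊥ → ∃ y ∈ H, y ≠ 1 ∧ y ∈ π.ker := by
    intro H hH
    haveI : Nontrivial H := H.nontrivial_iff_ne_bot.mpr hH
    obtain ⟨i, hi, hic⟩ := (hV.to_subgroup H).nontrivial_iff_card.mp inferInstance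
    obtain ⟨y, hy⟩ := exists_prime_orderOf_dvd_card' (G := H) p (hic ▸ dvd_pow_self p (by omega))
    refine ⟨y, y.2, fun h => ?_, ?_⟩
    · rw [show y = 1 from Subtype.ext h, orderOf_one] at hy
      exact hp.out.one_lt.ne hy
    · rw [MonoidHom.mem_ker, hπ]
      exact congrArg Subtype.val (orderOf_dvd_iff_pow_eq_one.mp hy.dvd)
  have hmul : Nat.card π.range * Nat.card π.ker = Nat.card V := by
    rw [← Subgroup.index_ker π, mul_comm]
    exact Subgroup.card_mul_index π.ker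
  have hWne : π.ker ≠ ⊥ := by
    obtain ⟨y, -, hy1, hy⟩ := hkey π.range hRne
    exact fun h => hy1 (by rwa [h, Subgroup.mem_bot] at hy)
  have hcardne : ∀ H : Subgroup V, H ≠ ⊥ → p ≤ Nat.card H := by
    intro H hH
    haveI : Nontrivial H := H.nontrivial_iff_ne_bot.mpr hH
    obtain ⟨i, hi, hic⟩ := (hV.to_subgroup H).nontrivial_iff_card.mp inferInstance
    exact hic ▸ Nat.le_self_pow (by omega) p
  have invR : ∀ a : MulAut V, ∀ x ∈ π.range, a x ∈ π.range := by
    rintro a _ ⟨x, rfl⟩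
    exact ⟨a x, by rw [hπ, hπ, map_pow]⟩
  have invW : ∀ a : MulAut V, ∀ x ∈ π.ker, a x ∈ π.ker := fun a x hx => by
    rw [MonoidHom.mem_ker, hπ, ← map_pow, ← hπ, MonoidHom.mem_ker.mp hx, map_one]
  rcases le_or_gt (Nat.card π.range) p with hR | hR
  · -- the image has order `p`
    have hRW : π.range ≤ π.ker := by
      obtain ⟨y, hy, hy1, hyW⟩ := hkey π.range hRne
      intro z hz
      have heq : Subgroup.zpowers y = π.range := by
        refine Subgroup.eq_of_le_of_card_ge (Subgroup.zpowers_le.mpr hy) (hR.trans ?_)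
        exact hcardne _ (fun h => hy1 (Subgroup.zpowers_eq_bot.mp h))
      rw [← heq] at hz
      exact (Subgroup.zpowers_le.mpr hyW) hz
    refine Or.inl ⟨π.range, π.ker, hRW, invR, invW, hR, ?_, ?_⟩
    · refine le_trans ?_ (Nat.mul_le_mul_left p (hcardne _ hRne))
      have h1 : p * Nat.card π.ker ≤ p * p ^ 2 := by
        rw [← pow_succ']
        exact le_trans (Nat.mul_le_mul_right _ (hcardne _ hRne)) (hmul ▸ hcard)
      rw [← pow_two]
      exact Nat.le_of_mul_le_mul_left h1 hp.out.pos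
    · exact hmul ▸ Nat.mul_le_mul_right _ hR
  · -- the kernel has order `p`
    have hR2 : p ^ 2 ≤ Nat.card π.range := by
      obtain ⟨i, hi⟩ := IsPGroup.iff_card.mp (hV.to_subgroup π.range)
      rw [hi] at hR ⊢
      refine Nat.pow_le_pow_right hp.out.pos ?_
      by_contra hlt
      have := Nat.pow_le_pow_right hp.out.pos (show i ≤ 1 by omega)
      rw [pow_one] at this
      omega
    have hW : Nat.card π.ker ≤ p := by
      have h1 : p ^ 2 * Nat.card π.ker ≤ p ^ 2 * p := by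
        rw [← pow_succ]
        exact le_trans (Nat.mul_le_mul_right _ hR2) (hmul ▸ hcard)
      exact Nat.le_of_mul_le_mul_left h1 (pow_pos hp.out.pos 2)
    have hWR : π.ker ≤ π.range := by
      obtain ⟨y, hy, hy1, hyW⟩ := hkey π.range hRne
      intro z hz
      have heq : Subgroup.zpowers y = π.ker := by
        refine Subgroup.eq_of_le_of_card_ge (Subgroup.zpowers_le.mpr hyW) (hW.trans ?_)
        exact hcardne _ (fun h => hy1 (Subgroup.zpowers_eq_bot.mp h))
      rw [← heq] at hz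
      exact (Subgroup.zpowers_le.mpr hy) hz
    refine Or.inl ⟨π.ker, π.range, hWR, invW, invR, hW, ?_, ?_⟩
    · have hRle : Nat.card π.range ≤ p ^ 2 := by
        have h1 : Nat.card π.range * p ≤ p ^ 2 * p := by
          rw [← pow_succ]
          exact le_trans (Nat.mul_le_mul_left _ (hcardne _ hWne)) (hmul ▸ hcard)
        exact Nat.le_of_mul_le_mul_right h1 hp.out.pos
      refine hRle.trans ?_
      rw [pow_two]
      exact Nat.mul_le_mul_left p (hcardne _ hWne)
    · rw [← hmul, mul_comm p]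
      exact Nat.mul_le_mul_left _ hW

theorem isExtraspecial_of_exp (hV : IsPGroup p V) (hcard : Nat.card V = p ^ 3) (hexp : ∀ x : V, x ^ p = 1)
    {a b : V} (hab : a * b ≠ b * a) : IsExtraspecial p V ∧ Monoid.exponent V = p := by
  obtain ⟨hc, hcen⟩ := commutator_facts hV hcard.le hab
  have hcomm : commutator V = Subgroup.center V := by
    have hle : commutator V ≤ Subgroup.center V := by
      rw [commutator_def, Subgroup.commutator_le]
      exact fun x _ y _ => hcen x y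
    refine Subgroup.eq_of_le_of_card_ge hle ?_
    rw [hc]
    haveI : Nontrivial (commutator V) := (commutator V).nontrivial_iff_ne_bot.mpr fun h => hab
      (commutatorElement_eq_one_iff_mul_comm.mp (by
        have := Subgroup.commutator_mem_commutator (Subgroup.mem_top a) (Subgroup.mem_top b)
        rwa [← commutator_def, h, Subgroup.mem_bot] at this))
    obtain ⟨i, hi, hic⟩ := (hV.to_subgroup (commutator V)).nontrivial_iff_card.mp inferInstance
    exact hic ▸ Nat.le_self_pow (by omega) p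
  refine ⟨⟨⟨hV, le_antisymm ?_ ?_, hcomm⟩, hc⟩, ?_⟩
  · exact CfsgLib.PGroups.frattini_le_of (p := p) hcomm.le (fun x => by rw [hexp x]; exact one_mem _)
  · exact hcomm.ge.trans (CfsgLib.PGroups.commutator_le_frattini hV)
  · refine ((Nat.dvd_prime hp.out).mp (Monoid.exponent_dvd_of_forall_pow_eq_one hexp)).resolve_left ?_
    intro h
    have h1 : ∀ g : V, g = 1 := fun g => by
      have := Monoid.pow_exponent_eq_one g
      rwa [h, pow_one] at this
    exact hab (by rw [h1 a, h1 b])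

end Classify

/-! ### Fusion -/

variable {Ω : Type*} [Group Ω] {S : Subgroup Ω} [Finite S] {F : FusionSystem S}

/-- An essential subgroup has no short invariant chain. -/
theorem false_of_chain (hS : IsPGroup p S) {E : Subgroup Ω} (hE : F.IsEssential p E) (hES : E ≠ S)
    {K₁ K₂ : Subgroup E} (hK : IsShortChain p K₁ K₂) : False := by
  have hEle : E ≤ S := hE.2.1.1
  haveI := finite_of_le hEle
  haveI := finite_autGroup F hEle
  have hEp := isPGroup_of_le hS hEle
  haveI := normal_of_inv hK.inv₁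
  haveI := normal_of_inv hK.inv₂
  set U := chainStab K₁ K₂ hK.le
  haveI := chainStab_normal hK
  have hK2 : Nat.card K₂ ≤ p ^ 2 := by
    rw [pow_two]
    exact hK.card₂.trans (Nat.mul_le_mul_left p hK.card₁)
  have hUp : IsPGroup p (U.subgroupOf (F.autGroup E)) := fun a =>
    ⟨3, Subtype.ext (Subtype.ext (chainStab_pow hEp hK.le hK.card₁ hK2 a.2))⟩
  have hle : U.subgroupOf (F.autGroup E) ≤ pCore p (F.autGroup E) :=
    le_sSup ⟨inferInstance, hUp⟩
  obtain ⟨g, hg, hgE⟩ := SetLike.exists_of_lt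
    (CfsgLib.Alperin.lt_normalizerIn hS (lt_of_le_of_ne hEle hES))
  set τ : F.autGroup E := ⟨conjAut E g hg.2, autInducedBy_le_autGroup F hEle (conjAut_mem hg.1 hg.2)⟩
  obtain ⟨r, hr⟩ := isPGroup_autInducedBy hS E ⟨conjAut E g hg.2, conjAut_mem hg.1 hg.2⟩
  have hτ : τ ∈ pCore p (F.autGroup E) := hle
    (Subgroup.mem_subgroupOf.mpr (mem_chainStab hEp hK (congrArg Subtype.val hr)))
  have hτI : (τ : MulAut E) ∈ Inn E := by
    rw [← (isRadical_of_essential hS hE).2]
    exact ⟨τ, hτ, rfl⟩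
  exact hgE (mem_of_conjAut_mem_inn hEle (hE.1.2 E (isConj_refl F hEle)) hg.1 (fun _ => rfl) hτI)

/-- `f` is, on `P`, a map of the system. -/
def Rep (F : FusionSystem S) (P : Subgroup S) (f : S → S) : Prop :=
  ∃ ψ ∈ F.Hom (P.map S.subtype), ∀ (x : S) (hx : x ∈ P), ψ ⟨x, x, hx, rfl⟩ = (f x : Ω)

namespace Rep

variable {P Q : Subgroup S} {f g : S → S}

theorem map_mul (h : Rep F P f) {x y : S} (hx : x ∈ P) (hy : y ∈ P) : f (x * y) = f x * f y := by
  obtain ⟨ψ, -, e⟩ := h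
  refine Subtype.ext ?_
  rw [Subgroup.coe_mul, ← e _ (mul_mem hx hy), ← e x hx, ← e y hy, ← _root_.map_mul]
  rfl

theorem map_one (h : Rep F P f) : f 1 = 1 := by
  have := h.map_mul P.one_mem P.one_mem
  rwa [one_mul, left_eq_mul] at this

theorem map_inv (h : Rep F P f) {x : S} (hx : x ∈ P) : f x⁻¹ = (f x)⁻¹ :=
  eq_inv_of_mul_eq_one_left (by rw [← h.map_mul (inv_mem hx) hx, inv_mul_cancel, h.map_one])

theorem map_pow (h : Rep F P f) {x : S} (hx : x ∈ P) (r : ℕ) : f (x ^ r) = f x ^ r := by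
  induction r with
  | zero => rw [pow_zero, pow_zero, h.map_one]
  | succ r ih => rw [pow_succ, pow_succ, h.map_mul (pow_mem hx r) hx, ih]

theorem map_zpow (h : Rep F P f) {x : S} (hx : x ∈ P) (z : ℤ) : f (x ^ z) = f x ^ z := by
  obtain ⟨r, rfl | rfl⟩ := Int.eq_nat_or_neg z
  · rw [zpow_natCast, zpow_natCast, h.map_pow hx]
  · rw [zpow_neg, zpow_neg, zpow_natCast, zpow_natCast, h.map_inv (pow_mem hx r), h.map_pow hx]

theorem map_commutator (h : Rep F P f) {x y : S} (hx : x ∈ P) (hy : y ∈ P) :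
    f ⁅x, y⁆ = ⁅f x, f y⁆ := by
  rw [commutatorElement_def, commutatorElement_def,
    h.map_mul (mul_mem (mul_mem hx hy) (inv_mem hx)) (inv_mem hy),
    h.map_mul (mul_mem hx hy) (inv_mem hx), h.map_mul hx hy, h.map_inv hx, h.map_inv hy]

theorem inj (h : Rep F P f) {x y : S} (hx : x ∈ P) (hy : y ∈ P) (e : f x = f y) : x = y := by
  obtain ⟨ψ, hψ, he⟩ := h
  have := F.injective_of_mem hψ ((he x hx).trans ((congrArg Subtype.val e).trans (he y hy).symm))
  exact Subtype.ext (congrArg (fun z : ↥(P.map S.subtype) => (z : Ω)) this :)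

theorem mono (h : Rep F P f) (hQ : Q ≤ P) : Rep F Q f := by
  obtain ⟨ψ, hψ, e⟩ := h
  exact ⟨_, restrict_mem hψ (Subgroup.map_mono hQ), fun x hx => e x (hQ hx)⟩

theorem comp (h : Rep F P f) (h' : Rep F Q g) (hPQ : ∀ x ∈ P, f x ∈ Q) : Rep F P (g ∘ f) := by
  obtain ⟨ψ, hψ, e⟩ := h
  obtain ⟨χ, hχ, e'⟩ := h'
  have hmem : ∀ z : ↥(P.map S.subtype), ψ z ∈ Q.map S.subtype := by
    rintro ⟨_, x, hx, rfl⟩
    exact ⟨f x, hPQ x hx, (e x hx).symm⟩
  refine ⟨_, F.comp_mem hψ hχ hmem, fun x hx => ?_⟩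
  refine Eq.trans ?_ (e' (f x) (hPQ x hx))
  exact congrArg χ (Subtype.ext (e x hx))

theorem conj (F : FusionSystem S) (P : Subgroup S) (s : S) : Rep F P (fun x => s * x * s⁻¹) :=
  ⟨_, F.conj_mem (P := P.map S.subtype) (g := (s : Ω)) (Subgroup.map_subtype_le P) s.2,
    fun _ _ => rfl⟩

theorem exists_aut (h : Rep F P f) (hP : ∀ x ∈ P, f x ∈ P) :
    ∃ α ∈ F.autGroup (P.map S.subtype), ∀ (x : S) (hx : x ∈ P),
      ((α ⟨x, x, hx, rfl⟩ : ↥(P.map S.subtype)) : Ω) = f x := by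
  obtain ⟨ψ, hψ, e⟩ := h
  haveI := finite_of_le (Subgroup.map_subtype_le P)
  obtain ⟨α, hα, hαx⟩ := exists_aut_of_hom' F hψ (by
    rintro ⟨_, x, hx, rfl⟩
    exact ⟨f x, hP x hx, (e x hx).symm⟩)
  exact ⟨α, hα, fun x hx => (hαx _).trans (e x hx)⟩

theorem of_aut {α : MulAut ↥(P.map S.subtype)} (hα : α ∈ F.autGroup (P.map S.subtype)) :
    ∃ f : S → S, Rep F P f ∧ (∀ x ∈ P, f x ∈ P) ∧
      ∀ (x : S) (hx : x ∈ P), ((α ⟨x, x, hx, rfl⟩ : ↥(P.map S.subtype)) : Ω) = f x := by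
  classical
  let f : S → S := fun x => if hx : x ∈ P then
    ⟨(α ⟨x, x, hx, rfl⟩ : ↥(P.map S.subtype)), Subgroup.map_subtype_le P (α ⟨x, x, hx, rfl⟩).2⟩ else 1
  have hf : ∀ (x : S) (hx : x ∈ P), ((α ⟨x, x, hx, rfl⟩ : ↥(P.map S.subtype)) : Ω) = f x := fun x hx => by
    simp [f, hx]
  refine ⟨f, ⟨_, (mem_autGroup_iff F (Subgroup.map_subtype_le P)).mp hα, hf⟩, fun x hx => ?_, hf⟩
  obtain ⟨z, hz, e⟩ := (α ⟨x, x, hx, rfl⟩).2
  exact (Subtype.ext (e.trans (hf x hx)) : z = f x) ▸ hz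

theorem symm (h : Rep F P f) (hP : ∀ x ∈ P, f x ∈ P) :
    ∃ g : S → S, Rep F P g ∧ (∀ x ∈ P, g x ∈ P) ∧ (∀ x ∈ P, g (f x) = x) ∧ ∀ x ∈ P, f (g x) = x := by
  obtain ⟨α, hα, e⟩ := h.exists_aut hP
  obtain ⟨g, hg, hgP, e'⟩ := of_aut (inv_mem hα)
  refine ⟨g, hg, hgP, fun x hx => Subtype.ext ?_, fun x hx => Subtype.ext ?_⟩
  · rw [← e' _ (hP x hx)]
    have h2 : (⟨(f x : Ω), f x, hP x hx, rfl⟩ : ↥(P.map S.subtype)) = α ⟨x, x, hx, rfl⟩ :=
      Subtype.ext (e x hx).symm
    rw [h2, MulAut.inv_apply_self]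
  · rw [← e _ (hgP x hx)]
    have h2 : (⟨(g x : Ω), g x, hgP x hx, rfl⟩ : ↥(P.map S.subtype)) = α⁻¹ ⟨x, x, hx, rfl⟩ :=
      Subtype.ext (e' x hx).symm
    rw [h2, MulAut.apply_inv_self]

theorem isConj (h : Rep F P f) (hPQ : ∀ x ∈ P, f x ∈ Q) (hc : Nat.card Q ≤ Nat.card P) :
    F.IsConj (P.map S.subtype) (Q.map S.subtype) := by
  obtain ⟨ψ, hψ, e⟩ := h
  haveI := finite_of_le (Subgroup.map_subtype_le (H := S) Q)
  refine ⟨ψ, hψ, Subgroup.eq_of_le_of_card_ge ?_ ?_⟩
  · rintro _ ⟨⟨_, x, hx, rfl⟩, rfl⟩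
    exact ⟨f x, hPQ x hx, (e x hx).symm⟩
  · rw [card_range_eq (F.injective_of_mem hψ), Subgroup.card_subtype, Subgroup.card_subtype]
    exact hc

theorem extend (h : Rep F P f) (hP : ∀ x ∈ P, f x ∈ P) (hrec : F.IsReceptive (P.map S.subtype))
    {R : Subgroup S} (hPR : P ≤ R)
    (hR : ∀ ψ : ↥(P.map S.subtype) →* Ω, (∀ (x : S) (hx : x ∈ P), ψ ⟨x, x, hx, rfl⟩ = (f x : Ω)) →
      R.map S.subtype ≤ extender S (P.map S.subtype) ψ) :
    ∃ g : S → S, Rep F R g ∧ ∀ x ∈ P, g x = f x := by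
  classical
  obtain ⟨ψ, hψ, e⟩ := h
  haveI := finite_of_le (Subgroup.map_subtype_le P)
  have hr : ψ.range = P.map S.subtype := by
    refine Subgroup.eq_of_le_of_card_ge ?_ (card_range_eq (F.injective_of_mem hψ)).ge
    rintro _ ⟨⟨_, x, hx, rfl⟩, rfl⟩
    exact ⟨f x, hP x hx, (e x hx).symm⟩
  obtain ⟨χ, hχ, hχx⟩ := hrec.2 _ ψ hψ hr
  have hχ' := restrict_mem hχ (hR ψ e)
  let g : S → S := fun x => if hx : x ∈ R then
    ⟨χ (Subgroup.inclusion (hR ψ e) ⟨x, x, hx, rfl⟩), apply_mem hχ _⟩ else 1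
  refine ⟨g, ⟨_, hχ', fun x hx => by simp [g, hx]⟩, fun x hx => Subtype.ext ?_⟩
  simp only [g, dif_pos (hPR hx)]
  exact (hχx x ⟨x, hx, rfl⟩ _).trans (e x hx)

theorem mem_extender {ψ : ↥(P.map S.subtype) →* Ω}
    (e : ∀ (x : S) (hx : x ∈ P), ψ ⟨x, x, hx, rfl⟩ = (f x : Ω)) {r s : S}
    (hn : ∀ x ∈ P, r * x * r⁻¹ ∈ P) (hs : ∀ x ∈ P, f (r * x * r⁻¹) = s * f x * s⁻¹) :
    (r : Ω) ∈ extender S (P.map S.subtype) ψ := by
  haveI := finite_of_le (Subgroup.map_subtype_le P)
  have hnorm : (r : Ω) ∈ Subgroup.normalizer ((P.map S.subtype : Subgroup Ω) : Set Ω) := by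
    refine mem_normalizer ?_
    rintro _ ⟨x, hx, rfl⟩
    exact ⟨r * x * r⁻¹, hn x hx, rfl⟩
  refine mem_extender_iff.mpr ⟨r.2, hnorm, s, s.2, ?_⟩
  rintro ⟨_, x, hx, rfl⟩ hmem
  exact (e (r * x * r⁻¹) (hn x hx)).trans ((congrArg Subtype.val (hs x hx)).trans
    (congrArg (fun w : Ω => (s : Ω) * w * (s : Ω)⁻¹) (e x hx).symm))

end Rep

section Main

variable {n : ℕ}

/-- The transvection setup at an elementary abelian essential subgroup of order `p ^ 3`. -/
theorem transvection_setup (hS : IsPGroup p S) (hF : F.IsSaturated p) {E₀ : Subgroup S}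
    (hE : F.IsEssential p (E₀.map S.subtype)) (hcard : Nat.card E₀ = p ^ 3)
    (hcom : ∀ x ∈ E₀, ∀ y ∈ E₀, x * y = y * x) (hexp : ∀ x ∈ E₀, x ^ p = 1)
    {n₀ : S} (hn₀ : n₀ ∉ E₀) (hn : ∀ e ∈ E₀, ⁅n₀, e⁆ ∈ E₀) {A : Subgroup S} (hA : A ≤ E₀)
    (hAcard : Nat.card A = p ^ 2) (hAfix : ∀ a ∈ A, Commute n₀ a) {c : S} (hc : c ∈ A)
    (hdisp : ∀ e ∈ E₀, ⁅n₀, e⁆ ∈ Subgroup.zpowers c)
    (hcent : ∀ g : S, (∀ e ∈ E₀, ⁅g, e⁆ ∈ E₀) → ⁅g, n₀⁆ ∈ E₀) :
    (∀ g : S, (∀ e ∈ E₀, ⁅g, e⁆ ∈ E₀) → g ∈ E₀ ⊔ Subgroup.zpowers n₀) ∧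
    (∀ e ∈ E₀, Commute n₀ e → e ∈ A) ∧
    ∃ φ : S → S, Rep F (E₀ ⊔ Subgroup.zpowers n₀) φ ∧ (∀ e ∈ E₀, φ e ∈ E₀) ∧
      φ c = c⁻¹ ∧ (∀ a ∈ A, a⁻¹ * φ a ∈ Subgroup.zpowers c) ∧ (∀ e ∈ E₀, φ e * e ∈ A) ∧
      (∃ d ∈ A, d ∉ Subgroup.zpowers c ∧ φ d = d) ∧ (∀ e ∈ E₀, φ (φ e) = e) ∧
      n₀⁻¹ * φ n₀ ∈ E₀ := by
  set E := E₀.map S.subtype with hEd
  have hEle : E ≤ S := Subgroup.map_subtype_le E₀
  haveI := finite_of_le hEle
  haveI := finite_autGroup F hEle
  have hcardE : Nat.card E = p ^ 3 := by rw [hEd, Subgroup.card_subtype, hcard]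
  have hCE : ∀ g : S, (∀ e ∈ E₀, Commute g e) → g ∈ E₀ := by
    intro g hg
    obtain ⟨e, he, heg⟩ := hE.1.2 E (isConj_refl F hEle)
      (show (g : Ω) ∈ centralizerIn S E from ⟨g.2, by
        rintro _ ⟨e, he, rfl⟩
        exact congrArg Subtype.val (hg e he).eq.symm⟩)
    exact (Subtype.ext heg : e = g) ▸ he
  have hnorm : ∀ g : S, (∀ e ∈ E₀, ⁅g, e⁆ ∈ E₀) ↔ (g : Ω) ∈ Subgroup.normalizer (E : Set Ω) := by
    intro g
    constructor
    · intro h
      refine mem_normalizer ?_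
      rintro _ ⟨e, he, rfl⟩
      refine ⟨⁅g, e⁆ * e, E₀.mul_mem (h e he) he, ?_⟩
      simp [commutatorElement_def]
    · intro h e he
      obtain ⟨e', he', h'⟩ := mem_normalizer_conj h (show (e : Ω) ∈ E from ⟨e, he, rfl⟩)
      have h2 : e' = g * e * g⁻¹ := Subtype.ext h'
      rw [commutatorElement_def]
      exact E₀.mul_mem (h2 ▸ he') (E₀.inv_mem he)
  letI : CommGroup E := { (inferInstance : Group E) with
    mul_comm := by
      rintro ⟨_, x, hx, rfl⟩ ⟨_, y, hy, rfl⟩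
      exact Subtype.ext (show (x : Ω) * y = y * x from congrArg Subtype.val (hcom x hx y hy)) }
  -- the transvection
  have hn' := (hnorm n₀).mp hn
  set X := F.autGroup E
  obtain ⟨-, -, R, hR⟩ := centralized_automized_of_fullyNormalized hS hF hE.2.1
  set t : X := ⟨conjAut E n₀ hn', autInducedBy_le_autGroup F hEle (conjAut_mem n₀.2 hn')⟩
  have hInn : Inn E = ⊥ := by
    refine le_bot_iff.mp ?_
    rintro _ ⟨u, rfl⟩
    refine Subgroup.mem_bot.mpr (MulEquiv.ext fun z => ?_)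
    show u * z * u⁻¹ = z
    rw [mul_comm u z, mul_inv_cancel_right]
  obtain ⟨hnI, Y₀, hY₀⟩ := hE.2.2
  haveI := hnI
  set π := QuotientGroup.mk' ((Inn E).subgroupOf X)
  have hπinj : Function.Injective π := by
    rw [← MonoidHom.ker_eq_bot_iff, QuotientGroup.ker_mk', hInn, Subgroup.bot_subgroupOf]
  let T' : Sylow p (X ⧸ (Inn E).subgroupOf X) := R.mapSurjective (QuotientGroup.mk'_surjective _)
  obtain ⟨Y', hY'ne, hY'⟩ := exists_core_le_of_stronglyPEmbedded hY₀ T'
  have hcore : kGeneratedCore p 1 (R : Subgroup X) ≤ Y'.comap π := by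
    refine iSup_le fun Q n hn => ?_
    obtain ⟨Q, hQ, hQr⟩ := Q
    refine normalizer_le_of_core_le hY' (Q := Q.map π) (Subgroup.map_mono hQ) ?_ ?_
    · intro hb
      refine hQr fun B _ _ => ?_
      haveI : Subsingleton Q := by
        rw [(Subgroup.map_eq_bot_iff_of_injective _ hπinj).mp hb]; infer_instance
      simp [Nat.card_unique]
    · exact Subgroup.le_normalizer_map π ⟨n, hn, rfl⟩
  let AV : Subgroup E := (A.map S.subtype).subgroupOf E
  let cV : E := ⟨c, c, hA hc, rfl⟩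
  have hconjE : ∀ e ∈ E₀, (⁅n₀, e⁆ : S) * e = n₀ * e * n₀⁻¹ := fun e _ => by
    rw [commutatorElement_def, inv_mul_cancel_right]
  have D : Transvection.Data p X R (Y'.comap π) t AV cV := by
    refine ⟨?_, hcardE, ?_, hcore, ?_, ?_, ?_, ?_, ⟨c, hc, rfl⟩, ?_, ?_⟩
    · rintro ⟨_, x, hx, rfl⟩
      exact Subtype.ext (congrArg Subtype.val (hexp x hx) :)
    · rw [show Nat.card AV = Nat.card (A.map S.subtype) from
        Nat.card_congr (Subgroup.subgroupOfEquivOfLe (Subgroup.map_mono hA)).toEquiv,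
        Subgroup.card_subtype, hAcard]
    · intro htop
      refine hY'ne (eq_top_iff.mpr fun q _ => ?_)
      obtain ⟨x, rfl⟩ := QuotientGroup.mk'_surjective _ q
      exact htop.ge (Subgroup.mem_top x)
    · rw [hR]
      exact conjAut_mem n₀.2 hn'
    · intro q hq
      rw [hR] at hq
      obtain ⟨g, hg, hgx⟩ := mem_autInducedBy_iff.mp (Subgroup.mem_subgroupOf.mp hq)
      set g' : S := ⟨g, hg⟩
      have hgn : ∀ e ∈ E₀, ⁅g', e⁆ ∈ E₀ := (hnorm g').mpr (normalizer_of_induced hgx)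
      refine Subtype.ext (MulEquiv.ext ?_)
      rintro ⟨_, e, he, rfl⟩
      refine Subtype.ext ?_
      have h1 : ((t : MulAut E) ⟨_, e, he, rfl⟩ : E).1 = (n₀ * e * n₀⁻¹ : S) := rfl
      show (((q : MulAut E) ((t : MulAut E) ⟨_, e, he, rfl⟩)) : Ω) =
        ((t : MulAut E) ((q : MulAut E) ⟨_, e, he, rfl⟩) : E)
      rw [hgx, h1]
      show g * ((n₀ * e * n₀⁻¹ : S) : Ω) * g⁻¹ = n₀ * ((q : MulAut E) ⟨_, e, he, rfl⟩ : E) * (n₀ : Ω)⁻¹
      rw [hgx]
      have hu := hcent g' hgn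
      have h2 : Commute ⁅g', n₀⁆ (n₀ * (g' * e * g'⁻¹) * n₀⁻¹) := by
        refine hcom _ hu _ ?_
        have h3 : g' * e * g'⁻¹ ∈ E₀ := by
          have := E₀.mul_mem (hgn e he) he
          rwa [commutatorElement_def, inv_mul_cancel_right] at this
        have := E₀.mul_mem (hn _ h3) h3
        rwa [hconjE _ h3] at this
      have h4 : g' * (n₀ * e * n₀⁻¹) * g'⁻¹ = n₀ * (g' * e * g'⁻¹) * n₀⁻¹ := by
        calc g' * (n₀ * e * n₀⁻¹) * g'⁻¹
            = ⁅g', n₀⁆ * (n₀ * (g' * e * g'⁻¹) * n₀⁻¹) * ⁅g', n₀⁆⁻¹ := by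
              rw [commutatorElement_def]; group
          _ = _ := by rw [h2.eq, mul_inv_cancel_right]
      exact congrArg Subtype.val h4
    · intro h1
      refine hn₀ (hCE n₀ fun e he => ?_)
      have h2 := congrArg Subtype.val (DFunLike.congr_fun (congrArg Subtype.val h1) ⟨_, e, he, rfl⟩)
      exact Subtype.ext (mul_inv_eq_iff_eq_mul.mp h2 : (n₀ : Ω) * e = e * n₀)
    · rintro ⟨x, hx⟩ ⟨a, ha, hae⟩
      refine Subtype.ext ?_
      show (n₀ : Ω) * x * (n₀ : Ω)⁻¹ = x
      rw [← (show (a : Ω) = x from hae)]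
      show ((n₀ * a * n₀⁻¹ : S) : Ω) = a
      rw [(hAfix a ha).eq, mul_inv_cancel_right]
    · rintro ⟨_, e, he, rfl⟩
      obtain ⟨i, hi⟩ := Subgroup.mem_zpowers_iff.mp (hdisp e he)
      refine ⟨i, Subtype.ext ?_⟩
      show ((cV ^ i : E) : Ω) = ((e : Ω))⁻¹ * ((n₀ * e * n₀⁻¹ : S) : Ω)
      rw [Subgroup.coe_zpow, ← hconjE e he, ← hi]
      show (c : Ω) ^ i = (e : Ω)⁻¹ * ((c ^ i * e : S) : Ω)
      rw [hcom _ (Subgroup.zpow_mem _ (hA hc) i) e he, Subgroup.coe_mul, inv_mul_cancel_left,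
        Subgroup.coe_zpow]
  refine ⟨fun g hg => ?_, fun e he hcomm => ?_, ?_⟩
  · have hgN := (hnorm g).mp hg
    set q : X := ⟨conjAut E g hgN, autInducedBy_le_autGroup F hEle (conjAut_mem g.2 hgN)⟩
    obtain ⟨i, hi⟩ := Subgroup.mem_zpowers_iff.mp
      (D.sylow_le (show q ∈ (R : Subgroup X) by rw [hR]; exact conjAut_mem g.2 hgN))
    have hti : ∀ (j : ℤ) (z : E), ((((t ^ j : X) : MulAut E) z : E) : Ω) =
        (n₀ : Ω) ^ j * (z : Ω) * ((n₀ : Ω) ^ j)⁻¹ := by
      intro j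
      induction j using Int.induction_on with
      | zero => intro z; simp
      | succ j ih =>
        intro z
        rw [zpow_add_one, zpow_add_one, Subgroup.coe_mul, MulAut.mul_apply, ih]
        show _ = _
        rw [show (((t : MulAut E) z : E) : Ω) = n₀ * z * (n₀ : Ω)⁻¹ from rfl]
        group
      | pred j ih =>
        intro z
        rw [zpow_sub_one, zpow_sub_one, Subgroup.coe_mul, MulAut.mul_apply, ih]
        rw [show ((((t⁻¹ : X) : MulAut E) z : E) : Ω) = (n₀ : Ω)⁻¹ * z * (n₀ : Ω) from by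
          obtain ⟨w, rfl⟩ := (t : MulAut E).surjective z
          show (((t : MulAut E).symm ((t : MulAut E) w) : E) : Ω) = _
          rw [MulEquiv.symm_apply_apply]
          show (w : Ω) = (n₀ : Ω)⁻¹ * (n₀ * w * (n₀ : Ω)⁻¹) * n₀
          group]
        group
    have hmem : n₀ ^ (-i) * g ∈ E₀ := hCE _ fun e he => by
      have h2 := congrArg (fun a : X => (((a : MulAut E) ⟨_, e, he, rfl⟩ : E) : Ω)) hi
      simp only [hti] at h2
      refine Subtype.ext ?_
      show ((n₀ : Ω) ^ (-i) * (g : Ω)) * e = e * ((n₀ : Ω) ^ (-i) * g)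
      have h3 : (n₀ : Ω) ^ i * e * ((n₀ : Ω) ^ i)⁻¹ = g * e * (g : Ω)⁻¹ := h2
      calc ((n₀ : Ω) ^ (-i) * (g : Ω)) * e = (n₀ : Ω) ^ (-i) * (g * e * (g : Ω)⁻¹) * g := by group
        _ = e * ((n₀ : Ω) ^ (-i) * g) := by rw [← h3]; group
    have := mul_mem (Subgroup.mem_sup_right (Subgroup.zpow_mem _ (Subgroup.mem_zpowers n₀) i) :
      n₀ ^ i ∈ E₀ ⊔ Subgroup.zpowers n₀) (Subgroup.mem_sup_left hmem)
    rwa [zpow_neg, mul_inv_cancel_left] at this
  · obtain ⟨a, ha, hae⟩ := D.mem_of_fixed (a := ⟨_, e, he, rfl⟩) (Subtype.ext (by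
      show ((n₀ * e * n₀⁻¹ : S) : Ω) = e
      rw [hcomm.eq, mul_inv_cancel_right]))
    exact (Subtype.ext hae : a = e) ▸ ha
  obtain ⟨h, hhc, hhA, hhx, hht, ⟨d, hd, hdc, hhd⟩, hhh⟩ := D.exists_involution
  obtain ⟨f, hf, hfE, hfh⟩ := Rep.of_aut h.2
  have hE₀U : E₀ ≤ E₀ ⊔ Subgroup.zpowers n₀ := le_sup_left
  obtain ⟨φ, hφ, hφf⟩ := hf.extend hfE (receptive_of_fullyNormalized hS hF hE.2.1) hE₀U (by
    intro ψ e
    rw [Subgroup.map_sup]
    have hEψ : ∀ x ∈ E₀, (x : Ω) ∈ extender S (E₀.map S.subtype) ψ := fun x hx =>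
      Rep.mem_extender e (s := f x) (fun z hz => E₀.mul_mem (E₀.mul_mem hx hz) (E₀.inv_mem hx))
        fun z hz => by
          rw [hf.map_mul (E₀.mul_mem hx hz) (E₀.inv_mem hx), hf.map_mul hx hz, hf.map_inv hx]
    refine sup_le (by rintro _ ⟨x, hx, rfl⟩; exact hEψ x hx) ?_
    rw [MonoidHom.map_zpowers, Subgroup.zpowers_le]
    have hnn : ∀ z ∈ E₀, n₀ * z * n₀⁻¹ ∈ E₀ := fun z hz => by
      have := E₀.mul_mem (hn z hz) hz
      rwa [hconjE z hz] at this
    refine Rep.mem_extender e (s := n₀) hnn fun z hz => Subtype.ext ?_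
    rw [← hfh _ (hnn z hz)]
    have h1 := congrArg (fun a : X => (((a : MulAut E) ⟨(z : Ω), z, hz, rfl⟩ : E) : Ω)) hht
    refine h1.trans ?_
    exact congrArg (fun w : Ω => (n₀ : Ω) * w * (n₀ : Ω)⁻¹) (hfh z hz))
  have hφh : ∀ (e : S) (he : e ∈ E₀), (φ e : Ω) = ((h : MulAut E) ⟨_, e, he, rfl⟩ : E) := fun e he =>
    (congrArg Subtype.val (hφf e he)).trans (hfh e he).symm
  refine ⟨φ, hφ, fun e he => by rw [hφf e he]; exact hfE e he, ?_, fun a ha => ?_, fun e he => ?_, ?_, ?_, ?_⟩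
  · refine Subtype.ext ?_
    rw [hφh c (hA hc)]
    exact congrArg Subtype.val hhc
  · obtain ⟨i, hi⟩ := Subgroup.mem_zpowers_iff.mp (hhA ⟨_, a, hA ha, rfl⟩ ⟨a, ha, rfl⟩)
    refine ⟨i, Subtype.ext ?_⟩
    show ((c ^ i : S) : Ω) = (a : Ω)⁻¹ * (φ a : Ω)
    rw [hφh a (hA ha), Subgroup.coe_zpow]
    exact congrArg Subtype.val hi
  · obtain ⟨a, ha, hae⟩ := hhx ⟨_, e, he, rfl⟩
    have h1 : a = φ e * e := Subtype.ext (by
      show (a : Ω) = (φ e : Ω) * (e : Ω)
      rw [hφh e he]; exact hae)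
    exact h1 ▸ ha
  · obtain ⟨a, ha, hae⟩ := hd
    have hd' : (⟨_, a, hA ha, rfl⟩ : E) = d := Subtype.ext hae
    refine ⟨a, ha, fun hac => hdc ?_, Subtype.ext ?_⟩
    · obtain ⟨i, hi⟩ := Subgroup.mem_zpowers_iff.mp hac
      refine ⟨i, Subtype.ext ?_⟩
      show ((cV ^ i : E) : Ω) = d
      rw [Subgroup.coe_zpow]
      exact ((congrArg Subtype.val hi :) : (c : Ω) ^ i = a).trans hae
    · rw [hφh a (hA ha), hd', hhd]
      exact hae.symm
  · intro e he
    refine Subtype.ext ?_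
    have he' : φ e ∈ E₀ := by rw [hφf e he]; exact hfE e he
    rw [hφh _ he']
    have h2 : (⟨_, φ e, he', rfl⟩ : E) = (h : MulAut E) ⟨_, e, he, rfl⟩ := Subtype.ext (hφh e he)
    rw [h2, hhh]
    rfl
  · refine hCE _ fun e he => ?_
    obtain ⟨u, hu⟩ := (h : MulAut E).surjective ⟨_, e, he, rfl⟩
    obtain ⟨_, u, hu', rfl⟩ := u
    have he2 : φ u = e := Subtype.ext ((hφh u hu').trans (congrArg Subtype.val hu))
    have hn0U : n₀ ∈ E₀ ⊔ Subgroup.zpowers n₀ := Subgroup.mem_sup_right (Subgroup.mem_zpowers n₀)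
    have hnu : n₀ * u * n₀⁻¹ ∈ E₀ := by
      have := E₀.mul_mem (hn u hu') hu'
      rwa [hconjE u hu'] at this
    have h1 : φ (n₀ * u * n₀⁻¹) = φ n₀ * φ u * (φ n₀)⁻¹ := by
      rw [hφ.map_mul (mul_mem hn0U (hE₀U hu')) (inv_mem hn0U), hφ.map_mul hn0U (hE₀U hu'), hφ.map_inv hn0U]
    have h2 : φ (n₀ * u * n₀⁻¹) = n₀ * φ u * n₀⁻¹ := by
      refine Subtype.ext ?_
      rw [hφh _ hnu]
      refine (congrArg (fun a : X => (((a : MulAut E) ⟨_, u, hu', rfl⟩ : E) : Ω)) hht).trans ?_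
      show (n₀ : Ω) * (((h : MulAut E) ⟨_, u, hu', rfl⟩ : E) : Ω) * (n₀ : Ω)⁻¹ = _
      rw [← hφh u hu']
      rfl
    rw [h1, he2] at h2
    show n₀⁻¹ * φ n₀ * e = e * (n₀⁻¹ * φ n₀)
    calc n₀⁻¹ * φ n₀ * e = n₀⁻¹ * (φ n₀ * e * (φ n₀)⁻¹) * φ n₀ := by group
      _ = e * (n₀⁻¹ * φ n₀) := by rw [h2]; group

/-- An essential subgroup of order `p ^ 3` of a group of maximal class is not elementary abelian. -/
theorem false_of_elementary (hS : IsPGroup p S) (h : Hyp p n S) (h5 : 5 ≤ n) (hp2 : p ≠ 2)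
    (hF : F.IsSaturated p) {E₀ : Subgroup S} (hE : F.IsEssential p (E₀.map S.subtype))
    (hcard : Nat.card E₀ = p ^ 3) (hcom : ∀ x ∈ E₀, ∀ y ∈ E₀, x * y = y * x)
    (hexp : ∀ x ∈ E₀, x ^ p = 1) : False := by
  set E := E₀.map S.subtype with hEd
  have hEle : E ≤ S := Subgroup.map_subtype_le E₀
  haveI := finite_of_le hEle
  have hCE : ∀ g : S, (∀ e ∈ E₀, Commute g e) → g ∈ E₀ := by
    intro g hg
    obtain ⟨e, he, heg⟩ := hE.1.2 E (isConj_refl F hEle)
      (show (g : Ω) ∈ centralizerIn S E from ⟨g.2, by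
        rintro _ ⟨e, he, rfl⟩
        exact congrArg Subtype.val (hg e he).eq.symm⟩)
    exact (Subtype.ext heg : e = g) ▸ he
  have hbot : ∀ {j : ℕ}, n - 1 ≤ j → ∀ {x : S}, x ∈ lcs S j → x = 1 := fun hj x hx => by
    rw [h.lcs_top hj, Subgroup.mem_bot] at hx
    exact hx
  have hZ1 : lcs S (n - 2) ≤ E₀ := fun z hz => hCE z fun e _ =>
    commutatorElement_eq_one_iff_commute.mp (hbot le_rfl (commutator_mem hz (mem_zero e) (by omega)))
  have hanti : ∀ {i j : ℕ}, i ≤ j → lcs S j ≤ lcs S i :=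
    fun hij => Subgroup.lowerCentralSeries_antitone _ hij
  -- `E₀` and the derived subgroup
  have hEL : E₀ ⊔ lcs S 1 ≠ ⊤ := fun htop => (h.lcs_succ_lt (j := 1) (by omega)).not_ge (by
    show Subgroup.lowerCentralSeries (⊤ : Subgroup S) 1 ≤ _
    rw [Subgroup.lowerCentralSeries_succ, Subgroup.commutator_le]
    intro x _ y _
    refine mk_commutator_eq_one_iff.mp ?_
    set π := QuotientGroup.mk' (lcs S 2)
    have hcen : ∀ z ∈ lcs S 1, ∀ w, Commute (π z) (π w) := fun z hz w =>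
      mk_commutator_eq_one_iff.mpr (commutator_mem hz (mem_zero w) le_rfl)
    have hdec : ∀ w : S, ∃ e ∈ E₀, ∃ z ∈ lcs S 1, e * z = w := fun w => by
      obtain ⟨e, he, z, hz, he'⟩ := Subgroup.mem_sup_of_normal_right.mp (htop.ge (Subgroup.mem_top w))
      exact ⟨e, he, z, hz, he'⟩
    obtain ⟨e, he, z, hz, rfl⟩ := hdec x
    obtain ⟨e', he', z', hz', rfl⟩ := hdec y
    rw [map_mul, map_mul]
    refine Commute.mul_left ?_ ?_
    · exact Commute.mul_right (Commute.map (hcom e he e' he') π) (hcen z' hz' e).symm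
    · exact (hcen z hz e').mul_right (hcen z hz z'))
  -- the data
  suffices hdata : ∃ n₀ ∈ lcs S (n - 4), n₀ ∉ E₀ ∧ ∃ A : Subgroup S, A ≤ E₀ ∧ A ≤ lcs S (n - 4) ∧
      Nat.card A = p ^ 2 ∧ ∃ c ∈ A, (∀ e ∈ E₀, ⁅n₀, e⁆ ∈ Subgroup.zpowers c) ∧
      (∀ g : S, (∀ e ∈ E₀, ⁅g, e⁆ ∈ E₀) → ⁅g, n₀⁆ ∈ E₀) ∧ (∀ g : S, ⁅g, n₀⁆ ∈ A) ∧
      ((lcs S (n - 3) ≤ A ∧ (twoStep S (n - 3) = twoStep S 1 → c ∈ lcs S (n - 2))) ∨
        (¬ lcs S (n - 3) ≤ A ∧ c ∈ lcs S (n - 2) ∧ c ≠ 1 ∧ n₀ ∈ lcs S (n - 3) ∧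
          twoStep S (n - 3) ≠ twoStep S 1)) by
    obtain ⟨n₀, hn₀Z, hn₀, A, hAE, hAZ, hAcard, c, hc, hdisp, hcent, hgA, hcase⟩ := hdata
    have hZab : ∀ x ∈ lcs S (n - 4), ∀ y ∈ lcs S (n - 4), x * y = y * x := by
      intro x hx y hy
      rcases eq_or_lt_of_le h5 with h5' | h6
      · subst h5'
        obtain ⟨a, ha, ha'⟩ := SetLike.exists_of_lt (h.lcs_succ_lt (j := 1) (by omega))
        obtain ⟨i, hi⟩ := h.exists_zpow le_rfl ha ha' (hx : x ∈ lcs S 1)
        obtain ⟨j, hj⟩ := h.exists_zpow le_rfl ha ha' (hy : y ∈ lcs S 1)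
        rw [← map_zpow] at hi hj
        obtain ⟨u, hu, rfl⟩ := (QuotientGroup.mk'_eq_mk' _).mp hi.symm
        obtain ⟨v, hv, rfl⟩ := (QuotientGroup.mk'_eq_mk' _).mp hj.symm
        have hc1 : ∀ w ∈ lcs S 2, ∀ z ∈ lcs S 1, Commute z w := fun w hw z hz =>
          commutatorElement_eq_one_iff_commute.mp (hbot le_rfl (commutator_mem hz hw le_rfl))
        exact ((((Commute.zpow_zpow_self a i j)).mul_right (hc1 v hv _ (zpow_mem ha i))).mul_left
          ((hc1 u hu _ (mul_mem (zpow_mem ha j) (hanti one_le_two hv))).symm)).eq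
      · exact (commutatorElement_eq_one_iff_commute.mp (hbot le_rfl (commutator_mem hx hy (by omega)))).eq
    have hAfix : ∀ a ∈ A, Commute n₀ a := fun a ha => hZab _ hn₀Z _ (hAZ ha)
    obtain ⟨hN, hAmem, φ, hφ, hφE, hφc, hφA, hφx, ⟨d, hd, hdc, hφd⟩, hφφ, hφn⟩ :=
      transvection_setup hS hF hE hcard hcom hexp hn₀
        (fun e he => (Subgroup.zpowers_le.mpr (hAE hc)) (hdisp e he)) hAE hAcard hAfix hc hdisp hcent
    set Z := lcs S (n - 4) with hZd
    have hZcard : Nat.card Z = p ^ 3 := by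
      rw [hZd, h.card_lcs (by omega) (by omega)]; congr 1; omega
    have hAn : ∀ z ∈ Z, ∃ a ∈ A, ∃ i : ℤ, z = a * n₀ ^ i := by
      have hlt : A < A ⊔ Subgroup.zpowers n₀ := lt_of_le_of_ne le_sup_left fun he =>
        hn₀ (hAE (he ▸ Subgroup.mem_sup_right (Subgroup.mem_zpowers n₀)))
      have heq : A ⊔ Subgroup.zpowers n₀ = Z := by
        refine Subgroup.eq_of_le_of_card_ge (sup_le hAZ (Subgroup.zpowers_le.mpr hn₀Z)) ?_
        rw [hZcard, pow_succ', ← hAcard]
        exact CfsgLib.PGroups.prime_mul_card_le hS hlt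
      haveI : IsMulCommutative Z := ⟨⟨fun a b => Subtype.ext (hZab a a.2 b b.2)⟩⟩
      intro z hz
      rw [← heq] at hz
      have hn' : Subgroup.zpowers n₀ ≤ Subgroup.normalizer (A : Set S) := by
        refine Subgroup.zpowers_le.mpr (mem_normalizer fun a ha => ?_)
        rw [(hAfix a ha).eq, mul_inv_cancel_right]
        exact ha
      obtain ⟨a, ha, b, hb, hab⟩ :=
        (Set.ext_iff.mp (Subgroup.coe_mul_of_right_le_normalizer_left A (Subgroup.zpowers n₀) hn').symm z).mpr hz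
      obtain ⟨i, rfl⟩ := Subgroup.mem_zpowers_iff.mp hb
      exact ⟨a, ha, i, hab.symm⟩
    have hAnorm : ∀ g : S, (∀ e ∈ E₀, ⁅g, e⁆ ∈ E₀) → g ∈ E₀ ⊔ Subgroup.zpowers n₀ := hN
    set U := E₀ ⊔ Subgroup.zpowers n₀ with hUd
    have hZU : Z ≤ U := fun z hz => by
      obtain ⟨a, ha, i, rfl⟩ := hAn z hz
      exact mul_mem (Subgroup.mem_sup_left (hAE ha))
        (Subgroup.mem_sup_right (Subgroup.zpow_mem _ (Subgroup.mem_zpowers n₀) i))
    have hφA' : ∀ a ∈ A, φ a ∈ A := fun a ha => by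
      have := A.mul_mem ha ((Subgroup.zpowers_le.mpr hc) (hφA a ha))
      rwa [mul_inv_cancel_left] at this
    -- the image of `n₀`
    set e' := n₀⁻¹ * φ n₀ with he'd
    have he'A : e' ∈ A := by
      by_contra he'
      -- an element normalizing `U` but not `E₀`
      have hUtop : U ≠ ⊤ := fun htop => hEL (eq_top_iff.mpr (htop ▸ sup_le le_sup_left
        (Subgroup.zpowers_le.mpr (Subgroup.mem_sup_right (hanti (show 1 ≤ n - 4 by omega) hn₀Z)))))
      haveI := hS.isNilpotent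
      obtain ⟨g, hgN, hgU⟩ := SetLike.exists_of_lt
        (Group.normalizerCondition_of_isNilpotent (G := S) U (lt_top_iff_ne_top.mpr hUtop))
      have hn0U : n₀ ∈ U := Subgroup.mem_sup_right (Subgroup.mem_zpowers n₀)
      have hgconj : ∀ u ∈ U, g * u * g⁻¹ ∈ U := fun u hu => (Subgroup.mem_normalizer_iff.mp hgN u).mp hu
      -- `A` is central in `U`
      have hAcen : ∀ a ∈ A, ∀ u ∈ U, Commute a u := fun a ha u hu => by
        have hle : U ≤ Subgroup.centralizer ({a} : Set S) := sup_le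
          (fun e he => Subgroup.mem_centralizer_singleton_iff.mpr (hcom a (hAE ha) e he).symm)
          (Subgroup.zpowers_le.mpr (Subgroup.mem_centralizer_singleton_iff.mpr (hAfix a ha).eq))
        exact (Subgroup.mem_centralizer_singleton_iff.mp (hle hu)).symm
      have hgA' : ∀ a ∈ A, g * a * g⁻¹ ∈ A := fun a ha => by
        have hcu : ∀ u ∈ U, Commute (g * a * g⁻¹) u := fun u hu => by
          have h1 := hAcen a ha (g⁻¹ * u * g⁻¹⁻¹)
            ((Subgroup.mem_normalizer_iff.mp (Subgroup.inv_mem _ hgN) u).mp hu)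
          calc g * a * g⁻¹ * u = g * (a * (g⁻¹ * u * g⁻¹⁻¹)) * g⁻¹ := by group
            _ = g * ((g⁻¹ * u * g⁻¹⁻¹) * a) * g⁻¹ := by rw [h1.eq]
            _ = u * (g * a * g⁻¹) := by group
        exact hAmem _ (hCE _ fun e he => hcu e (Subgroup.mem_sup_left he)) (hcu n₀ hn0U).symm
      -- an element of `E₀` outside `A`
      have hgen : ∀ x ∈ E₀, ∀ y ∈ E₀, y ∉ A → ∃ a ∈ A, ∃ k : ℤ, x = a * y ^ k := by
        intro x hx y hy hyA
        have hlt : A < A ⊔ Subgroup.zpowers y := lt_of_le_of_ne le_sup_left fun he =>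
          hyA (he ▸ Subgroup.mem_sup_right (Subgroup.mem_zpowers y))
        have heq : A ⊔ Subgroup.zpowers y = E₀ := by
          refine Subgroup.eq_of_le_of_card_ge (sup_le hAE (Subgroup.zpowers_le.mpr hy)) ?_
          rw [hcard, pow_succ', ← hAcard]
          exact CfsgLib.PGroups.prime_mul_card_le hS hlt
        have hn' : Subgroup.zpowers y ≤ Subgroup.normalizer (A : Set S) := by
          refine Subgroup.zpowers_le.mpr (mem_normalizer fun a ha => ?_)
          rw [hcom y hy a (hAE ha), mul_inv_cancel_right]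
          exact ha
        rw [← heq] at hx
        obtain ⟨a, ha, b, hb, hab⟩ :=
          (Set.ext_iff.mp (Subgroup.coe_mul_of_right_le_normalizer_left A (Subgroup.zpowers y) hn').symm x).mpr hx
        obtain ⟨k, rfl⟩ := Subgroup.mem_zpowers_iff.mp hb
        exact ⟨a, ha, k, hab.symm⟩
      have he'Z : e' ∉ Z := fun hz => he' (hAmem e' hφn (hZab _ hn₀Z _ hz))
      -- `g` moves `e'` by an element of `Z`
      have hdecU : ∀ u ∈ U, ∃ z ∈ Z, ∃ k : ℤ, u = z * e' ^ k := by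
        have hle : U ≤ Z ⊔ Subgroup.zpowers e' := sup_le (fun x hx => by
            obtain ⟨a, ha, k, rfl⟩ := hgen x hx e' hφn he'
            exact mul_mem (Subgroup.mem_sup_left (hAZ ha))
              (Subgroup.mem_sup_right (Subgroup.zpow_mem _ (Subgroup.mem_zpowers e') k)))
          (Subgroup.zpowers_le.mpr (Subgroup.mem_sup_left hn₀Z))
        intro u hu
        obtain ⟨z, hz, b, hb, hzb⟩ := Subgroup.mem_sup_of_normal_left.mp (hle hu)
        obtain ⟨k, rfl⟩ := Subgroup.mem_zpowers_iff.mp hb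
        exact ⟨z, hz, k, hzb.symm⟩
      set πZ := QuotientGroup.mk' Z
      obtain ⟨z₁, hz₁, k, hk⟩ := hdecU _ (hgconj e' (Subgroup.mem_sup_left hφn))
      have hπk : πZ g * πZ e' * (πZ g)⁻¹ = πZ e' ^ k := by
        rw [← map_inv, ← map_mul, ← map_mul, hk, map_mul, mk_eq_one hz₁, one_mul, map_zpow]
      have hπp : πZ e' ^ (p : ℤ) = 1 := by
        rw [zpow_natCast, ← map_pow, hexp e' hφn, map_one]
      have hord : orderOf (πZ e') = p := orderOf_eq_prime (by rwa [zpow_natCast] at hπp)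
        (fun hh => he'Z ((QuotientGroup.eq_one_iff _).mp hh))
      have hiter : ∀ r : ℕ, πZ g ^ r * πZ e' * (πZ g ^ r)⁻¹ = πZ e' ^ (k ^ r) := by
        intro r
        induction r with
        | zero => simp
        | succ r ih =>
          calc πZ g ^ (r + 1) * πZ e' * (πZ g ^ (r + 1))⁻¹
              = πZ g * (πZ g ^ r * πZ e' * (πZ g ^ r)⁻¹) * (πZ g)⁻¹ := by
                rw [pow_succ', mul_inv_rev]; simp only [mul_assoc]
            _ = πZ e' ^ (k ^ (r + 1)) := by
                rw [ih, ← conj_zpow, hπk, ← zpow_mul, pow_succ']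
      obtain ⟨r, hr⟩ := hS g
      have hk1 : (p : ℤ) ∣ k - 1 := by
        have h1 := hiter (p ^ r)
        rw [← map_pow, hr, map_one, one_mul, inv_one, mul_one] at h1
        have h2 : πZ e' ^ (k ^ p ^ r - 1) = 1 := by rw [zpow_sub, ← h1, zpow_one, mul_inv_cancel]
        have h3 := orderOf_dvd_iff_zpow_eq_one.mpr h2
        rw [hord, ← ZMod.intCast_zmod_eq_zero_iff_dvd] at h3
        rw [← ZMod.intCast_zmod_eq_zero_iff_dvd]
        push_cast at h3 ⊢
        rwa [ZMod.pow_card_pow] at h3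
      obtain ⟨z₂, hz₂, hgz⟩ : ∃ z ∈ Z, g * e' * g⁻¹ = z * e' := by
        refine ⟨g * e' * g⁻¹ * e'⁻¹, ?_, (inv_mul_cancel_right _ _).symm⟩
        rw [← QuotientGroup.eq_one_iff]
        show πZ _ = 1
        obtain ⟨m, hm⟩ := hk1
        rw [map_mul, map_mul, map_mul, map_inv, map_inv, hπk, show k = (p : ℤ) * m + 1 by omega,
          zpow_add, zpow_mul, hπp, one_zpow, one_mul, zpow_one, mul_inv_cancel]
      obtain ⟨a₁, ha₁, i, rfl⟩ := hAn z₂ hz₂
      -- `p` does not divide `i`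
      have hnp : n₀ ^ (p : ℤ) ∈ A := by
        rw [zpow_natCast]
        exact hAmem _ (hCE _ fun e he => by
          refine commutatorElement_eq_one_iff_commute.mp ?_
          obtain ⟨j, hj⟩ := Subgroup.mem_zpowers_iff.mp (hdisp e he)
          have hcc : ∀ w ∈ E₀, w * n₀ = n₀ * w → Commute n₀ w := fun w _ hw => hw.symm
          have hconj : n₀ * e * n₀⁻¹ = c ^ j * e := by
            rw [hj, commutatorElement_def, inv_mul_cancel_right]
          have hpow : ∀ m : ℕ, n₀ ^ m * e * (n₀ ^ m)⁻¹ = c ^ (j * m) * e := by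
            intro m
            induction m with
            | zero => simp
            | succ m ihm =>
              calc n₀ ^ (m + 1) * e * (n₀ ^ (m + 1))⁻¹
                  = n₀ * (n₀ ^ m * e * (n₀ ^ m)⁻¹) * n₀⁻¹ := by
                    rw [pow_succ', mul_inv_rev]; simp only [mul_assoc]
                _ = n₀ * c ^ (j * m) * n₀⁻¹ * (n₀ * e * n₀⁻¹) := by rw [ihm]; group
                _ = c ^ (j * ((m + 1 : ℕ) : ℤ)) * e := by
                    rw [((hAfix c hc).zpow_right _).eq, mul_inv_cancel_right, hconj, ← mul_assoc,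
                      ← zpow_add]
                    congr 2
                    push_cast
                    ring
          rw [commutatorElement_def, hpow p, mul_inv_cancel_right, mul_comm j, zpow_mul,
            zpow_natCast, hexp c (hAE hc), one_zpow]) ((Commute.self_pow n₀ p))
      have hi : ¬ (p : ℤ) ∣ i := by
        rintro ⟨m, rfl⟩
        refine hgU (hAnorm g fun x hx => ?_)
        obtain ⟨a, ha, j, rfl⟩ := hgen x hx e' hφn he'
        have hz : a₁ * n₀ ^ ((p : ℤ) * m) * e' ∈ E₀ := by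
          rw [zpow_mul]
          exact E₀.mul_mem (E₀.mul_mem (hAE ha₁) (hAE (A.zpow_mem hnp m))) hφn
        rw [commutatorElement_def]
        refine E₀.mul_mem ?_ (E₀.inv_mem hx)
        rw [show g * (a * e' ^ j) * g⁻¹ = g * a * g⁻¹ * (g * e' * g⁻¹) ^ j by rw [conj_zpow]; group, hgz]
        exact E₀.mul_mem (hAE (hgA' a ha)) (E₀.zpow_mem hz j)
      -- conjugates of `e'` by powers of `g`
      have hgn : ∃ a ∈ A, g * n₀ * g⁻¹ = a * n₀ :=
        ⟨⁅g, n₀⁆, hgA g, by rw [commutatorElement_def, inv_mul_cancel_right]⟩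
      obtain ⟨a₂, ha₂, hgn⟩ := hgn
      have horb : ∀ r : ℕ, ∃ a ∈ A, g ^ r * e' * (g ^ r)⁻¹ = a * n₀ ^ (i * r) * e' := by
        intro r
        induction r with
        | zero => exact ⟨1, A.one_mem, by simp⟩
        | succ r ih =>
          obtain ⟨a, ha, hr'⟩ := ih
          refine ⟨g * a * g⁻¹ * a₂ ^ (i * r) * a₁, A.mul_mem (A.mul_mem (hgA' a ha)
            (A.zpow_mem ha₂ _)) ha₁, ?_⟩
          calc g ^ (r + 1) * e' * (g ^ (r + 1))⁻¹
              = g * (g ^ r * e' * (g ^ r)⁻¹) * g⁻¹ := by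
                rw [pow_succ', mul_inv_rev]; simp only [mul_assoc]
            _ = (g * a * g⁻¹) * (g * n₀ * g⁻¹) ^ (i * r) * (g * e' * g⁻¹) := by
                rw [hr', conj_zpow]; group
            _ = g * a * g⁻¹ * a₂ ^ (i * r) * (n₀ ^ (i * r) * a₁) * n₀ ^ i * e' := by
                rw [hgn, hgz, (hAfix a₂ ha₂).symm.mul_zpow]
                simp only [mul_assoc]
            _ = _ := by
                rw [((hAfix a₁ ha₁).zpow_left _).eq]
                simp only [mul_assoc]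
                congr 5
                rw [← mul_assoc, ← zpow_add]
                congr 2
                push_cast
                ring
      obtain ⟨u, v, huv⟩ := (Int.prime_iff_natAbs_prime.mpr (by simpa using hp.out) :
        Prime (p : ℤ)).coprime_iff_not_dvd.mpr hi
      set r := (v % (p : ℤ)).toNat with hrd
      have hr' : (p : ℤ) ∣ i * (r : ℤ) - 1 := by
        rw [hrd, Int.toNat_of_nonneg (Int.emod_nonneg _ (by exact_mod_cast hp.out.ne_zero)),
          Int.emod_def]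
        exact ⟨-u - i * (v / (p : ℤ)), by linarith [huv]⟩
      obtain ⟨a₃, ha₃, hr3⟩ := horb r
      set K := E₀.map (MulAut.conj (g ^ r)).toMonoidHom
      have hAK : A ≤ K := by
        intro a ha
        haveI := h.finite
        have hle : A.map (MulAut.conj g).toMonoidHom ≤ A := by
          rintro _ ⟨x, hx, rfl⟩; exact hgA' x hx
        have hAmap : ∀ m : ℕ, A.map (MulAut.conj (g ^ m)).toMonoidHom = A := by
          intro m
          refine Subgroup.eq_of_le_of_card_ge ?_ (by rw [Subgroup.card_map_of_injective (MulEquiv.injective _)])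
          induction m with
          | zero => rintro _ ⟨x, hx, rfl⟩; simpa using hx
          | succ m ihm =>
            rintro _ ⟨x, hx, rfl⟩
            have := hgA' _ (ihm ⟨x, hx, rfl⟩)
            rw [pow_succ', map_mul]
            exact this
        obtain ⟨x, hx, rfl⟩ := (hAmap r).ge ha
        exact ⟨x, hAE hx, rfl⟩
      have hne' : n₀ * e' ∈ K := by
        obtain ⟨m, hm⟩ := hr'
        have h1 : g ^ r * e' * (g ^ r)⁻¹ ∈ K := ⟨e', hφn, rfl⟩
        rw [hr3, show i * (r : ℤ) = (p : ℤ) * m + 1 by omega, zpow_add, zpow_mul, zpow_one] at h1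
        have h2 : a₃ * ((n₀ ^ (p : ℤ)) ^ m) ∈ K := hAK (A.mul_mem ha₃ (A.zpow_mem hnp m))
        have := K.mul_mem (K.inv_mem h2) h1
        simpa [mul_assoc] using this
      have hmapK : ∀ z ∈ Z, φ z ∈ K := fun z hz => by
        obtain ⟨a, ha, m, rfl⟩ := hAn z hz
        rw [hφ.map_mul (Subgroup.mem_sup_left (hAE ha)) (Subgroup.zpow_mem _ hn0U m),
          hφ.map_zpow hn0U, show φ n₀ = n₀ * e' from (mul_inv_cancel_left _ _).symm]
        exact K.mul_mem (hAK (hφA' a ha)) (K.zpow_mem hne' m)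
      have hrep := (hφ.mono hZU).comp (Rep.conj F K (g ^ r)⁻¹) hmapK
      have hconj : F.IsConj (Z.map S.subtype) E := hrep.isConj (fun z hz => by
        obtain ⟨x, hx, hxe⟩ := hmapK z hz
        show (g ^ r)⁻¹ * φ z * (g ^ r)⁻¹⁻¹ ∈ E₀
        rw [← (show g ^ r * x * (g ^ r)⁻¹ = φ z from hxe)]
        simpa [mul_assoc] using hx) (by rw [hcard, hZcard])
      have hfn := hE.2.1.2 (Z.map S.subtype) (CfsgLib.Alperin.IsConj.symm hconj)
      haveI := finite_of_le (Subgroup.map_subtype_le (H := S) Z)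
      have hSle : S ≤ normalizerIn S (Z.map S.subtype) := fun s hs => ⟨hs,
        mem_normalizer (by
          rintro _ ⟨z, hz, rfl⟩
          exact ⟨⟨s, hs⟩ * z * ⟨s, hs⟩⁻¹, (inferInstance : Z.Normal).conj_mem z hz _, rfl⟩)⟩
      haveI := finite_of_le (normalizerIn_le S (Z.map S.subtype))
      haveI := finite_of_le (normalizerIn_le S E)
      have hEtop : normalizerIn S E = S := Subgroup.eq_of_le_of_card_ge (normalizerIn_le S E)
        ((Subgroup.card_le_of_le hSle).trans hfn)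
      refine hgU (hAnorm g fun x hx => ?_)
      have hgE : (g : Ω) ∈ normalizerIn S E := by rw [hEtop]; exact g.2
      obtain ⟨x', hx', hxx⟩ := mem_normalizer_conj hgE.2 (show (x : Ω) ∈ E from ⟨x, hx, rfl⟩)
      have h2 : x' = g * x * g⁻¹ := Subtype.ext hxx
      rw [commutatorElement_def]
      exact E₀.mul_mem (h2 ▸ hx') (E₀.inv_mem hx)
    -- the automorphism of `Z`
    have hn0U : n₀ ∈ U := Subgroup.mem_sup_right (Subgroup.mem_zpowers n₀)
    have hφn' : φ n₀ = n₀ * e' := (mul_inv_cancel_left _ _).symm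
    have hφZ : ∀ z ∈ Z, φ z ∈ Z := fun z hz => by
      obtain ⟨a, ha, m, rfl⟩ := hAn z hz
      rw [hφ.map_mul (Subgroup.mem_sup_left (hAE ha)) (Subgroup.zpow_mem _ hn0U m),
        hφ.map_zpow hn0U, hφn']
      exact mul_mem (hAZ (hφA' a ha)) (Subgroup.zpow_mem _ (mul_mem hn₀Z (hAZ he'A)) m)
    have hφZ' : Rep F Z φ := hφ.mono hZU
    have hφZA : ∀ z ∈ Z, z⁻¹ * φ z ∈ A := fun z hz => by
      obtain ⟨a, ha, m, rfl⟩ := hAn z hz
      have hcomm : Commute n₀ e' := hAfix e' he'A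
      rw [hφ.map_mul (Subgroup.mem_sup_left (hAE ha)) (Subgroup.zpow_mem _ hn0U m),
        hφ.map_zpow hn0U, hφn', hcomm.mul_zpow, mul_inv_rev]
      have h1 : Commute (n₀ ^ m) (a⁻¹ * φ a) := (hAfix _ (A.mul_mem (A.inv_mem ha) (hφA' a ha))).zpow_left m
      have e2 : (n₀ ^ m)⁻¹ * a⁻¹ * (φ a * (n₀ ^ m * e' ^ m)) = a⁻¹ * φ a * e' ^ m := by
        calc (n₀ ^ m)⁻¹ * a⁻¹ * (φ a * (n₀ ^ m * e' ^ m))
            = (n₀ ^ m)⁻¹ * ((a⁻¹ * φ a) * n₀ ^ m) * e' ^ m := by group
          _ = a⁻¹ * φ a * e' ^ m := by rw [← h1.eq, inv_mul_cancel_left]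
      rw [e2]
      exact A.mul_mem (A.mul_mem (A.inv_mem ha) (hφA' a ha)) (A.zpow_mem he'A m)
    have hZ2A : Nat.card (lcs S (n - 3)) = p ^ 2 := by
      rw [h.card_lcs (by omega) (by omega)]; congr 1; omega
    have hcne : c ≠ 1 := fun hc1 => hn₀ (hCE n₀ fun e he => by
      have := hdisp e he
      rw [hc1, Subgroup.zpowers_one_eq_bot, Subgroup.mem_bot] at this
      exact commutatorElement_eq_one_iff_commute.mp this)
    obtain ⟨z₀, hz₀, hz₀'⟩ := SetLike.exists_of_lt (h.lcs_succ_lt (j := n - 2) le_rfl)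
    have hZgen : ∀ {z : S}, z ∈ lcs S (n - 2) → z ≠ 1 → ∀ w ∈ lcs S (n - 2), ∃ m : ℤ, w = z ^ m := by
      intro z hz hz1 w hw
      obtain ⟨m, hm⟩ := h.exists_zpow (j := n - 2) (by omega) hz
        (fun hh => hz1 (hbot (by omega) hh)) hw
      refine ⟨m, ?_⟩
      rw [← map_zpow] at hm
      obtain ⟨u, hu, hu'⟩ := (QuotientGroup.mk'_eq_mk' _).mp hm
      rw [hbot (by omega) hu, mul_one] at hu'
      exact hu'
    -- signs
    obtain ⟨α, hα, hαZ, k, hk, h3, h2, h1, hdeg⟩ : ∃ α : S → S, Rep F Z α ∧ (∀ z ∈ Z, α z ∈ Z) ∧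
        ∃ k : ℤ, (k = 1 ∨ k = -1) ∧ (∀ x ∈ Z, x⁻¹ * α x ∈ lcs S (n - 3)) ∧
          (∀ x ∈ lcs S (n - 3), (x ^ (-k))⁻¹ * α x ∈ lcs S (n - 2)) ∧
          (∀ x ∈ lcs S (n - 2), α x = x ^ k) ∧ (twoStep S (n - 3) = twoStep S 1 → k = -1) := by
      have hZ2Z : lcs S (n - 3) ≤ Z := hanti (by omega)
      rcases hcase with ⟨hle, hcdeg⟩ | ⟨-, hcZ, -, hn2, hne⟩
      · have hAeq : A = lcs S (n - 3) :=
          (Subgroup.eq_of_le_of_card_ge hle (by rw [hAcard, hZ2A])).symm
        subst hAeq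
        have hinvol : ∀ a ∈ lcs S (n - 3), φ (φ a) = a := fun a ha => hφφ a (hAE ha)
        -- reduce to an automorphism fixing the centre
        suffices hmain : ∃ α : S → S, Rep F Z α ∧ (∀ z ∈ Z, α z ∈ Z) ∧
            (∀ x ∈ Z, x⁻¹ * α x ∈ lcs S (n - 3)) ∧
            (∀ x ∈ lcs S (n - 2), α x ∈ lcs S (n - 2)) ∧
            (∀ a ∈ lcs S (n - 3), α (α a) = a) ∧
            ∃ c' ∈ lcs S (n - 3), c' ≠ 1 ∧ α c' = c'⁻¹ ∧ (∀ a ∈ lcs S (n - 3), a⁻¹ * α a ∈ Subgroup.zpowers c') ∧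
              ∃ d' ∈ lcs S (n - 3), d' ∉ Subgroup.zpowers c' ∧ α d' = d' ∧
              (twoStep S (n - 3) = twoStep S 1 → c' ∈ lcs S (n - 2)) by
          obtain ⟨α, hα, hαZ, h3, hα1, hαα, c', hc', hc'1, hαc, hαA, d', hd', hd'c, hαd, hdeg'⟩ := hmain
          refine ⟨α, hα, hαZ, ?_⟩
          have hz₀1 : z₀ ≠ 1 := fun hh => hz₀' (hh ▸ one_mem _)
          by_cases hcZ : c' ∈ lcs S (n - 2)
          · refine ⟨-1, Or.inr rfl, h3, fun x hx => ?_, fun x hx => ?_, fun _ => rfl⟩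
            · rw [neg_neg, zpow_one]
              exact (Subgroup.zpowers_le.mpr hcZ) (hαA x hx)
            · obtain ⟨m, rfl⟩ := hZgen hcZ hc'1 x hx
              rw [hα.map_zpow (hZ2Z hc'), hαc, inv_zpow', ← zpow_mul, mul_neg_one]
          · -- then the centre is fixed
            have hfix : ∀ x ∈ lcs S (n - 2), α x = x := by
              intro x hx
              obtain ⟨i, hi⟩ := Subgroup.mem_zpowers_iff.mp (hαA x (hanti (by omega) hx))
              have hmem : c' ^ i ∈ lcs S (n - 2) := by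
                rw [hi]; exact mul_mem (inv_mem hx) (hα1 x hx)
              by_cases hci : c' ^ i = 1
              · rw [hci] at hi
                exact (inv_mul_eq_one.mp hi.symm).symm
              · exfalso
                exact hcZ ((Subgroup.zpowers_le.mpr hmem) (Transvection.mem_zpowers_of_mem (p := p)
                  (hexp c' (hAE hc')) ⟨i, rfl⟩ hci))
            refine ⟨1, Or.inl rfl, h3, fun x hx => ?_, fun x hx => by rw [zpow_one]; exact hfix x hx,
              fun hd => absurd (hdeg' hd) hcZ⟩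
            have hlt : lcs S (n - 2) < lcs S (n - 2) ⊔ Subgroup.zpowers c' := lt_of_le_of_ne le_sup_left
              fun he => hcZ (he ▸ Subgroup.mem_sup_right (Subgroup.mem_zpowers c'))
            have heq : lcs S (n - 2) ⊔ Subgroup.zpowers c' = lcs S (n - 3) := by
              refine Subgroup.eq_of_le_of_card_ge (sup_le (hanti (by omega)) (Subgroup.zpowers_le.mpr hc')) ?_
              rw [hZ2A, pow_two]
              refine le_trans (Nat.mul_le_mul_left p (le_of_eq ?_)) (CfsgLib.PGroups.prime_mul_card_le hS hlt)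
              rw [h.card_lcs (by omega) (by omega), show n - 1 - (n - 2) = 1 by omega, pow_one]
            obtain ⟨a, ha, b, hb, rfl⟩ := Subgroup.mem_sup_of_normal_left.mp (heq.ge hx)
            obtain ⟨i, rfl⟩ := Subgroup.mem_zpowers_iff.mp hb
            have hca : Commute a (c' ^ i) :=
              hcom a (hZ1 ha) _ (E₀.zpow_mem (hAE hc') i)
            rw [zpow_neg, zpow_one, inv_inv, hα.map_mul (hZ2Z (hanti (by omega) ha)) (zpow_mem (hZ2Z hc') i),
              hfix a ha, hα.map_zpow (hZ2Z hc'), hαc, inv_zpow', zpow_neg, ← mul_assoc,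
              mul_assoc a (c' ^ i) a, ← hca.eq, ← mul_assoc, mul_inv_cancel_right]
            exact mul_mem ha ha
        by_cases hφZ1 : ∀ x ∈ lcs S (n - 2), φ x ∈ lcs S (n - 2)
        · exact ⟨φ, hφZ', hφZ, hφZA, hφZ1, hinvol, c, hc, hcne, hφc, hφA, d, hd, hdc, hφd, hcdeg⟩
        · -- move the centre to the inverted line
          push_neg at hφZ1
          obtain ⟨z, hz, hzφ⟩ := hφZ1
          have hzne : z ≠ 1 := fun hh => hzφ (hh ▸ by rw [hφ.map_one]; exact one_mem _)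
          have hdeg0 : ¬ twoStep S (n - 3) = twoStep S 1 := fun hd' => by
            have hcz := hcdeg hd'
            obtain ⟨m, hm⟩ := hZgen hcz hcne z hz
            exact hzφ (by rw [hm, hφ.map_zpow (hZU (hAZ hc)), hφc]; exact Subgroup.zpow_mem _ (inv_mem hcz) m)
          have hcnZ : c ∉ lcs S (n - 2) := fun hcz => by
            obtain ⟨m, hm⟩ := hZgen hcz hcne z hz
            exact hzφ (by rw [hm, hφ.map_zpow (hZU (hAZ hc)), hφc]; exact Subgroup.zpow_mem _ (inv_mem hcz) m)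
          set w := φ z with hw
          have hzA : z ∈ lcs S (n - 3) := hanti (by omega) hz
          have hwA : w ∈ lcs S (n - 3) := hφA' z hzA
          obtain ⟨σ, -, hσ⟩ := SetLike.exists_of_lt (lt_top_iff_ne_top.mpr (h.twoStep_ne_top (j := n - 3) le_rfl))
          have hwn : w ∉ lcs S (n - 3 + 1) := by rwa [show n - 3 + 1 = n - 2 by omega]
          have hv : ⁅σ, w⁆ ∈ lcs S (n - 2) := commutator_mem (mem_zero σ) hwA (by omega)
          have hv1 : ⁅σ, w⁆ ≠ 1 := fun hh => hσ (h.mem_twoStep_of_commutator (by omega) hwA hwn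
            (hh ▸ one_mem _))
          -- `c` is a power of `w` times a central element
          obtain ⟨u, hu⟩ := h.exists_zpow (j := n - 3) (by omega) hwA hwn hc
          rw [← map_zpow] at hu
          obtain ⟨zc, hzc, hcw⟩ := (QuotientGroup.mk'_eq_mk' _).mp hu.symm
          rw [show n - 3 + 1 = n - 2 by omega] at hzc
          have hu0 : ¬ (p : ℤ) ∣ u := by
            rintro ⟨m, rfl⟩
            refine hcnZ (hcw ▸ mul_mem ?_ hzc)
            rw [zpow_mul, zpow_natCast, hexp w (hAE hwA), one_zpow]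
            exact one_mem _
          obtain ⟨s, t, hst⟩ := (Int.prime_iff_natAbs_prime.mpr (by simpa using hp.out) :
            Prime (p : ℤ)).coprime_iff_not_dvd.mpr hu0
          -- `c ^ t = w * z'`
          set z' := zc ^ t with hz'
          have hct : c ^ t = w * z' := by
            have hcomwz : Commute (w ^ u) zc := hcom _ (E₀.zpow_mem (hAE hwA) u) _ (hZ1 hzc)
            rw [← hcw, hcomwz.mul_zpow, ← zpow_mul]
            congr 1
            rw [show u * t = (p : ℤ) * (-s) + 1 by linarith, zpow_add, zpow_mul, zpow_natCast,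
              hexp w (hAE hwA), one_zpow, one_mul, zpow_one]
          obtain ⟨j, hj⟩ := hZgen hv hv1 z' (zpow_mem hzc t)
          set γ : S → S := fun x => σ ^ j * φ x * (σ ^ j)⁻¹ with hγd
          have hγ : Rep F Z γ := hφZ'.comp (Rep.conj F Z (σ ^ j)) hφZ
          have hγZ : ∀ x ∈ Z, γ x ∈ Z := fun x hx => (inferInstance : Z.Normal).conj_mem _ (hφZ x hx) _
          have hγA : ∀ a ∈ lcs S (n - 3), γ a ∈ lcs S (n - 3) :=
            fun a ha => (inferInstance : (lcs S (n - 3)).Normal).conj_mem _ (hφA' a ha) _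
          have hγz : γ z = c ^ t := by
            show σ ^ j * w * (σ ^ j)⁻¹ = c ^ t
            rw [hct, hj]
            have hcen : ∀ g, Commute ⁅σ, w⁆ g := fun g =>
              commutatorElement_eq_one_iff_commute.mp (hbot le_rfl (commutator_mem hv (mem_zero g) (by omega)))
            have h1 : ⁅σ ^ j, w⁆ = ⁅σ, w⁆ ^ j := by
              have := commutator_zpow_zpow hcen j 1
              simpa using this
            rw [← ((hcen w).zpow_left j).eq, ← h1, commutatorElement_def]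
            group
          obtain ⟨δ, hδ, hδZ, hδγ, hγδ⟩ := hγ.symm hγZ
          have hδA : ∀ a ∈ lcs S (n - 3), δ a ∈ lcs S (n - 3) := fun a ha => by
            haveI := h.finite
            let f₂ : lcs S (n - 3) → lcs S (n - 3) := fun x => ⟨γ x, hγA x x.2⟩
            have hinj : Function.Injective f₂ := fun x y hxy =>
              Subtype.ext (hγ.inj (hZ2Z x.2) (hZ2Z y.2) (congrArg Subtype.val hxy))
            obtain ⟨b, hb⟩ := Finite.injective_iff_surjective.mp hinj ⟨a, ha⟩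
            have hb' : γ (b : S) = a := congrArg Subtype.val hb
            rw [← hb', hδγ _ (hZ2Z b.2)]
            exact b.2
          set α : S → S := fun x => δ (φ (γ x)) with hαd
          have hαr : Rep F Z α := (hγ.comp hφZ' hγZ).comp hδ fun x hx => hφZ _ (hγZ x hx)
          have hαA : ∀ a ∈ lcs S (n - 3), α a ∈ lcs S (n - 3) :=
            fun a ha => hδA _ (hφA' _ (hγA a ha))
          have hαz : α z = z⁻¹ := by
            show δ (φ (γ z)) = z⁻¹
            rw [hγz, hφ.map_zpow (hZU (hAZ hc)), hφc, inv_zpow, ← hγz,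
              ← hγ.map_inv (hZ2Z hzA), hδγ _ (inv_mem (hZ2Z hzA))]
          have hαzp : ∀ x ∈ lcs S (n - 2), α x ∈ lcs S (n - 2) := fun x hx => by
            obtain ⟨m, rfl⟩ := hZgen hz hzne x hx
            rw [hαr.map_zpow (hZ2Z hzA), hαz]
            exact zpow_mem (inv_mem hz) m
          refine ⟨α, hαr, fun x hx => hδZ _ (hφZ _ (hγZ x hx)), fun x hx => ?_, hαzp, fun a ha => ?_,
            z, hzA, hzne, hαz, fun a ha => ?_, δ d, hδA d hd, fun hdz => ?_, ?_, fun hd' => absurd hd' hdeg0⟩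
          · have h1 := hφZA _ (hγZ x hx)
            have h2 := hδA _ h1
            have hgx := hγZ x hx
            rwa [hδ.map_mul (inv_mem hgx) (hφZ _ hgx), hδ.map_inv hgx, hδγ x hx] at h2
          · show δ (φ (γ (δ (φ (γ a))))) = a
            rw [hγδ _ (hφZ _ (hγZ a (hZ2Z ha))), hinvol _ (hγA a ha), hδγ a (hZ2Z ha)]
          · obtain ⟨i, hi⟩ := Subgroup.mem_zpowers_iff.mp (hφA _ (hγA a ha))
            have hga := hγZ a (hZ2Z ha)
            have ht0 : c ^ i ∈ Subgroup.zpowers (γ z) := by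
              rw [hγz]
              refine (Subgroup.zpowers (c ^ t)).zpow_mem ?_ i
              refine Transvection.mem_zpowers_of_mem (p := p) (hexp c (hAE hc)) ⟨t, rfl⟩ fun hh => hzne ?_
              exact hγ.inj (hZ2Z hzA) Z.one_mem (by rw [hγz, hh, hγ.map_one])
            obtain ⟨l, hl⟩ := Subgroup.mem_zpowers_iff.mp ht0
            refine ⟨l, ?_⟩
            show z ^ l = a⁻¹ * δ (φ (γ a))
            rw [← hδγ (z ^ l) (zpow_mem (hZ2Z hzA) l), hγ.map_zpow (hZ2Z hzA), hl, hi,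
              hδ.map_mul (inv_mem hga) (hφZ _ hga), hδ.map_inv hga, hδγ a (hZ2Z ha)]
          · obtain ⟨l, hl⟩ := Subgroup.mem_zpowers_iff.mp hdz
            refine hdc ⟨t * l, ?_⟩
            show c ^ (t * l) = d
            rw [zpow_mul, ← hγz, ← hγ.map_zpow (hZ2Z hzA), hl, hγδ d (hZ2Z hd)]
          · show δ (φ (γ (δ d))) = δ d
            rw [hγδ d (hZ2Z hd), hφd]
      · -- `c` central
        have hit : ∀ j : ℕ, Rep F Z (φ^[j + 1]) ∧ (∀ z ∈ Z, φ^[j + 1] z ∈ Z) := by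
          intro j
          induction j with
          | zero => exact ⟨hφZ', hφZ⟩
          | succ j ih =>
            rw [Function.iterate_succ']
            exact ⟨ih.1.comp hφZ' ih.2, fun z hz => hφZ _ (ih.2 z hz)⟩
        have hcn : ∀ x, x ∈ Subgroup.zpowers c → x ∈ lcs S (n - 2) :=
          fun x hx => (Subgroup.zpowers_le.mpr hcZ) hx
        have hmodA : ∀ a ∈ A, ∀ j : ℕ, φ^[j] a ∈ A ∧ a⁻¹ * φ^[j] a ∈ lcs S (n - 2) := by
          intro a ha j
          induction j with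
          | zero => exact ⟨ha, by simp⟩
          | succ j ih =>
            rw [Function.iterate_succ_apply']
            refine ⟨hφA' _ ih.1, ?_⟩
            have := mul_mem ih.2 (hcn _ (hφA _ ih.1))
            rwa [mul_assoc, mul_inv_cancel_left] at this
        have hn0 : ∀ j : ℕ, (n₀ * e' ^ j)⁻¹ * φ^[j] n₀ ∈ lcs S (n - 2) ∧ φ^[j] n₀ ∈ U := by
          intro j
          induction j with
          | zero => exact ⟨by simp, hn0U⟩
          | succ j ih =>
            rw [Function.iterate_succ_apply']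
            obtain ⟨ih1, ih2⟩ := ih
            have e1 : φ^[j] n₀ = n₀ * e' ^ j * ((n₀ * e' ^ j)⁻¹ * φ^[j] n₀) := (mul_inv_cancel_left _ _).symm
            have hlZ : ∀ x ∈ lcs S (n - 2), x ∈ U := fun x hx => Subgroup.mem_sup_left (hZ1 hx)
            have hz' : φ ((n₀ * e' ^ j)⁻¹ * φ^[j] n₀) ∈ lcs S (n - 2) := by
              obtain ⟨m, hm⟩ := hZgen hcZ hcne _ ih1
              rw [hm, hφ.map_zpow (hlZ c hcZ), hφc]
              exact zpow_mem (inv_mem hcZ) m
            have he'U : e' ^ j ∈ U := pow_mem (Subgroup.mem_sup_left (hAE he'A)) j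
            refine ⟨?_, ?_⟩
            · rw [e1, hφ.map_mul (mul_mem hn0U he'U) (hlZ _ ih1), hφ.map_mul hn0U he'U, hφn']
              obtain ⟨hm1, hm2⟩ : φ (e' ^ j) ∈ A ∧ (e' ^ j)⁻¹ * φ (e' ^ j) ∈ lcs S (n - 2) :=
                hmodA _ (pow_mem he'A j) 1
              have e2 : (n₀ * e' ^ (j + 1))⁻¹ * (n₀ * e' * φ (e' ^ j) * φ ((n₀ * e' ^ j)⁻¹ * φ^[j] n₀)) =
                  ((e' ^ j)⁻¹ * φ (e' ^ j)) * φ ((n₀ * e' ^ j)⁻¹ * φ^[j] n₀) := by
                rw [pow_succ']; group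
              rw [e2]
              exact mul_mem hm2 hz'
            · have hjA : φ^[j] n₀ ∈ U := ih2
              rw [e1, hφ.map_mul (mul_mem hn0U he'U) (hlZ _ ih1), hφ.map_mul hn0U he'U, hφn']
              exact mul_mem (mul_mem (mul_mem hn0U (Subgroup.mem_sup_left (hAE he'A)))
                (Subgroup.mem_sup_left (hAE (hφA' _ (pow_mem he'A j))))) (hlZ _ hz')
        obtain ⟨j, hj⟩ : ∃ j, p = j + 1 := ⟨p - 1, by have := hp.out.two_le; omega⟩
        obtain ⟨hαr, hαZ⟩ := hit j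
        rw [← hj] at hαr hαZ
        have hmod : ∀ x ∈ Z, x⁻¹ * φ^[p] x ∈ lcs S (n - 2) := fun x hx => by
          obtain ⟨a, ha, m, rfl⟩ := hAn x hx
          have hq : n₀⁻¹ * φ^[p] n₀ ∈ lcs S (n - 2) := by
            have := (hn0 p).1
            rwa [hexp e' (hAE he'A), mul_one] at this
          have haZ := hAZ ha
          rw [hαr.map_mul haZ (zpow_mem hn₀Z m), hαr.map_zpow hn₀Z,
            show φ^[p] n₀ = n₀ * (n₀⁻¹ * φ^[p] n₀) from (mul_inv_cancel_left _ _).symm]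
          have hc1 : Commute n₀ (n₀⁻¹ * φ^[p] n₀) := hZab _ hn₀Z _ (hanti (by omega) hq)
          rw [hc1.mul_zpow, mul_inv_rev]
          have hc2 : Commute (n₀ ^ m) (a⁻¹ * φ^[p] a) :=
            (hAfix _ (A.mul_mem (A.inv_mem ha) (hmodA a ha p).1)).zpow_left m
          have e2 : (n₀ ^ m)⁻¹ * a⁻¹ * (φ^[p] a * (n₀ ^ m * (n₀⁻¹ * φ^[p] n₀) ^ m)) =
              a⁻¹ * φ^[p] a * (n₀⁻¹ * φ^[p] n₀) ^ m := by
            calc _ = (n₀ ^ m)⁻¹ * ((a⁻¹ * φ^[p] a) * n₀ ^ m) * (n₀⁻¹ * φ^[p] n₀) ^ m := by group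
              _ = _ := by rw [← hc2.eq, inv_mul_cancel_left]
          rw [e2]
          exact mul_mem (hmodA a ha p).2 (zpow_mem hq m)
        have hpc : φ^[p] c = c⁻¹ := by
          have hev : ∀ m : ℕ, φ^[2 * m + 1] c = c⁻¹ := by
            intro m
            induction m with
            | zero => simpa using hφc
            | succ m ihm =>
              rw [show 2 * (m + 1) + 1 = 2 + (2 * m + 1) by ring, Function.iterate_add_apply, ihm]
              show φ (φ c⁻¹) = c⁻¹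
              exact hφφ _ (E₀.inv_mem (hAE hc))
          obtain ⟨m, hm⟩ := hp.out.odd_of_ne_two hp2
          rw [hm]
          exact hev m
        refine ⟨φ^[p], hαr, hαZ, -1, Or.inr rfl, fun x hx => hanti (by omega) (hmod x hx),
          fun x hx => by rw [neg_neg, zpow_one]; exact hmod x (hZ2Z hx), fun x hx => ?_, fun _ => rfl⟩
        obtain ⟨m, rfl⟩ := hZgen hcZ hcne x hx
        rw [hαr.map_zpow (hAZ hc), hpc, inv_zpow', ← zpow_mul, mul_neg_one]
    -- extension to `S`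
    haveI := h.finite
    set Zm := Z.map S.subtype with hZm
    have hZmS : Zm ≤ S := Subgroup.map_subtype_le Z
    haveI := finite_of_le hZmS
    haveI := finite_autGroup F hZmS
    have hZn : S ≤ Subgroup.normalizer (Zm : Set Ω) := fun s hs =>
      mem_normalizer (by
        rintro _ ⟨z, hz, rfl⟩
        exact ⟨⟨s, hs⟩ * z * ⟨s, hs⟩⁻¹, (inferInstance : Z.Normal).conj_mem z hz _, rfl⟩)
    have hZfn : F.IsFullyNormalized Zm := ⟨hZmS, fun Q _ => by
      rw [show normalizerIn S Zm = S from inf_eq_left.mpr hZn]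
      exact Subgroup.card_le_of_le (normalizerIn_le S Q)⟩
    let K₁ : Subgroup Zm := ((lcs S (n - 2)).map S.subtype).subgroupOf Zm
    let K₂ : Subgroup Zm := ((lcs S (n - 3)).map S.subtype).subgroupOf Zm
    have hZcomm : ∀ x y : Zm, x * y = y * x := by
      rintro ⟨_, x, hx, rfl⟩ ⟨_, y, hy, rfl⟩
      exact Subtype.ext (show (x : Ω) * y = y * x from congrArg Subtype.val (hZab x hx y hy))
    haveI : K₁.Normal := ⟨fun x hx g => by rwa [hZcomm g x, mul_inv_cancel_right]⟩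
    haveI : K₂.Normal := ⟨fun x hx g => by rwa [hZcomm g x, mul_inv_cancel_right]⟩
    have h12 : K₁ ≤ K₂ := fun x hx => Subgroup.map_mono (hanti (by omega)) hx
    have hcardK : ∀ j, n - 4 ≤ j → j ≤ n - 1 → Nat.card (((lcs S j).map S.subtype).subgroupOf Zm) =
        p ^ (n - 1 - j) := fun j hj hj' => by
      rw [Nat.card_congr (Subgroup.subgroupOfEquivOfLe (Subgroup.map_mono (hanti hj))).toEquiv,
        Subgroup.card_subtype, h.card_lcs (by omega) hj']
    obtain ⟨a₀, ha₀, hae⟩ := hα.exists_aut hαZ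
    obtain ⟨-, -, R, hR⟩ := centralized_automized_of_fullyNormalized hS hF hZfn
    set U' := (chainStab K₁ K₂ h12).subgroupOf (F.autGroup Zm)
    have hU'p : IsPGroup p U' := fun a => ⟨3, Subtype.ext (Subtype.ext (chainStab_pow
      (isPGroup_of_le hS hZmS) h12
      (by rw [hcardK (n - 2) (by omega) (by omega), show n - 1 - (n - 2) = 1 by omega, pow_one])
      (by rw [hcardK (n - 3) (by omega) (by omega), show n - 1 - (n - 3) = 2 by omega]) a.2))⟩
    have hconjmem : ∀ (s : S) (β : MulAut Zm), (∀ (x : S) (hx : x ∈ Z),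
        ((β ⟨x, x, hx, rfl⟩ : Zm) : Ω) = (s * x * s⁻¹ : S)) → β ∈ chainStab K₁ K₂ h12 := by
      intro s β hβ
      have key : ∀ {i j : ℕ}, n - 4 ≤ i → j ≤ i + 1 → ∀ (x : S) (hx : x ∈ Z), x ∈ lcs S i →
          (⟨(x : Ω), x, hx, rfl⟩ : Zm)⁻¹ * β ⟨x, x, hx, rfl⟩ ∈ ((lcs S j).map S.subtype).subgroupOf Zm := by
        intro i j _ hij x hx hxi
        refine ⟨x⁻¹ * (s * x * s⁻¹), ?_, ?_⟩
        · rw [show x⁻¹ * (s * x * s⁻¹) = ⁅x⁻¹, s⁆ by rw [commutatorElement_def, inv_inv]; group]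
          exact commutator_mem (inv_mem hxi) (mem_zero s) (by omega)
        · show ((x⁻¹ * (s * x * s⁻¹) : S) : Ω) = (x : Ω)⁻¹ * (β ⟨x, x, hx, rfl⟩ : Zm)
          rw [hβ x hx, Subgroup.coe_mul, Subgroup.coe_inv]
      refine ⟨?_, ?_, ?_⟩
      · rintro ⟨_, x, hx, rfl⟩ ⟨y, hy, hyx⟩
        obtain rfl : y = x := Subtype.ext hyx
        refine Subtype.ext ((hβ y hx).trans ?_)
        show ((s * y * s⁻¹ : S) : Ω) = y
        rw [(commutatorElement_eq_one_iff_commute.mp (hbot (j := n - 2 + 1) (by omega)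
          (commutator_mem (mem_zero s) hy (by omega)))).eq, mul_inv_cancel_right]
      · rintro ⟨_, x, hx, rfl⟩ ⟨y, hy, hyx⟩
        obtain rfl : y = x := Subtype.ext hyx
        exact key (i := n - 3) (by omega) (by omega) y hx hy
      · rintro ⟨_, x, hx, rfl⟩
        exact key (i := n - 4) le_rfl (by omega) x hx hx
    have hRU : (R : Subgroup (F.autGroup Zm)) ≤ U' := fun a ha => by
      rw [hR] at ha
      obtain ⟨s, hs, hsx⟩ := mem_autInducedBy_iff.mp (Subgroup.mem_subgroupOf.mp ha)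
      exact hconjmem ⟨s, hs⟩ _ fun x hx => hsx _
    have hUR : U' = (R : Subgroup (F.autGroup Zm)) := R.3 hU'p hRU
    have hstabα : ∀ (x : S) (hx : x ∈ lcs S (n - 2)), α x ∈ lcs S (n - 2) :=
      fun x hx => by rw [h1 x hx]; exact zpow_mem hx k
    have hstab2 : ∀ x ∈ lcs S (n - 3), α x ∈ lcs S (n - 3) := fun x hx => by
      have := mul_mem hx (h3 x (hanti (by omega) hx))
      rwa [mul_inv_cancel_left] at this
    -- `α` normalizes the stabiliser
    have hnormU : ∀ β : MulAut Zm, β ∈ chainStab K₁ K₂ h12 → a₀ * β * a₀⁻¹ ∈ chainStab K₁ K₂ h12 := by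
      intro β hβ
      have hinv : ∀ {j : ℕ}, n - 4 ≤ j → (∀ x ∈ lcs S j, α x ∈ lcs S j) → ∀ z : Zm,
          z ∈ ((lcs S j).map S.subtype).subgroupOf Zm → a₀ z ∈ ((lcs S j).map S.subtype).subgroupOf Zm := by
        rintro j hj hj' ⟨_, x, hx, rfl⟩ ⟨y, hy, hyx⟩
        obtain rfl : y = x := Subtype.ext hyx
        exact ⟨α y, hj' y hy, (hae y hx).symm⟩
      have hinv' : ∀ {j : ℕ}, n - 4 ≤ j → (∀ x ∈ lcs S j, α x ∈ lcs S j) → ∀ z : Zm,
          z ∈ ((lcs S j).map S.subtype).subgroupOf Zm → a₀.symm z ∈ ((lcs S j).map S.subtype).subgroupOf Zm := by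
        intro j hj hj' z hz
        set K := ((lcs S j).map S.subtype).subgroupOf Zm
        have hle : K.map a₀.toMonoidHom ≤ K := by rintro _ ⟨w, hw, rfl⟩; exact hinv hj hj' w hw
        have heq : K.map a₀.toMonoidHom = K :=
          Subgroup.eq_of_le_of_card_ge hle (by rw [Subgroup.card_map_of_injective a₀.injective])
        obtain ⟨w, hw, hwz⟩ := heq.ge hz
        rw [← hwz]
        show a₀.symm (a₀ w) ∈ K
        rwa [MulEquiv.symm_apply_apply]
      refine ⟨fun z hz => ?_, fun z hz => ?_, fun z => ?_⟩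
      · show a₀ (β (a₀.symm z)) = z
        rw [hβ.1 _ (hinv' (by omega) hstabα z hz), MulEquiv.apply_symm_apply]
      · show z⁻¹ * a₀ (β (a₀.symm z)) ∈ K₁
        have := hinv (by omega) hstabα _ (hβ.2.1 _ (hinv' (by omega) hstab2 z hz))
        rwa [map_mul, map_inv, MulEquiv.apply_symm_apply] at this
      · show z⁻¹ * a₀ (β (a₀.symm z)) ∈ K₂
        have := hinv (by omega) hstab2 _ (hβ.2.2 (a₀.symm z))
        rwa [map_mul, map_inv, MulEquiv.apply_symm_apply] at this
    obtain ⟨f, hf, hfα⟩ := hα.extend hαZ (receptive_of_fullyNormalized hS hF hZfn) (R := ⊤) le_top (by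
      intro ψ hψ
      rintro _ ⟨s, -, rfl⟩
      have hsn : ∀ x ∈ Z, s * x * s⁻¹ ∈ Z := fun x hx => (inferInstance : Z.Normal).conj_mem x hx s
      have hτA : conjAut Zm s (hZn s.2) ∈ F.autGroup Zm :=
        autInducedBy_le_autGroup F hZmS (conjAut_mem s.2 (hZn s.2))
      have hmem : a₀ * conjAut Zm s (hZn s.2) * a₀⁻¹ ∈ autInducedBy S Zm := by
        have h4 : (⟨a₀ * conjAut Zm s (hZn s.2) * a₀⁻¹, mul_mem (mul_mem ha₀ hτA) (inv_mem ha₀)⟩ :
            F.autGroup Zm) ∈ (R : Subgroup (F.autGroup Zm)) := by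
          rw [← hUR]
          exact hnormU _ (hconjmem s _ fun x hx => rfl)
        rw [hR] at h4
        exact Subgroup.mem_subgroupOf.mp h4
      obtain ⟨t, ht, htx⟩ := mem_autInducedBy_iff.mp hmem
      refine Rep.mem_extender hψ (s := ⟨t, ht⟩) hsn fun x hx => Subtype.ext ?_
      rw [← hae _ (hsn x hx)]
      have h5' := htx (a₀ ⟨x, x, hx, rfl⟩)
      rw [hae x hx] at h5'
      refine Eq.trans ?_ h5'
      show _ = (a₀ (conjAut Zm s (hZn s.2) (a₀.symm (a₀ ⟨x, x, hx, rfl⟩))) : Zm).1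
      rw [MulEquiv.symm_apply_apply]
      rfl)
    let fh : S →* S := MonoidHom.mk' f fun x y => hf.map_mul (Subgroup.mem_top x) (Subgroup.mem_top y)
    have hfs : Function.Surjective fh := Finite.injective_iff_surjective.mp
      fun x y e => hf.inj (Subgroup.mem_top x) (Subgroup.mem_top y) e
    refine h.false_of_signs hp2 h5 fh hfs hk (fun x hx => ?_) (fun x hx => ?_) (fun x hx => ?_) hdeg
    · show x⁻¹ * f x ∈ _
      rw [hfα x hx]; exact h3 x hx
    · show (x ^ (-k))⁻¹ * f x ∈ _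
      rw [hfα x (hanti (by omega) hx)]; exact h2 x hx
    · show f x = x ^ k
      rw [hfα x (hanti (by omega) hx)]; exact h1 x hx
  -- existence of the data
  have hZ3card : Nat.card (lcs S (n - 4)) = p ^ 3 := by
    rw [h.card_lcs (by omega) (by omega)]; congr 1; omega
  have hZ2card : Nat.card (lcs S (n - 3)) = p ^ 2 := by
    rw [h.card_lcs (by omega) (by omega)]; congr 1; omega
  have hZ1card : Nat.card (lcs S (n - 2)) = p := by
    rw [h.card_lcs (by omega) (by omega), show n - 1 - (n - 2) = 1 by omega, pow_one]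
  -- `⁅x, ·⁆` on `E₀`
  have hkernel : ∀ (x : S) (D : Subgroup S), (∀ e ∈ E₀, ⁅x, e⁆ ∈ D) → D ≤ E₀ →
      (∀ d ∈ D, Commute x d) →
      ∀ A : Subgroup S, A ≤ E₀ → (∀ a ∈ A, Commute x a) → Nat.card A = p ^ 2 →
      ∀ e₀ ∈ E₀, ¬ Commute x e₀ → ∀ e ∈ E₀, ⁅x, e⁆ ∈ Subgroup.zpowers ⁅x, e₀⁆ := by
    intro x D hD hDE hDx A hA hAx hAc e₀ he₀ hne e he
    have hlt : A < A ⊔ Subgroup.zpowers e₀ := lt_of_le_of_ne le_sup_left fun hh =>
      hne (hAx e₀ (hh ▸ Subgroup.mem_sup_right (Subgroup.mem_zpowers e₀)))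
    have heq : A ⊔ Subgroup.zpowers e₀ = E₀ := by
      refine Subgroup.eq_of_le_of_card_ge (sup_le hA (Subgroup.zpowers_le.mpr he₀)) ?_
      rw [hcard, pow_succ', ← hAc]
      exact CfsgLib.PGroups.prime_mul_card_le hS hlt
    let T : Subgroup S :=
      { carrier := {y | y ∈ E₀ ∧ ⁅x, y⁆ ∈ Subgroup.zpowers ⁅x, e₀⁆}
        one_mem' := ⟨one_mem _, by rw [commutatorElement_one_right]; exact one_mem _⟩
        mul_mem' := fun {a b} ha hb => ⟨mul_mem ha.1 hb.1, by
          have hc : Commute ⁅x, b⁆ a := hcom _ (hDE (hD b hb.1)) a ha.1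
          rw [show ⁅x, a * b⁆ = ⁅x, a⁆ * (a * ⁅x, b⁆ * a⁻¹) by simp only [commutatorElement_def]; group,
            ← hc.eq, mul_inv_cancel_right]
          exact mul_mem ha.2 hb.2⟩
        inv_mem' := fun {a} ha => ⟨inv_mem ha.1, by
          have hc : Commute ⁅x, a⁆ a := hcom _ (hDE (hD a ha.1)) a ha.1
          rw [show ⁅x, a⁻¹⁆ = a⁻¹ * ⁅x, a⁆⁻¹ * a by simp only [commutatorElement_def]; group,
            mul_assoc, (hc.inv_left).eq, inv_mul_cancel_left]
          exact inv_mem ha.2⟩ }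
    have hle : E₀ ≤ T := heq ▸ sup_le (fun a ha => ⟨hA ha, by
      rw [commutatorElement_eq_one_iff_commute.mpr (hAx a ha)]; exact one_mem _⟩)
      (Subgroup.zpowers_le.mpr ⟨he₀, Subgroup.mem_zpowers _⟩)
    exact (hle he).2
  by_cases hZ2 : lcs S (n - 3) ≤ E₀
  · -- the second centre lies in `E₀`
    have hEC : E₀ ≤ twoStep S (n - 3) := fun e he => mem_twoStep.mpr fun y hy => by
      rw [commutatorElement_eq_one_iff_commute.mpr (hcom e he y (hZ2 hy))]
      exact one_mem _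
    have hnot : ¬ lcs S (n - 4) ≤ E₀ := by
      intro hle
      have heq : lcs S (n - 4) = E₀ := Subgroup.eq_of_le_of_card_ge hle (by rw [hcard, hZ3card])
      obtain ⟨y, hyC, hyE, hyg, hyd⟩ : ∃ y, y ∈ twoStep S (n - 3) ∧ y ∉ E₀ ∧
          (∀ g : S, ⁅g, y⁆ ∈ E₀) ∧ ∀ e ∈ E₀, ⁅y, e⁆ ∈ lcs S (n - 2) := by
        rcases eq_or_lt_of_le h5 with h5' | h6
        · subst h5'
          obtain ⟨y, hy, hy1⟩ := h.exists_mem_twoStep (j := 5 - 3) (by omega) le_rfl
          refine ⟨y, hy, by rw [← heq]; exact hy1,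
            fun g => heq ▸ commutator_mem (mem_zero g) (mem_zero y) le_rfl, fun e he => ?_⟩
          have hG : twoStep S 2 = twoStep S 1 := by
            by_contra hne
            exact absurd (h.even_of_ne hne) (by decide)
          rw [← heq] at he
          exact mem_twoStep.mp (hG ▸ hy : y ∈ twoStep S 1) e he
        · obtain ⟨y, hy, hy'⟩ := SetLike.exists_of_lt (h.lcs_succ_lt (j := n - 5) (by omega))
          rw [show n - 5 + 1 = n - 4 by omega] at hy'
          refine ⟨y, lcs_one_le_twoStep _ (hanti (by omega) hy), by rwa [← heq],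
            fun g => heq ▸ commutator_mem (mem_zero g) hy (by omega), fun e he => ?_⟩
          exact commutator_mem hy (heq.ge he) (by omega)
      obtain ⟨e₀, he₀, hne⟩ : ∃ e₀ ∈ E₀, ¬ Commute y e₀ := by
        by_contra! hall
        exact hyE (hCE y hall)
      have hfix : ∀ a ∈ lcs S (n - 3), Commute y a := fun a ha =>
        commutatorElement_eq_one_iff_commute.mp (hbot (j := n - 3 + 2) (by omega) (mem_twoStep.mp hyC a ha))
      obtain ⟨hN, -⟩ := transvection_setup hS hF hE hcard hcom hexp hyE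
        (fun e he => hZ1 (hyd e he)) hZ2 hZ2card hfix (c := ⁅y, e₀⁆)
        (hanti (show n - 3 ≤ n - 2 by omega) (hyd e₀ he₀))
        (hkernel y _ hyd hZ1 (fun d hd => hfix d (hanti (by omega) hd)) _ hZ2 hfix hZ2card e₀ he₀ hne)
        (fun g _ => hyg g)
      obtain ⟨σ, -, hσ⟩ := SetLike.exists_of_lt (lt_top_iff_ne_top.mpr (h.twoStep_ne_top (j := n - 3) le_rfl))
      refine hσ (sup_le hEC (Subgroup.zpowers_le.mpr hyC) (hN σ fun e he => ?_))
      rw [← heq] at he ⊢
      exact hanti (show n - 4 ≤ n - 4 + 1 by omega) (commutator_mem (mem_zero σ) he (by omega))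
    obtain ⟨n₀, hn₀, hn₀E⟩ := SetLike.not_le_iff_exists.mp hnot
    obtain ⟨e₀, he₀, hne⟩ : ∃ e₀ ∈ E₀, ¬ Commute n₀ e₀ := by
      by_contra! hall
      exact hn₀E (hCE n₀ hall)
    have hd : ∀ e ∈ E₀, ⁅n₀, e⁆ ∈ lcs S (n - 3) :=
      fun e _ => commutator_mem hn₀ (mem_zero e) (by omega)
    have hfix : ∀ a ∈ lcs S (n - 3), Commute n₀ a := fun a ha =>
      commutatorElement_eq_one_iff_commute.mp (hbot (j := n - 4 + (n - 3) + 1) (by omega)
        (commutator_mem hn₀ ha le_rfl))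
    refine ⟨n₀, hn₀, hn₀E, lcs S (n - 3), hZ2, hanti (by omega), hZ2card, ⁅n₀, e₀⁆, hd e₀ he₀,
      hkernel n₀ _ hd hZ2 hfix _ hZ2 hfix hZ2card e₀ he₀ hne,
      fun g _ => hZ2 (commutator_mem (mem_zero g) hn₀ (by omega)),
      fun g => commutator_mem (mem_zero g) hn₀ (by omega), Or.inl ⟨le_rfl, fun hdeg => ?_⟩⟩
    have he4 : e₀ ∈ twoStep S (n - 4) := by
      rw [h.twoStep_eq (by omega) le_rfl, ← hdeg]
      exact hEC he₀
    have := mem_twoStep.mp he4 n₀ hn₀
    rw [show n - 4 + 2 = n - 2 by omega] at this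
    rw [← commutatorElement_inv]
    exact inv_mem this
  · -- the second centre is not contained in `E₀`
    obtain ⟨n₀, hn₀, hn₀E⟩ := SetLike.not_le_iff_exists.mp hZ2
    obtain ⟨e₀, he₀, hne⟩ : ∃ e₀ ∈ E₀, ¬ Commute n₀ e₀ := by
      by_contra! hall
      exact hn₀E (hCE n₀ hall)
    have hn₀' : n₀ ∉ lcs S (n - 3 + 1) := fun hh =>
      hn₀E (hZ1 (by rwa [show n - 3 + 1 = n - 2 by omega] at hh))
    have hd : ∀ e ∈ E₀, ⁅n₀, e⁆ ∈ lcs S (n - 2) :=
      fun e _ => commutator_mem hn₀ (mem_zero e) (by omega)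
    -- an element of `E₀` in the derived subgroup but outside the centre
    obtain ⟨u, hu, hu1, hu2⟩ : ∃ u ∈ E₀, u ∈ lcs S 1 ∧ u ∉ lcs S (n - 2) := by
      haveI := h.finite
      by_contra! hall
      let f : E₀ →* S ⧸ lcs S 1 := (QuotientGroup.mk' (lcs S 1)).comp E₀.subtype
      have hker : Nat.card f.ker ≤ p := by
        rw [← hZ1card]
        refine Nat.card_le_card_of_injective (fun x : f.ker => (⟨((x : E₀) : S),
          hall _ (x : E₀).2 ((QuotientGroup.eq_one_iff _).mp x.2)⟩ : lcs S (n - 2))) fun a b hab => ?_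
        exact Subtype.ext (Subtype.ext (congrArg Subtype.val hab :))
      have hq : Nat.card (S ⧸ lcs S 1) = p ^ 2 := by
        have hc := Subgroup.card_eq_card_quotient_mul_card_subgroup (lcs S 1)
        rw [h.card_eq, h.card_lcs le_rfl (by omega), show p ^ n = p ^ 2 * p ^ (n - 1 - 1) by
          rw [← pow_add]; congr 1; omega] at hc
        exact (Nat.eq_of_mul_eq_mul_right (pow_pos hp.out.pos _) hc).symm
      have hrange : f.range ≠ ⊤ := fun htop => hEL (eq_top_iff.mpr fun w _ => by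
        obtain ⟨e, he⟩ := htop.ge (Subgroup.mem_top (QuotientGroup.mk' (lcs S 1) w))
        obtain ⟨z, hz, hzw⟩ := (QuotientGroup.mk'_eq_mk' _).mp (he : QuotientGroup.mk' (lcs S 1) (e : S) = _)
        exact hzw ▸ mul_mem (Subgroup.mem_sup_left e.2) (Subgroup.mem_sup_right hz))
      have hr : Nat.card f.range ≤ p := by
        have hlt := CfsgLib.PGroups.prime_mul_card_le (hS.to_quotient (lcs S 1))
          (lt_top_iff_ne_top.mpr hrange)
        rw [Subgroup.card_top, hq, pow_two] at hlt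
        exact Nat.le_of_mul_le_mul_left hlt hp.out.pos
      have htot : Nat.card f.ker * Nat.card f.range = p ^ 3 := by
        rw [← Subgroup.index_ker f, Subgroup.card_mul_index, hcard]
      have := Nat.mul_le_mul hker hr
      rw [htot] at this
      nlinarith [hp.out.two_le, pow_pos hp.out.pos 2]
    have hu3 : u ∉ lcs S (n - 3) := by
      intro hh
      refine hZ2 ?_
      have hlt : lcs S (n - 2) < lcs S (n - 2) ⊔ Subgroup.zpowers u := lt_of_le_of_ne le_sup_left fun hh' =>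
        hu2 (hh' ▸ Subgroup.mem_sup_right (Subgroup.mem_zpowers u))
      have heq : lcs S (n - 2) ⊔ Subgroup.zpowers u = lcs S (n - 3) := by
        refine Subgroup.eq_of_le_of_card_ge (sup_le (hanti (by omega)) (Subgroup.zpowers_le.mpr hh)) ?_
        rw [hZ2card, pow_two]
        exact le_trans (Nat.mul_le_mul_left p hZ1card.ge) (CfsgLib.PGroups.prime_mul_card_le hS hlt)
      rw [← heq]
      exact sup_le hZ1 (Subgroup.zpowers_le.mpr hu)
    obtain ⟨j, hj1, hj2, huj, huj'⟩ : ∃ j, 1 ≤ j ∧ j ≤ n - 4 ∧ u ∈ lcs S j ∧ u ∉ lcs S (j + 1) := by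
      classical
      have hex : ∃ m, u ∉ lcs S (m + 1) := ⟨n - 4, by rwa [show n - 4 + 1 = n - 3 by omega]⟩
      have hmle : Nat.find hex ≤ n - 4 :=
        Nat.find_min' hex (by rwa [show n - 4 + 1 = n - 3 by omega])
      have hm0 : Nat.find hex ≠ 0 := fun h0 => (h0 ▸ Nat.find_spec hex) hu1
      refine ⟨_, Nat.one_le_iff_ne_zero.mpr hm0, hmle, ?_, Nat.find_spec hex⟩
      have := Nat.find_min hex (m := Nat.find hex - 1) (by omega)
      rw [not_not, Nat.sub_add_cancel (Nat.one_le_iff_ne_zero.mpr hm0)] at this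
      exact this
    have hEG : E₀ ≤ twoStep S 1 := fun e he => by
      rw [← h.twoStep_eq hj1 hj2]
      refine h.mem_twoStep_of_commutator hj1 huj huj' ?_
      rw [commutatorElement_eq_one_iff_commute.mpr (hcom e he u hu)]
      exact one_mem _
    have hdeg : twoStep S (n - 3) ≠ twoStep S 1 := fun hh => hne (by
      have := mem_twoStep.mp (hh ▸ hEG he₀ : e₀ ∈ twoStep S (n - 3)) n₀ hn₀
      exact (commutatorElement_eq_one_iff_commute.mp (hbot (j := n - 3 + 2) (by omega) this)).symm)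
    have hE4 : ∀ z ∈ lcs S (n - 4), ∀ e ∈ E₀, ⁅z, e⁆ ∈ lcs S (n - 2) := fun z hz e he => by
      have h4 : e ∈ twoStep S (n - 4) := by rw [h.twoStep_eq (by omega) le_rfl]; exact hEG he
      have := mem_twoStep.mp h4 z hz
      rw [show n - 4 + 2 = n - 2 by omega] at this
      rw [← commutatorElement_inv]
      exact inv_mem this
    let A : Subgroup S := E₀ ⊓ Subgroup.centralizer ({n₀} : Set S)
    have hAfix : ∀ a ∈ A, Commute n₀ a := fun a ha =>
      (Subgroup.mem_centralizer_singleton_iff.mp ha.2).symm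
    have hAcard : Nat.card A = p ^ 2 := by
      haveI := h.finite
      let f : E₀ →* lcs S (n - 2) :=
        { toFun := fun e => ⟨⁅n₀, e⁆, hd _ e.2⟩
          map_one' := Subtype.ext (commutatorElement_one_right _)
          map_mul' := fun a b => Subtype.ext (by
            show ⁅n₀, (a : S) * b⁆ = ⁅n₀, (a : S)⁆ * ⁅n₀, (b : S)⁆
            have hc : Commute ⁅n₀, (b : S)⁆ (a : S) := hcom _ (hZ1 (hd _ b.2)) _ a.2
            rw [show ⁅n₀, (a : S) * b⁆ = ⁅n₀, (a : S)⁆ * ((a : S) * ⁅n₀, (b : S)⁆ * (a : S)⁻¹) by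
              simp only [commutatorElement_def]; group, ← hc.eq, mul_inv_cancel_right]) }
      have hker : f.ker.map E₀.subtype = A := by
        ext y
        constructor
        · rintro ⟨e, he, rfl⟩
          exact ⟨e.2, Subgroup.mem_centralizer_singleton_iff.mpr
            (commutatorElement_eq_one_iff_commute.mp (congrArg Subtype.val (he : f e = 1))).eq.symm⟩
        · intro hy
          exact ⟨⟨y, hy.1⟩, Subtype.ext (commutatorElement_eq_one_iff_commute.mpr (hAfix y hy)), rfl⟩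
      have hrange : f.range = ⊤ := by
        refine Subgroup.eq_of_le_of_card_ge le_top ?_
        rw [Subgroup.card_top, hZ1card]
        haveI : Nontrivial f.range := Subgroup.nontrivial_iff_exists_ne_one _ |>.mpr
          ⟨f ⟨e₀, he₀⟩, ⟨_, rfl⟩, fun hh =>
            hne (commutatorElement_eq_one_iff_commute.mp (congrArg Subtype.val hh))⟩
        obtain ⟨i, hi, hic⟩ := (((hS.to_subgroup (lcs S (n - 2))).to_subgroup f.range)).nontrivial_iff_card.mp
          inferInstance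
        exact hic ▸ Nat.le_self_pow (by omega) p
      have htot : Nat.card f.ker * Nat.card f.range = p ^ 3 := by
        rw [← Subgroup.index_ker f, Subgroup.card_mul_index, hcard]
      rw [hrange, Subgroup.card_top, hZ1card] at htot
      rw [← hker, Subgroup.card_subtype]
      exact Nat.eq_of_mul_eq_mul_right hp.out.pos (htot.trans (pow_succ p 2))
    have hcent : ∀ g : S, ⁅g, n₀⁆ ∈ lcs S (n - 2) := fun g => commutator_mem (mem_zero g) hn₀ (by omega)
    obtain ⟨hN, -⟩ := transvection_setup hS hF hE hcard hcom hexp hn₀E (fun e he => hZ1 (hd e he))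
      (A := A) inf_le_left hAcard hAfix (c := ⁅n₀, e₀⁆)
      ⟨hZ1 (hd e₀ he₀), Subgroup.mem_centralizer_singleton_iff.mpr
        (commutatorElement_eq_one_iff_commute.mp (hbot le_rfl (commutator_mem (hd e₀ he₀) (mem_zero n₀) (by omega)))).eq⟩
      (hkernel n₀ _ hd hZ1 (fun d hd' => commutatorElement_eq_one_iff_commute.mp
        (hbot le_rfl (commutator_mem hn₀ hd' (by omega)))) _ inf_le_left hAfix hAcard e₀ he₀ hne)
      (fun g _ => hZ1 (hcent g))
    have hn4 : n₀ ∈ lcs S (n - 4) := hanti (by omega) hn₀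
    have hZab' : ∀ x ∈ lcs S (n - 4), Commute n₀ x := fun x hx =>
      commutatorElement_eq_one_iff_commute.mp (hbot le_rfl (commutator_mem hn₀ hx (by omega)))
    have hAZ : A ≤ lcs S (n - 4) := by
      have hle : lcs S (n - 4) ≤ (A ⊓ lcs S (n - 4)) ⊔ Subgroup.zpowers n₀ := fun z hz => by
        have hzU := hN z fun e he => hZ1 (hE4 z hz e he)
        have hn' : Subgroup.zpowers n₀ ≤ Subgroup.normalizer (E₀ : Set S) := by
          haveI := h.finite
          refine Subgroup.zpowers_le.mpr (mem_normalizer fun a ha => ?_)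
          have := E₀.mul_mem (hZ1 (hd a ha)) ha
          rwa [commutatorElement_def, inv_mul_cancel_right] at this
        obtain ⟨e, he, b, hb, heb⟩ :=
          (Set.ext_iff.mp (Subgroup.coe_mul_of_right_le_normalizer_left E₀ (Subgroup.zpowers n₀) hn').symm z).mpr hzU
        have heZ : e ∈ lcs S (n - 4) := by
          have := mul_mem hz (inv_mem ((Subgroup.zpowers_le.mpr hn4) hb))
          rwa [← (heb : e * b = z), mul_inv_cancel_right] at this
        rw [← (heb : e * b = z)]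
        exact mul_mem (Subgroup.mem_sup_left ⟨⟨he, Subgroup.mem_centralizer_singleton_iff.mpr
          (hZab' e heZ).eq.symm⟩, heZ⟩) (Subgroup.mem_sup_right hb)
      haveI := h.finite
      have h1 : p ^ 2 ≤ Nat.card (A ⊓ lcs S (n - 4) : Subgroup S) := by
        have hB : ∀ z ∈ lcs S (n - 4), ∃ a ∈ A ⊓ lcs S (n - 4), ∃ b ∈ Subgroup.zpowers n₀, a * b = z := by
          intro z hz
          have hn' : Subgroup.zpowers n₀ ≤ Subgroup.normalizer ((A ⊓ lcs S (n - 4) : Subgroup S) : Set S) :=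
            Subgroup.zpowers_le.mpr (mem_normalizer fun a ha => by
              rw [(hZab' a ha.2).eq, mul_inv_cancel_right]; exact ha)
          exact (Set.ext_iff.mp (Subgroup.coe_mul_of_right_le_normalizer_left _ _ hn').symm z).mpr (hle hz)
        have hord : Nat.card (Subgroup.zpowers n₀) ≤ p ^ 2 :=
          (Subgroup.card_le_of_le (Subgroup.zpowers_le.mpr hn₀)).trans hZ2card.le
        by_contra hlt
        push_neg at hlt
        have hle1 : Nat.card (A ⊓ lcs S (n - 4) : Subgroup S) ≤ p := by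
          obtain ⟨i, hi⟩ := IsPGroup.iff_card.mp (hS.to_subgroup (A ⊓ lcs S (n - 4)))
          rw [hi] at hlt ⊢
          have hi2 := (Nat.pow_lt_pow_iff_right hp.out.one_lt).mp hlt
          exact (Nat.pow_le_pow_right hp.out.pos (show i ≤ 1 by omega)).trans (pow_one p).le
        have hn0p : Nat.card (Subgroup.zpowers n₀) ≤ p * p := by rw [← pow_two]; exact hord
        -- `n₀ ^ p` lies in the intersection
        have hpmem : n₀ ^ p ∈ A ⊓ lcs S (n - 4) := by
          have hp1 := h.pow_mem_succ (j := n - 3) (by omega) hn₀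
          exact ⟨⟨hZ1 (by rwa [show n - 3 + 1 = n - 2 by omega] at hp1),
            Subgroup.mem_centralizer_singleton_iff.mpr (Commute.pow_self n₀ p).eq⟩, pow_mem hn4 p⟩
        let g : (A ⊓ lcs S (n - 4) : Subgroup S) × Fin p → S := fun q => (q.1 : S) * n₀ ^ (q.2 : ℕ)
        have hsurj : ∀ z ∈ lcs S (n - 4), ∃ q, g q = z := fun z hz => by
          obtain ⟨a, ha, b, hb, hab⟩ := hB z hz
          obtain ⟨m, rfl⟩ := Subgroup.mem_zpowers_iff.mp hb
          have hpz : (p : ℤ) ≠ 0 := by exact_mod_cast hp.out.ne_zero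
          have hlt' := Int.emod_lt_of_pos m (show (0 : ℤ) < p by exact_mod_cast hp.out.pos)
          have hnn := Int.emod_nonneg m hpz
          refine ⟨(⟨a * (n₀ ^ p) ^ (m / (p : ℤ)), mul_mem ha (zpow_mem hpmem _)⟩,
            ⟨(m % (p : ℤ)).toNat, by omega⟩), ?_⟩
          show a * (n₀ ^ p) ^ (m / (p : ℤ)) * n₀ ^ (m % (p : ℤ)).toNat = z
          rw [← hab, ← zpow_natCast n₀ ((m % (p : ℤ)).toNat), Int.toNat_of_nonneg hnn, ← zpow_natCast n₀ p,
            ← zpow_mul, mul_assoc, ← zpow_add, Int.mul_ediv_add_emod]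
        have hcnt : Nat.card (lcs S (n - 4)) ≤ Nat.card ((A ⊓ lcs S (n - 4) : Subgroup S) × Fin p) := by
          have hf : ∀ z : lcs S (n - 4), ∃ q, g q = z := fun z => hsurj z z.2
          choose q hq using hf
          exact Nat.card_le_card_of_injective q fun a b hab => Subtype.ext (by rw [← hq a, hab, hq b])
        rw [hZ3card, Nat.card_prod, Nat.card_fin] at hcnt
        have h3 : p ^ 3 ≤ p * p := hcnt.trans (Nat.mul_le_mul_right p hle1)
        nlinarith [hp.out.two_le, pow_pos hp.out.pos 2]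
      have heq : A ⊓ lcs S (n - 4) = A :=
        Subgroup.eq_of_le_of_card_ge inf_le_left (by rw [hAcard]; exact h1)
      exact fun a ha => (heq.ge ha).2
    refine ⟨n₀, hn4, hn₀E, A, inf_le_left, hAZ, hAcard, ⁅n₀, e₀⁆,
      ⟨hZ1 (hd e₀ he₀), Subgroup.mem_centralizer_singleton_iff.mpr
        (hZab' _ (hanti (by omega) (hd e₀ he₀))).eq.symm⟩,
      hkernel n₀ _ hd hZ1 (fun d hd' => hZab' d (hanti (by omega) hd')) _ inf_le_left hAfix hAcard e₀ he₀ hne,
      fun g _ => hZ1 (hcent g), fun g => ?_, Or.inr ⟨fun hle => hn₀E (hle hn₀).1, hd e₀ he₀,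
        fun hh => hne (commutatorElement_eq_one_iff_commute.mp hh), hn₀, hdeg⟩⟩
    exact ⟨hZ1 (hcent g), Subgroup.mem_centralizer_singleton_iff.mpr
      (hZab' _ (hanti (by omega) (hcent g))).eq.symm⟩

end Main

/-- Non-pearl essential subgroups have order at least `p ^ 4`. -/
theorem card_ge (hS : IsPGroup p S) (hp2 : p ≠ 2) {n : ℕ} (h : Hyp p n S) (h5 : 5 ≤ n)
    (hF : F.IsSaturated p) {E : Subgroup Ω} (hE : F.IsEssential p E)
    (hnp : ¬ ((Nat.card ↥E = p ^ 2 ∧ IsElementaryAbelian p E) ∨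
      (Nat.card ↥E = p ^ 3 ∧ IsExtraspecial p ↥E ∧ Monoid.exponent ↥E = p))) :
    p ^ 4 ≤ Nat.card ↥E := by
  have hEle := hE.2.1.1
  haveI := finite_of_le hEle
  have hEp := isPGroup_of_le hS hEle
  obtain ⟨k, hk⟩ := IsPGroup.iff_card.mp hEp
  rw [hk]
  by_contra hlt
  have hk3 : k ≤ 3 := by
    by_contra hh
    exact hlt (Nat.pow_le_pow_right hp.out.pos (by omega))
  have hle : Nat.card E ≤ p ^ 3 := hk ▸ Nat.pow_le_pow_right hp.out.pos hk3
  have hES : E ≠ S := fun he => by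
    have h1 : Nat.card E = p ^ n := by rw [← h.card_eq, he]
    rw [h1] at hle
    have := (Nat.pow_le_pow_iff_right hp.out.one_lt).mp hle
    omega
  rcases exists_chain_or_exp hp2 hEp hle with ⟨K₁, K₂, hK⟩ | ⟨hgt, hexp⟩
  · exact false_of_chain hS hE hES hK
  have hk1 : 2 ≤ k := by
    by_contra hh
    rw [hk] at hgt
    have := Nat.pow_le_pow_right hp.out.pos (show k ≤ 1 by omega)
    rw [pow_one] at this
    omega
  rcases eq_or_lt_of_le hk1 with h2 | h3
  · subst h2
    exact hnp (Or.inl ⟨hk, ⟨⟨fun a b => commutative_of_card_le_sq hEp hk.le a b⟩⟩,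
      fun a ha => congrArg Subtype.val (hexp ⟨a, ha⟩)⟩)
  obtain rfl : k = 3 := by omega
  by_cases hab : ∀ a b : E, a * b = b * a
  · have heq : (E.subgroupOf S).map S.subtype = E := by
      rw [Subgroup.subgroupOf_map_subtype, inf_eq_left.mpr hEle]
    refine false_of_elementary hS h h5 hp2 hF (E₀ := E.subgroupOf S) (by rwa [heq]) ?_ ?_ ?_
    · rw [← Subgroup.card_subtype, heq, hk]
    · intro x hx y hy
      exact Subtype.ext (congrArg Subtype.val (hab ⟨x, hx⟩ ⟨y, hy⟩) :)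
    · intro x hx
      exact Subtype.ext (congrArg Subtype.val (hexp ⟨x, hx⟩) :)
  push_neg at hab
  obtain ⟨a, b, hab⟩ := hab
  exact hnp (Or.inr ⟨hk, isExtraspecial_of_exp hEp hk hexp hab⟩)

end CfsgLib.FusionExamples.SmallEssential
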